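import Mathlib
import Cfsg.Prelude.Def_Transfer

/-!
# Definitions for helper32's lemma server "N9" (row S4409):
a finite solvable group `S` with `O_{2'}(S) = 1` that is minimal (w.r.t. subgroups of 2-power index)
subject to containing a noncyclic abelian subgroup of order 8 has a normal Sylow 2-subgroup `X`, and
`X` is abelian, extraspecial of order at least 32, `Q8 ∘ (order 4)`, or special with centre of order 4.
-/

set_option autoImplicit false

namespace Cfsg.Agent.Helper32.N9

open Cfsg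

/-- `T` contains no noncyclic abelian subgroup of order 8. -/
def NA8 {G : Type*} [Group G] (T : Subgroup G) : Prop :=
  ¬ ∃ B : Subgroup G, B ≤ T ∧ IsMulCommutative ↥B ∧ ¬ IsCyclic ↥B ∧ Nat.card ↥B = 8

/-- `T` is a four-group. -/
def IsV4 {G : Type*} [Group G] (T : Subgroup G) : Prop :=
  Nat.card ↥T = 4 ∧ ∀ t ∈ T, t ^ 2 = 1

/-- `T` is a quaternion group of order 8. -/
def IsQ8 {G : Type*} [Group G] (T : Subgroup G) : Prop :=
  Nonempty (↥T ≃* QuaternionGroup 2)

/-- The subgroup `N` is `A`-invariant. -/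
def AInv {X : Type*} [Group X] (A : Subgroup (MulAut X)) (N : Subgroup X) : Prop :=
  ∀ φ ∈ A, ∀ x ∈ N, φ x ∈ N

/-- `[X, A]`. -/
def commSub {X : Type*} [Group X] (A : Subgroup (MulAut X)) : Subgroup X :=
  Subgroup.closure {g : X | ∃ φ ∈ A, ∃ x : X, g = x⁻¹ * φ x}

/-- Every proper `A`-invariant subgroup contains no noncyclic abelian subgroup of order 8. -/
def MinH {X : Type*} [Group X] (A : Subgroup (MulAut X)) : Prop :=
  ∀ R : Subgroup X, R ≠ ⊤ → AInv A R → NA8 R

/-- The conclusion of S4409 for the Sylow 2-subgroup, at type level. -/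
def Concl (X : Type*) [Group X] : Prop :=
  IsMulCommutative X ∨
    (Cfsg.IsExtraspecial 2 X ∧ 32 ≤ Nat.card X) ∨
    (∃ X₀ : Subgroup X, X₀.index = 2 ∧ Nonempty (↥X₀ ≃* QuaternionGroup 2) ∧
      X₀ ⊔ Subgroup.centralizer (X₀ : Set X) = ⊤) ∨
    (Cfsg.IsSpecial 2 X ∧ Nat.card (Subgroup.center X) = 4)

theorem NA8.mono {G : Type*} [Group G] {T R : Subgroup G} (h : NA8 R) (hTR : T ≤ R) : NA8 T := by
  rintro ⟨B, hB, h1, h2, h3⟩
  exact h ⟨B, hB.trans hTR, h1, h2, h3⟩

theorem mem_commSub {X : Type*} [Group X] (A : Subgroup (MulAut X)) {φ : MulAut X} (hφ : φ ∈ A)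
    (x : X) : x⁻¹ * φ x ∈ commSub A :=
  Subgroup.subset_closure ⟨φ, hφ, x, rfl⟩

/-- Every subgroup containing `[X, A]` is `A`-invariant. -/
theorem ainv_of_commSub_le {X : Type*} [Group X] (A : Subgroup (MulAut X)) {R : Subgroup X}
    (h : commSub A ≤ R) : AInv A R := by
  intro φ hφ x hx
  have : φ x = x * (x⁻¹ * φ x) := by group
  rw [this]
  exact R.mul_mem hx (h (mem_commSub A hφ x))

end Cfsg.Agent.Helper32.N9
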