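import Mathlib
import Cfsg.Prelude.Def_Transfer
import Cfsg.Prelude.Def_Solvable

/-!
# S4415 (lemma server "C3"): definitions

`S` finite solvable, faithful on `E` over `F_3`, `O_3(S) = 1`, `B = <b>` of order 3 acting on `E`
with one Jordan block of size 3 (and trivially elsewhere), `Q ≅ V_4` normalised, not centralised
by `B`, `B = Z(P)`.  `K = O_{3'}(S)`, `R = [K, B]`.
-/

set_option autoImplicit false

namespace Cfsg.Agent.Helper32.C3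

universe u v

section Basic

variable {G : Type u} [Group G] {V : Type v} [AddCommGroup V] [Module (ZMod 3) V]

/-- the operator `ρ g - 1` -/
noncomputable def dl (ρ : Representation (ZMod 3) G V) (g : G) : Module.End (ZMod 3) V :=
  ρ g - 1

theorem dl_apply (ρ : Representation (ZMod 3) G V) (g : G) (v : V) : dl ρ g v = ρ g v - v := by
  simp [dl]

/-- `C_V(H)`: the vectors fixed by all elements of `H` -/
def fixS (ρ : Representation (ZMod 3) G V) (H : Subgroup G) : Submodule (ZMod 3) V where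
  carrier := {v | ∀ h ∈ H, ρ h v = v}
  add_mem' := by
    intro a c ha hc h hh
    rw [map_add, ha h hh, hc h hh]
  zero_mem' := by
    intro h _
    exact map_zero _
  smul_mem' := by
    intro c v hv h hh
    rw [map_smul, hv h hh]

theorem mem_fixS (ρ : Representation (ZMod 3) G V) (H : Subgroup G) (v : V) :
    v ∈ fixS ρ H ↔ ∀ h ∈ H, ρ h v = v := Iff.rfl

/-- `[V, H]`: the span of all `ρ h v - v`, `h ∈ H` -/
def comS (ρ : Representation (ZMod 3) G V) (H : Subgroup G) : Submodule (ZMod 3) V :=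
  Submodule.span (ZMod 3) {w | ∃ h ∈ H, ∃ v : V, w = ρ h v - v}

theorem sub_mem_comS (ρ : Representation (ZMod 3) G V) (H : Subgroup G) {h : G} (hh : h ∈ H)
    (v : V) : ρ h v - v ∈ comS ρ H :=
  Submodule.subset_span ⟨h, hh, v, rfl⟩

/-- `N` is invariant under the subgroup `H` -/
def Inv (ρ : Representation (ZMod 3) G V) (H : Subgroup G) (N : Submodule (ZMod 3) V) : Prop :=
  ∀ h ∈ H, ∀ v ∈ N, ρ h v ∈ N

/-- `H` acts trivially on `N` -/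
def Triv (ρ : Representation (ZMod 3) G V) (H : Subgroup G) (N : Submodule (ZMod 3) V) : Prop :=
  ∀ h ∈ H, ∀ v ∈ N, ρ h v = v

/-- the Jordan type hypothesis on `b`: `b - 1` has rank 2 and `(b - 1)^2` has rank 1 -/
def Cubic (ρ : Representation (ZMod 3) G V) (b : G) : Prop :=
  Module.finrank (ZMod 3) (LinearMap.range (dl ρ b)) = 2 ∧
    Module.finrank (ZMod 3) (LinearMap.range (dl ρ b * dl ρ b)) = 1

/-- `Q` is a four-group on which `b` acts nontrivially (so `Q<b> ≅ A_4`) -/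
def Four (Q : Subgroup G) (b : G) : Prop :=
  Nat.card Q = 4 ∧ (∀ q ∈ Q, q * q = 1) ∧ (∀ q ∈ Q, b * q * b⁻¹ ∈ Q) ∧ ∃ q ∈ Q, b * q * b⁻¹ ≠ q

end Basic

section Setting

variable {S : Type u} [Group S] [Finite S] {E : Type v} [AddCommGroup E] [Module (ZMod 3) E]
  [Finite E]

/-- the hypotheses of S4415 -/
structure Hyp (ρ : Representation (ZMod 3) S E) (B : Subgroup S) (b : S)
    (E₀ E₁ : Submodule (ZMod 3) E) (Q : Subgroup S) (P : Sylow 3 S) : Prop where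
  solv : Group.IsSolvable S
  faith : Function.Injective ρ
  O3 : Cfsg.pCore 3 S = ⊥
  cardB : Nat.card ↥B = 3
  hb : Subgroup.zpowers b = B
  hE01 : E₀ ⊓ E₁ = ⊥
  hE01' : E₀ ⊔ E₁ = ⊤
  hE1 : ∀ v ∈ E₁, ρ b v = v
  hE0inv : ∀ v ∈ E₀, ρ b v ∈ E₀
  hE0 : Nat.card ↥E₀ = 27
  hind : ∃ v ∈ E₀, ρ b (ρ b v - v) - (ρ b v - v) ≠ 0
  hQ : Cfsg.IsElementaryAbelian 2 Q
  hQ4 : Nat.card ↥Q = 4
  hBQ : B ≤ Subgroup.normalizer (Q : Set S)
  hBQ' : ¬ B ≤ Subgroup.centralizer (Q : Set S)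
  hBZ : (Subgroup.center ↥(P : Subgroup S)).map (P : Subgroup S).subtype = B

/-- the "abstract" configuration: `G = R<b>` acting faithfully and irreducibly on `V` -/
structure Cfg {G : Type u} [Group G] [Finite G] {V : Type v} [AddCommGroup V]
    [Module (ZMod 3) V] [Finite V] (ρ : Representation (ZMod 3) G V) (R Q : Subgroup G) (b : G) :
    Prop where
  faith : Function.Injective ρ
  irred : ∀ N : Submodule (ZMod 3) V, Inv ρ ⊤ N → N = ⊥ ∨ N = ⊤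
  solv : Group.IsSolvable G
  Rn : R.Normal
  Rcop : (Nat.card ↥R).Coprime 3
  b3 : b ^ 3 = 1
  RB : ∀ g : G, ∃ r ∈ R, ∃ i : ℕ, g = r * b ^ i
  comm : ⁅R, Subgroup.zpowers b⁆ = R
  cubic : Cubic ρ b
  QR : Q ≤ R
  four : Four Q b

end Setting

section Cases

variable {G : Type u} [Group G] {V : Type v} [AddCommGroup V] [Module (ZMod 3) V]

/-- the conclusion about `R`: a four-group, or extraspecial of order 32 with an `E_8` -/
def Concl (R : Subgroup G) : Prop :=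
  (Cfsg.IsElementaryAbelian 2 R ∧ Nat.card ↥R = 4) ∨
    (Cfsg.IsExtraspecial 2 ↥R ∧ Nat.card ↥R = 32 ∧
      ∃ A : Subgroup G, A ≤ R ∧ Cfsg.IsElementaryAbelian 2 A ∧ Nat.card ↥A = 8)

/-- case (M): a `G`-normal elementary abelian 2-subgroup of `R` with a non-scalar element -/
def CaseM (ρ : Representation (ZMod 3) G V) (R : Subgroup G) : Prop :=
  ∃ A : Subgroup G, A.Normal ∧ A ≤ R ∧ (∀ a ∈ A, a * a = 1) ∧ ∃ a ∈ A, ρ a ≠ 1 ∧ ρ a ≠ -1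

/-- `G` acts by signed permutation matrices with respect to a basis indexed by `Fin n` -/
def IsMono (ρ : Representation (ZMod 3) G V) (n : ℕ) : Prop :=
  ∃ (e : Module.Basis (Fin n) (ZMod 3) V) (π : G →* Equiv.Perm (Fin n))
    (s : G → Fin n → (ZMod 3)ˣ), ∀ g i, ρ g (e i) = ((s g i : (ZMod 3)ˣ) : ZMod 3) • e (π g i)

/-- `T = O_2(G)`: a `G`-normal 2-subgroup of `R`, self-centralising in `R`, containing every
normal 2-subgroup of `G` -/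
structure IsO2 (R T : Subgroup G) : Prop where
  normal : T.Normal
  le : T ≤ R
  pg : IsPGroup 2 T
  selfc : ∀ r ∈ R, (∀ t ∈ T, r * t = t * r) → r ∈ T
  max : ∀ X : Subgroup G, X.Normal → IsPGroup 2 X → X ≤ T

/-- `T` is "extraspecial-like" with centre `{1, z}`, `z` acting as `-1` -/
structure ESLike (ρ : Representation (ZMod 3) G V) (T : Subgroup G) (z : G) : Prop where
  zT : z ∈ T
  rz : ρ z = -1
  zc : ∀ g : G, g * z = z * g
  comm : ∀ t ∈ T, ∀ u ∈ T, t * u = u * t ∨ t * u = z * (u * t)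
  sq : ∀ t ∈ T, t * t = 1 ∨ t * t = z
  cen : ∀ t ∈ T, (∀ u ∈ T, t * u = u * t) → t = 1 ∨ t = z

/-- the weight structure of the four-group `Q = {1, q₁, q₂, q₃}` on `V` -/
structure QWeights (ρ : Representation (ZMod 3) G V) (Q : Subgroup G) (b : G) (q₁ q₂ q₃ : G)
    (v₁ v₂ v₃ : V) : Prop where
  mem : q₁ ∈ Q ∧ q₂ ∈ Q ∧ q₃ ∈ Q
  all : ∀ q ∈ Q, q = 1 ∨ q = q₁ ∨ q = q₂ ∨ q = q₃
  ne : q₁ ≠ 1 ∧ q₂ ≠ 1 ∧ q₃ ≠ 1 ∧ q₁ ≠ q₂ ∧ q₂ ≠ q₃ ∧ q₁ ≠ q₃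
  sq : q₁ * q₁ = 1 ∧ q₂ * q₂ = 1 ∧ q₃ * q₃ = 1
  mul : q₁ * q₂ = q₃ ∧ q₂ * q₁ = q₃ ∧ q₂ * q₃ = q₁ ∧ q₃ * q₂ = q₁ ∧ q₁ * q₃ = q₂ ∧ q₃ * q₁ = q₂
  conj : b * q₁ * b⁻¹ = q₂ ∧ b * q₂ * b⁻¹ = q₃ ∧ b * q₃ * b⁻¹ = q₁
  li : LinearIndependent (ZMod 3) ![v₁, v₂, v₃]
  bv : ρ b v₁ = v₂ ∧ ρ b v₂ = v₃ ∧ ρ b v₃ = v₁
  act₁ : ρ q₁ v₁ = v₁ ∧ ρ q₁ v₂ = -v₂ ∧ ρ q₁ v₃ = -v₃
  act₂ : ρ q₂ v₁ = -v₁ ∧ ρ q₂ v₂ = v₂ ∧ ρ q₂ v₃ = -v₃
  act₃ : ρ q₃ v₁ = -v₁ ∧ ρ q₃ v₂ = -v₂ ∧ ρ q₃ v₃ = v₃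
  com : comS ρ Q = Submodule.span (ZMod 3) {v₁, v₂, v₃}
  fixb : ∀ v ∈ fixS ρ Q, ρ b v = v
  dec : fixS ρ Q ⊓ comS ρ Q = ⊥ ∧ fixS ρ Q ⊔ comS ρ Q = ⊤

end Cases

end Cfsg.Agent.Helper32.C3
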