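import Mathlib
import Cfsg.Prelude.Def_Transfer

/-!
# Definitions for helper32's lemma server "N5" (row S1904, Thompson N-groups Lemma 5.x):
a nonabelian 2-group `X` with `SCN_3(X)` empty and an odd-order group `A` of automorphisms with
`[X, A] = X` is `Q8`, `Q8 ∘ D8` or special of order 64 with exactly three involutions.
-/

set_option autoImplicit false

namespace Cfsg.Agent.Helper32.N5

open Cfsg
open scoped commutatorElement

/-- `X` has no normal elementary abelian subgroup of order 8. -/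
def NoNE8 (X : Type*) [Group X] : Prop :=
  ¬ ∃ E : Subgroup X, E.Normal ∧ Cfsg.IsElementaryAbelian 2 E ∧ Nat.card E = 8

/-- `[X, A] = X`, in the form of the frozen statement. -/
def ComGen {X : Type*} [Group X] (A : Subgroup (MulAut X)) : Prop :=
  Subgroup.closure {g : X | ∃ φ ∈ A, ∃ x : X, g = x⁻¹ * φ x} = ⊤

/-- `[X, σ] = X` for a single automorphism. -/
def ComGen1 {X : Type*} [Group X] (σ : MulAut X) : Prop :=
  Subgroup.closure {g : X | ∃ x : X, g = x⁻¹ * σ x} = ⊤

/-- The subgroup `N` is `A`-invariant. -/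
def AInv {X : Type*} [Group X] (A : Subgroup (MulAut X)) (N : Subgroup X) : Prop :=
  ∀ φ ∈ A, ∀ x ∈ N, φ x ∈ N

/-- `N` is commutative (elementwise form). -/
def Ab {X : Type*} [Group X] (N : Subgroup X) : Prop := ∀ a ∈ N, ∀ b ∈ N, a * b = b * a

/-- "Special data": `Z = Z(X)` is elementary abelian and `X / Z` is elementary abelian. -/
structure SpData {X : Type*} [Group X] (Z : Subgroup X) : Prop where
  eqc : Z = Subgroup.center X
  sq : ∀ x : X, x ^ 2 ∈ Z
  comm : ∀ x y : X, ⁅x, y⁆ ∈ Z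
  el : ∀ z ∈ Z, z ^ 2 = 1

/-- A central four-group `V` on which `σ` acts without nontrivial fixed points. -/
structure VData {X : Type*} [Group X] (V : Subgroup X) (σ : MulAut X) : Prop where
  cen : V ≤ Subgroup.center X
  el : ∀ v ∈ V, v ^ 2 = 1
  card : Nat.card V = 4
  inv : ∀ v ∈ V, σ v ∈ V
  fpf : ∀ v ∈ V, σ v = v → v = 1

/-- The conclusion of S1904. -/
def Concl (X : Type*) [Group X] : Prop :=
  Nonempty (X ≃* QuaternionGroup 2) ∨
    (Cfsg.IsSpecial 2 X ∧ Nat.card X = 64 ∧ Nat.card {x : X // orderOf x = 2} = 3 ∧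
      ∀ x : X, orderOf x = 2 → x ∈ Subgroup.center X) ∨
    (Cfsg.IsExtraspecial 2 X ∧ Nat.card X = 32 ∧ Nat.card {x : X // orderOf x = 2} = 11)

end Cfsg.Agent.Helper32.N5
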