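import Mathlib
import Cfsg.Prelude.Def_OddOrderLocal
import Cfsg.Agent.Lib.Helper74.Cores

/-!
# BG157 piece (H) for helper2's S1383 server: the `p`-core and `p'`-core of a finite nilpotent group
-/

set_option autoImplicit false

namespace Cfsg.Agent.Helper32.BG157

open Subgroup Cfsg

/-- the order of the join with a normal subgroup divides the product of the orders -/
private theorem h32_card_sup_dvd {G : Type*} [Group G] [Finite G] (H K : Subgroup G) [K.Normal] :
    Nat.card (H ⊔ K : Subgroup G) ∣ Nat.card K * Nat.card H := by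
  have h1 : Nat.card K * K.relIndex (H ⊔ K) = Nat.card (H ⊔ K : Subgroup G) := by
    have := Subgroup.relIndex_mul_relIndex (⊥ : Subgroup G) K (H ⊔ K) bot_le le_sup_right
    rwa [Subgroup.relIndex_bot_left, Subgroup.relIndex_bot_left] at this
  rw [← h1, Subgroup.relIndex_sup_right]
  exact Nat.mul_dvd_mul_left _ (Subgroup.relIndex_dvd_card K H)

/-- a finite nilpotent group has a normal `p`-complement (after helper79's `NilpAux`) -/
private theorem h32_exists_normal_pcomplement {G : Type*} [Group G] [Finite G]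
    [hG : Group.IsNilpotent G] (p : ℕ) [hp : Fact p.Prime] :
    ∃ H : Subgroup G, H.Normal ∧ (Nat.card H).Coprime p ∧ ∃ k : ℕ, H.index = p ^ k := by
  classical
  have hsyl : ∀ (q : ℕ) (_hq : Fact q.Prime) (Q : Sylow q G), (Q : Subgroup G).Normal :=
    ((Group.isNilpotent_of_finite_tfae (G := G)).out 0 3).mp hG
  let S := {N : Subgroup G // N.Normal ∧ (Nat.card N).Coprime p}
  have hne : Nonempty S := ⟨⟨⊥, inferInstance, by simp⟩⟩
  obtain ⟨⟨K, hKn, hKc⟩, hKmax⟩ := Finite.exists_max (fun N : S => Nat.card (N.1 : Subgroup G))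
  have hle : ∀ N : Subgroup G, N.Normal → (Nat.card N).Coprime p → N ≤ K := by
    intro N hN hNc
    have := hKn
    have hsn : (N ⊔ K).Normal := Subgroup.sup_normal N K
    have hsc : (Nat.card (N ⊔ K : Subgroup G)).Coprime p :=
      Nat.Coprime.coprime_dvd_left (h32_card_sup_dvd N K) (Nat.Coprime.mul_left hKc hNc)
    have h1 := hKmax ⟨N ⊔ K, hsn, hsc⟩
    have h2 : K = N ⊔ K :=
      Subgroup.eq_of_le_of_card_ge le_sup_right h1
    rw [h2]
    exact le_sup_left
  refine ⟨K, hKn, hKc, K.index.primeFactorsList.length, ?_⟩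
  apply Nat.eq_prime_pow_of_unique_prime_dvd
  · exact Subgroup.index_ne_zero_of_finite
  · intro q hq hqd
    by_contra hne
    have : Fact q.Prime := ⟨hq⟩
    let Q : Sylow q G := default
    have hQn := hsyl q ⟨hq⟩ Q
    have hQc : (Nat.card (Q : Subgroup G)).Coprime p := by
      obtain ⟨m, hm⟩ := IsPGroup.iff_card.mp Q.isPGroup'
      rw [hm]
      exact Nat.Coprime.pow_left m ((Nat.coprime_primes hq hp.out).mpr hne)
    have hQK : (Q : Subgroup G) ≤ K := hle _ hQn hQc
    have h1 : K.index ∣ (Q : Subgroup G).index := Subgroup.index_dvd_of_le hQK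
    exact Q.not_dvd_index (hqd.trans h1)

private theorem h32_pCore_characteristic (p : ℕ) (G : Type*) [Group G] :
    (pCore p G).Characteristic := by
  rw [Subgroup.characteristic_iff_map_le]
  intro φ
  rw [Subgroup.map_le_iff_le_comap]
  apply sSup_le
  rintro N ⟨hN, hNp⟩
  rw [← Subgroup.map_le_iff_le_comap]
  apply le_sSup
  exact ⟨hN.map _ φ.surjective, hNp.map _⟩

/-! ## (H) the p-core and p'-core of a finite nilpotent group -/
theorem nilpotent_cores (H : Type*) [Group H] [Finite H] [Group.IsNilpotent H] (p : ℕ) [Fact p.Prime] :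
    IsPGroup p ↥(pCore p H) ∧ (Nat.card ↥(pPrimeCore p H)).Coprime p ∧
      Nat.card ↥(pCore p H) * Nat.card ↥(pPrimeCore p H) = Nat.card H ∧
      (∀ a ∈ pCore p H, ∀ b ∈ pPrimeCore p H, a * b = b * a) ∧
      (pCore p H).Characteristic ∧ (pPrimeCore p H).Characteristic := by
  classical
  have hp : p.Prime := Fact.out
  have hsyl : ∀ (q : ℕ) (_hq : Fact q.Prime) (Q : Sylow q H), (Q : Subgroup H).Normal :=
    ((Group.isNilpotent_of_finite_tfae (G := H)).out 0 3).mp ‹Group.IsNilpotent H›
  let P : Sylow p H := default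
  have hPn : (P : Subgroup H).Normal := hsyl p inferInstance P
  -- `pCore = P`
  have hle1 : pCore p H ≤ (P : Subgroup H) := by
    apply sSup_le
    rintro N ⟨hN, hNp⟩
    obtain ⟨Q, hQ⟩ := hNp.exists_le_sylow
    have : Unique (Sylow p H) := Sylow.unique_of_normal P hPn
    have : Q = P := Subsingleton.elim _ _
    rw [← this]
    exact hQ
  have hle2 : (P : Subgroup H) ≤ pCore p H := le_sSup ⟨hPn, P.isPGroup'⟩
  have heq : pCore p H = (P : Subgroup H) := le_antisymm hle1 hle2
  have hpg : IsPGroup p ↥(pCore p H) := by rw [heq]; exact P.isPGroup'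
  have hcop : (Nat.card ↥(pPrimeCore p H)).Coprime p := Cfsg.Agent.Helper74.pPrimeCore_coprime p
  have hnO : (pPrimeCore p H).Normal := inferInstance
  have hnP : (pCore p H).Normal := by rw [heq]; exact hPn
  -- cardinalities
  obtain ⟨K, hKn, hKc, k, hk⟩ := h32_exists_normal_pcomplement (G := H) p
  have hKO : K ≤ pPrimeCore p H := Cfsg.Agent.Helper74.le_pPrimeCore hKn hKc
  have hKcard : Nat.card K * p ^ k = Nat.card H := by rw [← hk]; exact K.card_mul_index
  have hOK : Nat.card ↥(pPrimeCore p H) = Nat.card K := by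
    apply Nat.dvd_antisymm
    · have h1 : Nat.card ↥(pPrimeCore p H) ∣ Nat.card K * p ^ k := by
        rw [hKcard]; exact Subgroup.card_subgroup_dvd_card _
      exact (Nat.Coprime.pow_right k hcop).dvd_of_dvd_mul_right h1
    · exact Subgroup.card_dvd_of_le hKO
  have hPcard : Nat.card (P : Subgroup H) = p ^ k := by
    have h1 : Nat.card (P : Subgroup H) = p ^ (Nat.card H).factorization p :=
      P.card_eq_multiplicity
    rw [h1, ← hKcard]
    have hK0 : Nat.card K ≠ 0 := Nat.card_pos.ne'
    have hpk0 : p ^ k ≠ 0 := pow_ne_zero _ hp.ne_zero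
    rw [Nat.factorization_mul hK0 hpk0, Finsupp.add_apply,
      Nat.factorization_eq_zero_of_not_dvd (fun hd => by
        have := Nat.Coprime.eq_one_of_dvd hKc.symm hd
        exact hp.one_lt.ne' this),
      zero_add, hp.factorization_pow, Finsupp.single_eq_same]
  have hcard : Nat.card ↥(pCore p H) * Nat.card ↥(pPrimeCore p H) = Nat.card H := by
    rw [heq, hPcard, hOK, mul_comm, hKcard]
  refine ⟨hpg, hcop, hcard, ?_, h32_pCore_characteristic p H, inferInstance⟩
  -- commuting
  have hdis : Disjoint (pCore p H) (pPrimeCore p H) := by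
    apply Subgroup.disjoint_of_coprime_natCard
    rw [heq, hPcard]
    exact Nat.Coprime.pow_left k hcop.symm
  intro a ha b hb
  exact (Subgroup.commute_of_normal_of_disjoint _ _ hnP hnO hdis a b ha hb).eq

end Cfsg.Agent.Helper32.BG157
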