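import Mathlib
import Cfsg.Agent.Lib.Helper24.Omega1

set_option autoImplicit false

namespace Cfsg.Agent.Helper32

open Subgroup Cfsg.Agent.Helper24
open scoped commutatorElement

/-- **Minimal coprime action.** Let `C` be a `p`-subgroup of the finite group `G`, `A` a subgroup
of order prime to `p` normalizing `C` and centralizing every proper `A`-invariant subgroup of `C`.
Let `e` satisfy `p ∣ e` and `p ∣ e.choose 2` (e.g. `e = p` for odd `p`, `e = 4` for `p = 2`).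
Then either `A` centralizes `C`, or `C = [C, A]` and `C` has exponent dividing `e`. -/
theorem centralizes_or_small_of_minimal {G : Type*} [Group G] [Finite G] (p : ℕ) [hp : Fact p.Prime]
    (e : ℕ) (hpe : p ∣ e) (hpch : p ∣ e.choose 2)
    (A : Subgroup G) (hcop : (Nat.card A).Coprime p)
    (C : Subgroup G) (hC : IsPGroup p C) (hAC : A ≤ normalizer (C : Set G))
    (hstar : ∀ C₁ : Subgroup G, C₁ ≤ C → C₁ ≠ C → A ≤ normalizer (C₁ : Set G) →
      A ≤ centralizer (C₁ : Set G)) :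
    A ≤ centralizer (C : Set G) ∨ (⁅C, A⁆ = C ∧ ∀ x ∈ C, x ^ e = 1) := by
  have hcopC : ∀ C₁ : Subgroup G, C₁ ≤ C → (Nat.card A).Coprime (Nat.card C₁) := by
    intro C₁ h1
    obtain ⟨k, hk⟩ := IsPGroup.iff_card.mp (hC.to_le h1)
    rw [hk]; exact Nat.Coprime.pow_right k hcop
  have hCA : ⁅C, A⁆ ≤ C := commutator_le_of_le_normalizer C A hAC
  by_cases h1 : ⁅C, A⁆ = C
  swap
  · left
    have h2 := hstar ⁅C, A⁆ hCA h1 (normalizer_commutator_ge_right C A)
    have h3 : ⁅⁅C, A⁆, A⁆ = ⊥ :=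
      commutator_eq_bot_iff_le_centralizer.mpr (le_centralizer_iff.mp h2)
    exact le_centralizer_of_coprime C A hAC (hcopC C le_rfl) h3
  -- now C = [C, A]
  by_cases hbot : C = ⊥
  · left
    rw [hbot]
    intro a _
    rw [mem_centralizer_iff]
    intro h hh
    rw [SetLike.mem_coe, mem_bot] at hh
    rw [hh]; simp
  right
  refine ⟨h1, ?_⟩
  -- Step 2
  have hstep2 : ∀ N : Subgroup G, N ≤ C → N ≠ C → C ≤ normalizer (N : Set G) →
      A ≤ normalizer (N : Set G) → N ≤ centralizer (C : Set G) := by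
    intro N hN1 hN2 hN3 hN4
    have hAN := hstar N hN1 hN2 hN4
    have hAN' : ⁅A, N⁆ = ⊥ := commutator_eq_bot_iff_le_centralizer.mpr hAN
    have hNA : ⁅N, A⁆ = ⊥ := by rw [commutator_comm]; exact hAN'
    have h2 : ⁅⁅A, N⁆, C⁆ = ⊥ := by rw [hAN']; exact commutator_bot_left C
    have h3 : ⁅⁅N, C⁆, A⁆ = ⊥ := by
      rw [eq_bot_iff, ← hNA]
      exact commutator_mono (commutator_le_of_le_normalizer N C hN3) le_rfl
    have h4 : ⁅⁅C, A⁆, N⁆ = ⊥ := commutator_commutator_eq_bot_of_rotate h2 h3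
    rw [h1] at h4
    exact le_centralizer_iff.mp (commutator_eq_bot_iff_le_centralizer.mp h4)
  -- Step 3
  obtain ⟨M, hMC, hMne, hMcomm, hMpow⟩ := exists_proper_frattini_like p C hC hbot
  set S : Set G := {g | (∃ x ∈ C, x ^ p = g) ∨ ∃ x ∈ C, ∃ y ∈ C, ⁅x, y⁆ = g} with hS
  set Φ := closure S with hΦ
  have hΦM : Φ ≤ M := by
    rw [hΦ, closure_le]
    rintro g (⟨x, hx, rfl⟩ | ⟨x, hx, y, hy, rfl⟩)
    · exact hMpow x hx
    · exact hMcomm x hx y hy
  have hΦC : Φ ≤ C := hΦM.trans hMC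
  have hΦne : Φ ≠ C := by
    intro h
    apply hMne
    exact le_antisymm hMC (h ▸ hΦM)
  -- invariance of Φ under anything normalizing C
  have hinv : ∀ B : Subgroup G, B ≤ normalizer (C : Set G) → B ≤ normalizer (Φ : Set G) := by
    intro B hB
    rw [hΦ, le_normalizer_closure_iff]
    intro b hb g hg
    have hbC : ∀ x ∈ C, b * x * b⁻¹ ∈ C := fun x hx => (mem_normalizer_iff.mp (hB hb) x).mp hx
    rcases hg with ⟨x, hx, rfl⟩ | ⟨x, hx, y, hy, rfl⟩
    · apply Subgroup.subset_closure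
      left
      refine ⟨b * x * b⁻¹, hbC x hx, ?_⟩
      rw [conj_pow]
    · apply Subgroup.subset_closure
      right
      refine ⟨b * x * b⁻¹, hbC x hx, b * y * b⁻¹, hbC y hy, ?_⟩
      rw [conjugate_commutatorElement]
  have hΦcent : Φ ≤ centralizer (C : Set G) :=
    hstep2 Φ hΦC hΦne (hinv C le_normalizer) (hinv A hAC)
  have hAΦ : A ≤ centralizer (Φ : Set G) := hstar Φ hΦC hΦne (hinv A hAC)
  have hpowΦ : ∀ x ∈ C, x ^ p ∈ Φ := fun x hx => Subgroup.subset_closure (Or.inl ⟨x, hx, rfl⟩)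
  have hpoweΦ : ∀ x ∈ C, x ^ e ∈ Φ := by
    intro x hx
    obtain ⟨k, hk⟩ := hpe
    rw [hk, pow_mul]
    exact Φ.pow_mem (hpowΦ x hx) k
  have hcommΦ : ∀ x ∈ C, ∀ y ∈ C, ⁅x, y⁆ ∈ Φ := fun x hx y hy =>
    Subgroup.subset_closure (Or.inr ⟨x, hx, y, hy, rfl⟩)
  -- the power formula in `C`
  have hmulpow : ∀ x ∈ C, ∀ z ∈ C, (x * z) ^ e = x ^ e * z ^ e := by
    intro x hx z hzC
    set c := z * x * z⁻¹ * x⁻¹ with hc
    have hcΦ : c ∈ Φ := hcommΦ z hzC x hx
    have hcx : Commute c x := ((mem_centralizer_iff.mp (hΦcent hcΦ)) x hx).symm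
    have hcz : Commute c z := ((mem_centralizer_iff.mp (hΦcent hcΦ)) z hzC).symm
    have hcp : c ^ p = 1 := by
      rw [hc, ← commutator_pow_left_of_commute x z hcz p]
      have h3 : z ^ p ∈ Φ := hpowΦ z hzC
      have h4 := (mem_centralizer_iff.mp (hΦcent h3)) x hx
      rw [← h4]; group
    have hcch : c ^ (e.choose 2) = 1 := by
      obtain ⟨k, hk⟩ := hpch
      rw [hk, pow_mul, hcp, one_pow]
    have h5 : (x * z) ^ e = x ^ e * z ^ e * c ^ (e.choose 2) :=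
      mul_pow_of_commutator_commute x z hcx hcz e
    rw [h5, hcch, mul_one]
  -- Step 4: for x ∈ C, a ∈ A, z = x⁻¹ a x a⁻¹ has z^e = 1
  have hz : ∀ x ∈ C, ∀ a ∈ A, (x⁻¹ * (a * x * a⁻¹)) ^ e = 1 := by
    intro x hx a ha
    set y := a * x * a⁻¹ with hy
    have hyC : y ∈ C := (mem_normalizer_iff.mp (hAC ha) x).mp hx
    set z := x⁻¹ * y with hzdef
    have hzC : z ∈ C := C.mul_mem (C.inv_mem hx) hyC
    have h5 : (x * z) ^ e = x ^ e * z ^ e := hmulpow x hx z hzC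
    have h6 : x * z = y := by rw [hzdef]; group
    have h7 : y ^ e = x ^ e := by
      rw [hy, conj_pow]
      have h8 := (mem_centralizer_iff.mp (hAΦ ha)) (x ^ e) (hpoweΦ x hx)
      rw [← h8]; group
    rw [h6, h7] at h5
    have : x ^ e * z ^ e = x ^ e * 1 := by rw [← h5, mul_one]
    exact mul_left_cancel this
  -- the subgroup of small elements
  let Ωe : Subgroup G :=
    { carrier := {x | x ∈ C ∧ x ^ e = 1}
      mul_mem' := by
        rintro x y ⟨hx, hxe⟩ ⟨hy, hye⟩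
        refine ⟨C.mul_mem hx hy, ?_⟩
        rw [hmulpow x hx y hy, hxe, hye, one_mul]
      one_mem' := ⟨C.one_mem, one_pow e⟩
      inv_mem' := by
        rintro x ⟨hx, hxe⟩
        refine ⟨C.inv_mem hx, ?_⟩
        rw [inv_pow, hxe, inv_one] }
  have hΩ : ⁅C, A⁆ ≤ Ωe := by
    rw [commutator_le]
    intro x hx a ha
    have h6 : ⁅x, a⁆ = x⁻¹⁻¹ * (a * x⁻¹ * a⁻¹) := by rw [commutatorElement_def]; group
    rw [h6]
    have h7 : x⁻¹⁻¹ * (a * x⁻¹ * a⁻¹) ∈ C := by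
      apply C.mul_mem (C.inv_mem (C.inv_mem hx))
      exact (mem_normalizer_iff.mp (hAC ha) x⁻¹).mp (C.inv_mem hx)
    exact ⟨h7, hz x⁻¹ (C.inv_mem hx) a ha⟩
  intro x hx
  have hx' : x ∈ ⁅C, A⁆ := by rw [h1]; exact hx
  exact (hΩ hx').2

end Cfsg.Agent.Helper32
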