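import Mathlib.GroupTheory.Sylow
import Mathlib.GroupTheory.PGroup

set_option autoImplicit false

namespace Cfsg.Agent.Helper32

open scoped Pointwise

theorem exists_conj_le_sylow {H : Type*} [Group H] [Finite H] {p : ℕ} [Fact p.Prime]
    (P : Sylow p H) (Q : Subgroup H) (hQ : IsPGroup p Q) :
    ∃ h : H, ∀ x ∈ Q, h * x * h⁻¹ ∈ (P : Subgroup H) := by
  obtain ⟨R, hR⟩ := hQ.exists_le_sylow
  obtain ⟨h, hh⟩ := MulAction.exists_smul_eq H R P
  refine ⟨h, fun x hx => ?_⟩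
  have hxR : x ∈ (R : Subgroup H) := hR hx
  have : h * x * h⁻¹ ∈ ((h • R : Sylow p H) : Subgroup H) := by
    rw [Sylow.coe_subgroup_smul]
    exact ⟨x, hxR, rfl⟩
  rw [hh] at this
  exact this

theorem isPGroup_zpowers_of_pow_eq_one {H : Type*} [Group H] {p : ℕ} (x : H)
    (hx : ∃ k : ℕ, x ^ (p ^ k) = 1) : IsPGroup p (Subgroup.zpowers x) := by
  obtain ⟨k, hk⟩ := hx
  rintro ⟨y, hy⟩
  obtain ⟨m, rfl⟩ := Subgroup.mem_zpowers_iff.mp hy
  refine ⟨k, ?_⟩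
  ext
  simp only [Subgroup.coe_pow, Subgroup.coe_one]
  rw [← zpow_natCast, ← zpow_mul, mul_comm, zpow_mul, zpow_natCast, hk, one_zpow]

theorem exists_conj_mem_sylow {H : Type*} [Group H] [Finite H] {p : ℕ} [Fact p.Prime]
    (P : Sylow p H) (x : H) (hx : ∃ k : ℕ, x ^ (p ^ k) = 1) :
    ∃ h : H, h * x * h⁻¹ ∈ (P : Subgroup H) := by
  obtain ⟨h, hh⟩ := exists_conj_le_sylow P (Subgroup.zpowers x) (isPGroup_zpowers_of_pow_eq_one x hx)
  exact ⟨h, hh x (Subgroup.mem_zpowers x)⟩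

theorem pow_prime_pow_eq_one_of_mem_sylow {H : Type*} [Group H] {p : ℕ}
    (P : Sylow p H) (x : H) (hx : x ∈ (P : Subgroup H)) : ∃ k : ℕ, x ^ (p ^ k) = 1 := by
  obtain ⟨k, hk⟩ := P.isPGroup' ⟨x, hx⟩
  refine ⟨k, ?_⟩
  have := congrArg Subtype.val hk
  simpa using this

end Cfsg.Agent.Helper32
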