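import Mathlib
import Cfsg.Agent.Lib.Helper32.C3Defs
import Cfsg.Agent.Lib.Helper12.C3M1
import Cfsg.Agent.Lib.Helper12.C3M2
import Cfsg.Agent.Lib.Helper23.C3S1
import Cfsg.Agent.Lib.Helper33.C3QW
import Cfsg.Agent.Lib.Helper38.C3O1
import Cfsg.Agent.Lib.Helper38.C3O5
import Cfsg.Agent.Lib.Helper4.C3A
import Cfsg.Agent.Lib.Helper4.C3E
import Cfsg.Agent.Lib.Helper47.C3D1
import Cfsg.Agent.Lib.Helper47.C3D2
import Cfsg.Agent.Lib.Helper47.C3D3
import Cfsg.Agent.Lib.Helper47.C3F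
import Cfsg.Agent.Lib.Helper47.C3S4
import Cfsg.Agent.Lib.Helper47.C3S6
import Cfsg.Agent.Lib.Helper51.C3TR
import Cfsg.Agent.Lib.Helper56.C3S2
import Cfsg.Agent.Lib.Helper57.C3S3b
import Cfsg.Agent.Lib.Helper57.C3T1
import Cfsg.Agent.Lib.Helper60.C3S2b
import Cfsg.Agent.Lib.Helper60.C3S3c
import Cfsg.Agent.Lib.Helper60.C3S3d
import Cfsg.Agent.Lib.Helper61.C3M0
import Cfsg.Agent.Lib.Helper63.C3P2
import Cfsg.Agent.Lib.Helper67.C3I1
import Cfsg.Agent.Lib.Helper67.C3O3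
import Cfsg.Agent.Lib.Helper67.C3O4
import Cfsg.Agent.Lib.Helper79.C3B1
import Cfsg.Agent.Lib.Helper79.C3B2
import Cfsg.Agent.Lib.Helper79.C3C1
import Cfsg.Agent.Lib.Helper79.C3O2
import Cfsg.Agent.Lib.Helper82.C3M3
import Cfsg.Agent.Lib.Helper9.C3S3
import Cfsg.Agent.Lib.Helper90.C3S5
import Cfsg.Agent.Lib.Helper94.C3I2
import Cfsg.Agent.Lib.Helper94.C3I3
import Cfsg.Agent.Lib.Helper94.C3O6
import Cfsg.Agent.Lib.Helper94.C3P1
import Cfsg.Agent.Lib.Helper94.C3S3z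
import Cfsg.Agent.Lib.Helper48.SympRep

set_option autoImplicit false

namespace Cfsg.Agent.Helper32.C3

universe u v


/-- **A.** `b` is cubic on `E`: `E = E₀ ⊕ E₁`, `b - 1` kills `E₁`; on the 3-dimensional `E₀`
(`Nat.card E₀ = 27`) the operator `N = b - 1` satisfies `N^3 = b^3 - 1 = 0` (char 3; `b^3 = 1` from
`Nat.card B = 3`, `zpowers b = B`) and `N^2 ≠ 0` (`hind`), so the kernels of `N, N^2` on `E₀` have
dimensions 1, 2, i.e. rank `N = 2`, rank `N^2 = 1`. -/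
theorem cubic_of_hyp {S : Type u} [Group S] [Finite S] {E : Type v} [AddCommGroup E]
    [Module (ZMod 3) E] [Finite E] (ρ : Representation (ZMod 3) S E) (B : Subgroup S) (b : S)
    (E₀ E₁ : Submodule (ZMod 3) E) (Q : Subgroup S) (P : Sylow 3 S)
    (h : Hyp ρ B b E₀ E₁ Q P) : Cubic ρ b ∧ b ^ 3 = 1 := by
  exact Cfsg.Agent.Helper4.C3.cubic_of_hyp ρ B b E₀ E₁ Q P h

/-- **B1.** `b` lies in the preimage `N` of `O_3(S / O_{3'}(S))`.  With `K = pPrimeCore 3 S` (normal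
instance available, see `Cfsg.Agent.Helper54.pPrimeCore_mem`), `S⧸K` is solvable with
`O_{3'}(S⧸K) = ⊥` (`Helper54.pPrimeCore_quotient_eq_bot`), so
`centralizer (pCore 3 (S⧸K)) ≤ pCore 3 (S⧸K)` (`Helper54.centralizer_pCore_le`, file
`Cfsg/Agent/Lib/Helper54/Solv.lean`); `pCore 3 (S⧸K) ≤` the image of `P` (a Sylow 3-subgroup of the
quotient; or: `pCore ≤` every Sylow, `Helper54.pCore_le_sylow`, and the image of `P` is Sylow), and
`b ∈ Z(P)` by `hBZ`, `hb`, so the image of `b` centralises `pCore 3 (S⧸K)`, hence lies in it.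
Take `N = (pCore 3 (S⧸K)).comap (mk' K)`; `pCore 3 _` is a 3-group (`Helper54.isPGroup_pCore`). -/
theorem exists_normal_three_mod {S : Type u} [Group S] [Finite S] {E : Type v} [AddCommGroup E]
    [Module (ZMod 3) E] [Finite E] (ρ : Representation (ZMod 3) S E) (B : Subgroup S) (b : S)
    (E₀ E₁ : Submodule (ZMod 3) E) (Q : Subgroup S) (P : Sylow 3 S)
    (h : Hyp ρ B b E₀ E₁ Q P) :
    ∃ N : Subgroup S, N.Normal ∧ b ∈ N ∧ ∀ x ∈ N, ∃ j : ℕ, x ^ (3 ^ j) ∈ Cfsg.pPrimeCore 3 S := by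
  exact Cfsg.Agent.Helper79.C3.exists_normal_three_mod ρ B b E₀ E₁ Q P h

/-- **B2.** `Q ≤ K`.  `Q` is a four-group (`hQ`, `hQ4`) normalised, not centralised by `B = <b>`
(`hBQ`, `hBQ'`, `hb`, `Nat.card B = 3`): so `b` permutes the three involutions of `Q` transitively
and every `q ∈ Q` is a commutator `q = q' * (b * q'⁻¹ * b⁻¹)` for some `q' ∈ Q` (the map
`q' ↦ q' * b q'⁻¹ b⁻¹` is an injective endomorphism of the abelian group `Q`, since `C_Q(b) = 1`).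
As `N` is normal and `b ∈ N`: `q = q' * (b * q'⁻¹ * b⁻¹) = (q' b q'⁻¹) b⁻¹ ∈ N`.  So `q ^ (3^j) ∈ K`,
and `q ^ 2 = 1`, `3^j` odd give `q ^ (3^j) = q`. -/
theorem Q_le_core {S : Type u} [Group S] [Finite S] {E : Type v} [AddCommGroup E]
    [Module (ZMod 3) E] [Finite E] (ρ : Representation (ZMod 3) S E) (B : Subgroup S) (b : S)
    (E₀ E₁ : Submodule (ZMod 3) E) (Q : Subgroup S) (P : Sylow 3 S)
    (h : Hyp ρ B b E₀ E₁ Q P)
    (hN : ∃ N : Subgroup S, N.Normal ∧ b ∈ N ∧ ∀ x ∈ N, ∃ j : ℕ, x ^ (3 ^ j) ∈ Cfsg.pPrimeCore 3 S) :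
    Q ≤ Cfsg.pPrimeCore 3 S ∧ Four Q b ∧ Q ≤ ⁅Cfsg.pPrimeCore 3 S, Subgroup.zpowers b⁆ := by
  exact Cfsg.Agent.Helper79.C3.Q_le_core ρ B b E₀ E₁ Q P h hN

/-- **C1.** Commutator facts for a normal `3'`-subgroup `K` and an element `b` of order 3:
`[K,<b>] ≤ K`, it is normalised by `K` and by `b`, and `[K,<b>,<b>] = [K,<b>]`
(`Cfsg.Agent.Helper52.commutator_commutator_eq` in `Lib/Helper52/Coprime.lean`, `<b>` solvable). -/
theorem commutator_facts {S : Type u} [Group S] [Finite S] (K : Subgroup S) [K.Normal]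
    (hK : (Nat.card K).Coprime 3) (b : S) (hb3 : b ^ 3 = 1) :
    ⁅K, Subgroup.zpowers b⁆ ≤ K ∧
      b ∈ Subgroup.normalizer ((⁅K, Subgroup.zpowers b⁆ : Subgroup S) : Set S) ∧
      K ≤ Subgroup.normalizer ((⁅K, Subgroup.zpowers b⁆ : Subgroup S) : Set S) ∧
      ⁅⁅K, Subgroup.zpowers b⁆, Subgroup.zpowers b⁆ = ⁅K, Subgroup.zpowers b⁆ := by
  exact Cfsg.Agent.Helper79.C3.commutator_facts K hK b hb3

/-- **D1.** Coprime decomposition `V = C_V(X) ⊕ [V,X]` for a finite `3'`-group `X`: with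
`e = |X|⁻¹ Σ_x ρ x` one has `e v ∈ fixS`, `v - e v = |X|⁻¹ Σ (v - ρ x v) ∈ comS`, `e = 1` on `fixS`,
`e = 0` on `comS` (as `e (ρ x v - v) = 0`). -/
theorem fix_com_decomp {G : Type u} [Group G] {V : Type v} [AddCommGroup V] [Module (ZMod 3) V]
    (ρ : Representation (ZMod 3) G V) (X : Subgroup G) [Finite X]
    (hX : (Nat.card X).Coprime 3) :
    fixS ρ X ⊓ comS ρ X = ⊥ ∧ fixS ρ X ⊔ comS ρ X = ⊤ := by
  exact Cfsg.Agent.Helper47.C3.fix_com_decomp ρ X hX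

/-- **D2.** `C_V(X)` and `[V,X]` are invariant under the normaliser of `X`:
`x (g v) = g (g⁻¹ x g) v`; `g (ρ x v - v) = ρ (g x g⁻¹) (g v) - g v`. -/
theorem inv_fix_com {G : Type u} [Group G] {V : Type v} [AddCommGroup V] [Module (ZMod 3) V]
    (ρ : Representation (ZMod 3) G V) (X : Subgroup G) (g : G)
    (hg : g ∈ Subgroup.normalizer (X : Set G)) :
    (∀ v ∈ fixS ρ X, ρ g v ∈ fixS ρ X) ∧ (∀ v ∈ comS ρ X, ρ g v ∈ comS ρ X) := by
  exact Cfsg.Agent.Helper47.C3.inv_fix_com ρ X g hg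

/-- **D3.** `[V,X,X] = [V,X]` for a finite `3'`-group `X`: write `u = c + m` with `c ∈ fixS`,
`m ∈ comS` (D1); then `ρ x u - u = ρ x m - m`. -/
theorem comS_idem {G : Type u} [Group G] {V : Type v} [AddCommGroup V] [Module (ZMod 3) V]
    (ρ : Representation (ZMod 3) G V) (X : Subgroup G) [Finite X]
    (hX : (Nat.card X).Coprime 3) :
    Submodule.span (ZMod 3) {w | ∃ x ∈ X, ∃ v ∈ comS ρ X, w = ρ x v - v} = comS ρ X := by
  exact Cfsg.Agent.Helper47.C3.comS_idem ρ X hX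

/-- **E.** (Lemma 1) If `V = U ⊕ W` with `U, W` `b`-invariant and `b` cubic, `b^3 = 1`, then `b` is
trivial on `U` or on `W`.  Put `d = dl ρ b`; `d^3 = ρ(b^3) - 1 = 0` (char 3).
`range d = d U ⊕ d W`, `range d² = d² U ⊕ d² W`, so one of `d² U, d² W` is `0`, say `d² W = 0`,
`finrank d² U = 1`.  If `d U = d² U` then `d U = d^3 U = 0`; so `finrank (d U) ≥ 2`, hence `d W = 0`. -/
theorem cubic_split {G : Type u} [Group G] {V : Type v} [AddCommGroup V] [Module (ZMod 3) V]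
    [Finite V] (ρ : Representation (ZMod 3) G V) (b : G) (hc : Cubic ρ b) (hb3 : b ^ 3 = 1)
    (U W : Submodule (ZMod 3) V) (hUW : U ⊓ W = ⊥) (hUW' : U ⊔ W = ⊤)
    (hU : ∀ v ∈ U, ρ b v ∈ U) (hW : ∀ v ∈ W, ρ b v ∈ W) :
    (∀ v ∈ U, ρ b v = v) ∨ (∀ v ∈ W, ρ b v = v) := by
  exact Cfsg.Agent.Helper4.C3.cubic_split ρ b hc hb3 U W hUW hUW' hU hW

/-- **F.** (Lemma 2) If `b` normalises the finite `3'`-group `X` and is trivial on `[V,X]`, then `b`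
centralises `X` (`ρ` faithful).  For `x ∈ X`, `c = x⁻¹ b⁻¹ x b ∈ X` fixes `fixS ρ X`; on
`M = comS ρ X` (which is `X`-invariant, D2) `c v = x⁻¹ b⁻¹ (x v) = x⁻¹ x v = v`; and
`V = fixS ⊔ comS` (D1), so `ρ c = 1`. -/
theorem comm_of_triv_on_comS {G : Type u} [Group G] {V : Type v} [AddCommGroup V]
    [Module (ZMod 3) V] (ρ : Representation (ZMod 3) G V) (hf : Function.Injective ρ)
    (X : Subgroup G) [Finite X] (hX : (Nat.card X).Coprime 3) (b : G)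
    (hbX : b ∈ Subgroup.normalizer (X : Set G)) (ht : ∀ v ∈ comS ρ X, ρ b v = v) :
    ∀ x ∈ X, b * x = x * b := by
  exact Cfsg.Agent.Helper47.C3.comm_of_triv_on_comS ρ hf X hX b hbX ht

/-- **I1.** (`A_4` bound) If the four-group `Q` (with `b` permuting its involutions) acts
nontrivially on a `Q`- and `b`-invariant submodule `M`, then `(b-1) M` has dimension `≥ 2`.
`Q = {1,q₁,q₂,q₃}`, `q₂ = b q₁ b⁻¹`, `q₃ = b q₂ b⁻¹`, `b q₃ b⁻¹ = q₁` (`b^3 = 1`).  For `u ∈ M` not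
fixed by `Q`, one of `w = u + q_i u - q_j u - q_k u` is nonzero (their sum with `u + q₁u + q₂u + q₃u`
is `4u = u`), `w ∈ M`, `q_i w = w`, `q_j w = -w`.  Then `w, b w, b² w` have the three distinct
weights, so are linearly independent, and `b w - w`, `b² w - b w ∈ (b-1) M` are independent. -/
theorem two_le_finrank_map_dl {G : Type u} [Group G] {V : Type v} [AddCommGroup V]
    [Module (ZMod 3) V] [Finite V] (ρ : Representation (ZMod 3) G V) (Q : Subgroup G) (b : G)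
    (hb3 : b ^ 3 = 1) (hQ : Four Q b) (M : Submodule (ZMod 3) V)
    (hMQ : ∀ q ∈ Q, ∀ v ∈ M, ρ q v ∈ M) (hMb : ∀ v ∈ M, ρ b v ∈ M)
    (hne : ∃ q ∈ Q, ∃ v ∈ M, ρ q v ≠ v) :
    2 ≤ Module.finrank (ZMod 3) ↥(M.map (dl ρ b)) := by
  exact Cfsg.Agent.Helper67.C3.two_le_finrank_map_dl ρ Q b hb3 hQ M hMQ hMb hne

/-- **I2.** The elements `g ∈ H` with `(g-1) F ⊆ N` form a normal subgroup of `H` (when `N, F` are
`H`-invariant): `g g' v - v = g (g' v - v) + (g v - v)`, `g⁻¹ v - v = -g⁻¹ (g v - v)`,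
`h g h⁻¹ v - v = h (g (h⁻¹ v) - h⁻¹ v)`.  It contains `b`, hence every `h c h⁻¹ c⁻¹`,
`c ∈ zpowers b`, hence `⁅H, zpowers b⁆`. -/
theorem dl_mem_of_mem_commutator {G : Type u} [Group G] {V : Type v} [AddCommGroup V]
    [Module (ZMod 3) V] (ρ : Representation (ZMod 3) G V) (H : Subgroup G) (b : G) (hbH : b ∈ H)
    (N F : Submodule (ZMod 3) V) (hN : Inv ρ H N) (hF : Inv ρ H F)
    (hb : ∀ v ∈ F, ρ b v - v ∈ N) :
    ∀ r ∈ ⁅H, Subgroup.zpowers b⁆, ∀ v ∈ F, ρ r v - v ∈ N := by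
  exact Cfsg.Agent.Helper94.C3.dl_mem_of_mem_commutator ρ H b hbH N F hN hF hb

/-- **I3.** Irreducibility of `R<b>` on `F₀ = [V,R]`, from the other pieces (given as hypotheses).
Let `0 ≠ N ≤ F₀` be invariant.  (1) `b` is not trivial on `N`: else `hI2` (with `⊥, N`) shows
`R = ⁅R,<b>⁆ ≤ ⁅R ⊔ <b>, <b>⁆` is trivial on `N`, so `N ≤ fixS ρ R ⊓ comS ρ R = ⊥`.
(2) if `Q` is nontrivial on `N`: `hI1` gives `finrank ((b-1)N) ≥ 2 = finrank (range (b-1))`, so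
`(b-1) V = (b-1) N ≤ N`; `hI2` (with `N, F₀`) gives `(r-1) F₀ ≤ N` for `r ∈ R`, so
`F₀ = [F₀,R] ≤ N` by `hidem`.  (3) if `Q` is trivial on `N` then `N ≤ fixS ρ Q`, where `b` is
trivial (`hfixQ`), contradicting (1). -/
theorem irred_core {G : Type u} [Group G] {V : Type v} [AddCommGroup V] [Module (ZMod 3) V]
    [Finite V] (ρ : Representation (ZMod 3) G V) (R Q : Subgroup G) (b : G)
    (hc : Cubic ρ b) (hcomm : ⁅R, Subgroup.zpowers b⁆ = R) (hQR : Q ≤ R)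
    (hfixQ : ∀ v ∈ fixS ρ Q, ρ b v = v)
    (hdec : fixS ρ R ⊓ comS ρ R = ⊥)
    (hidem : Submodule.span (ZMod 3) {w | ∃ x ∈ R, ∃ v ∈ comS ρ R, w = ρ x v - v} = comS ρ R)
    (hF : Inv ρ (R ⊔ Subgroup.zpowers b) (comS ρ R))
    (hI1 : ∀ M : Submodule (ZMod 3) V, (∀ q ∈ Q, ∀ v ∈ M, ρ q v ∈ M) → (∀ v ∈ M, ρ b v ∈ M) →
      (∃ q ∈ Q, ∃ v ∈ M, ρ q v ≠ v) → 2 ≤ Module.finrank (ZMod 3) ↥(M.map (dl ρ b)))
    (hI2 : ∀ N F : Submodule (ZMod 3) V, Inv ρ (R ⊔ Subgroup.zpowers b) N →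
      Inv ρ (R ⊔ Subgroup.zpowers b) F → (∀ v ∈ F, ρ b v - v ∈ N) →
      ∀ r ∈ ⁅R ⊔ Subgroup.zpowers b, Subgroup.zpowers b⁆, ∀ v ∈ F, ρ r v - v ∈ N)
    (N : Submodule (ZMod 3) V) (hN : N ≤ comS ρ R) (hNinv : Inv ρ (R ⊔ Subgroup.zpowers b) N) :
    N = ⊥ ∨ N = comS ρ R := by
  exact Cfsg.Agent.Helper94.C3.irred_core ρ R Q b hc hcomm hQR hfixQ hdec hidem hF hI1 hI2 N hN hNinv


/-- **TR.** Transfer: put `G = ↥(R ⊔ zpowers b)`, `V = ↥F₀`, `ρ'` the restricted representation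
(`(ρ g).restrict`), `R' = R.subgroupOf _`, `Q' = Q.subgroupOf _`, `b' = ⟨b, _⟩`; check `Cfg`; apply
`hII`; transfer `Concl R'` back along `Subgroup.subgroupOfEquivOfLe : ↥(R.subgroupOf K) ≃* ↥R`
(`IsExtraspecial` along a `MulEquiv`: `Cfsg.Agent.Helper63.isExtraspecial_of_mulEquiv`,
`Lib/Helper63/HeisES.lean`; `A ↦ A.map (Subgroup.subtype _)`).  `R ⊔ <b> = R·<b>` since `b` normalises
`R`, giving `Cfg.RB`. -/
theorem transfer {S : Type u} [Group S] [Finite S] {E : Type v} [AddCommGroup E]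
    [Module (ZMod 3) E] [Finite E] (ρ : Representation (ZMod 3) S E) (R Q : Subgroup S) (b : S)
    (F₀ : Submodule (ZMod 3) E) (hsolv : Group.IsSolvable S)
    (hfaith : ∀ g ∈ R ⊔ Subgroup.zpowers b, (∀ v ∈ F₀, ρ g v = v) → g = 1)
    (hinv : Inv ρ (R ⊔ Subgroup.zpowers b) F₀)
    (hirr : ∀ N : Submodule (ZMod 3) E, N ≤ F₀ → Inv ρ (R ⊔ Subgroup.zpowers b) N →
      N = ⊥ ∨ N = F₀)
    (hbR : b ∈ Subgroup.normalizer (R : Set S)) (hRc : (Nat.card ↥R).Coprime 3)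
    (hb3 : b ^ 3 = 1) (hcomm : ⁅R, Subgroup.zpowers b⁆ = R)
    (hcub : Module.finrank (ZMod 3) ↥(F₀.map (dl ρ b)) = 2 ∧
      Module.finrank (ZMod 3) ↥(F₀.map (dl ρ b * dl ρ b)) = 1)
    (hQR : Q ≤ R) (hQ : Four Q b)
    (hII : ∀ {G : Type u} [Group G] [Finite G] {V : Type v} [AddCommGroup V] [Module (ZMod 3) V]
      [Finite V] (ρ' : Representation (ZMod 3) G V) (R' Q' : Subgroup G) (b' : G),
      Cfg ρ' R' Q' b' → Concl R') :
    Concl R := by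
  exact Cfsg.Agent.Helper51.C3.transfer ρ R Q b F₀ hsolv hfaith hinv hirr hbR hRc hb3 hcomm hcub hQR hQ hII


/-- **P1.** `G` is the normal closure of `b`: the normal closure `N` contains `zpowers b`, hence
`⁅R, zpowers b⁆ = R` (`N` normal), hence every `g = r * b^i` (`Cfg.RB`). -/
theorem normalClosure_b {G : Type u} [Group G] [Finite G] {V : Type v} [AddCommGroup V]
    [Module (ZMod 3) V] [Finite V] (ρ : Representation (ZMod 3) G V) (R Q : Subgroup G) (b : G)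
    (h : Cfg ρ R Q b) : Subgroup.normalClosure ({b} : Set G) = ⊤ := by
  exact Cfsg.Agent.Helper94.C3.normalClosure_b ρ R Q b h

/-- **P2.** Central elements are `±1`.  `L = range ((b-1)²)` is a line (`Cubic`); `z` central commutes
with `b`, so `ρ z L ≤ L` and `ρ z l = ε • l` for a generator `l`, `ε ∈ {1,-1}` (`ε ≠ 0` as `ρ z` is
invertible; `ZMod 3`).  `ker (ρ z - ε)` is `G`-invariant (`z` central) and nonzero, so it is `⊤`
(`Cfg.irred`): `ρ z = ε`.  If `ε = 1` then `z = 1` (`Cfg.faith`). -/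
theorem central_scalar {G : Type u} [Group G] [Finite G] {V : Type v} [AddCommGroup V]
    [Module (ZMod 3) V] [Finite V] (ρ : Representation (ZMod 3) G V) (R Q : Subgroup G) (b : G)
    (h : Cfg ρ R Q b) : ∀ z ∈ Subgroup.center G, z = 1 ∨ ρ z = -1 := by
  exact Cfsg.Agent.Helper63.C3.central_scalar ρ R Q b h

/-- **QW.** The weights of `Q` (uses only `Cfg.faith, b3, cubic, four`).  `Q = {1,q₁,q₂,q₃}`,
`q₂ = b q₁ b⁻¹`, `q₃ = b q₂ b⁻¹`, `b q₃ b⁻¹ = q₁`.  Projections (char 3, `1/4 = 1`):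
`e₀ = 1+q₁+q₂+q₃`, `e_i = 1 + q_i - q_j - q_k`; `V = ⊕ e_i V`, `e₀ V = fixS ρ Q`,
`e₁V ⊕ e₂V ⊕ e₃V = comS ρ Q`, `b e_i V = e_{i+1} V`.  On `W = e₁V⊕e₂V⊕e₃V` the rank of `b-1` is
`2·dim e₁V` (kernel `{x + bx + b²x}`), on `fixS ρ Q` (`b`-invariant) it is `r₀`, and
`2 = rank(b-1) = 2 dim e₁V + r₀`; `dim e₁ V ≥ 1` as `Q` is faithful; so `dim e₁V = 1`, `r₀ = 0`.
Take `0 ≠ v₁ ∈ e₁V`, `v₂ = b v₁`, `v₃ = b v₂`; `b v₃ = b³ v₁ = v₁`. -/
theorem q_weights {G : Type u} [Group G] [Finite G] {V : Type v} [AddCommGroup V]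
    [Module (ZMod 3) V] [Finite V] (ρ : Representation (ZMod 3) G V) (R Q : Subgroup G) (b : G)
    (h : Cfg ρ R Q b) :
    ∃ (q₁ q₂ q₃ : G) (v₁ v₂ v₃ : V), QWeights ρ Q b q₁ q₂ q₃ v₁ v₂ v₃ := by
  exact Cfsg.Agent.Helper33.C3.q_weights ρ R Q b h

/-- **O1.** A `{2,3}'`-element `g` with `dim (g-1)W ≤ 2` on a `g`-invariant `W` is trivial on `W`.
`U = (g-1)W ≤ W` is `g`-invariant of dimension `d ≤ 2`; `|GL_d(3)| ∈ {1,2,48}`
(`Matrix.card_GL_field` or by hand) divides `48`, so `g^48 = 1` on `U`, and `g = (g^48)^k` (order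
coprime to 48): `g = 1` on `U`, i.e. `(g-1)² W = 0`, so `g³ = 1` on `W` (char 3), so `g = (g³)^k'` is
`1` on `W`. -/
theorem triv_on_of_small {G : Type u} [Group G] [Finite G] {V : Type v} [AddCommGroup V]
    [Module (ZMod 3) V] [Finite V] (ρ : Representation (ZMod 3) G V) (g : G)
    (hg : (orderOf g).Coprime 6) (W : Submodule (ZMod 3) V) (hW : ∀ v ∈ W, ρ g v ∈ W)
    (hsm : Module.finrank (ZMod 3) ↥(W.map (dl ρ g)) ≤ 2) : ∀ v ∈ W, ρ g v = v := by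
  exact Cfsg.Agent.Helper38.C3.triv_on_of_small ρ g hg W hW hsm

/-- **O2.** If the involution `q` inverts `y` (odd order) and `q` is a reflection on the invariant
subspace `C`, then `dim (y-1)C ≤ 2`.  With `m = orderOf y`, `y₂ = y^((m+1)/2)` (`y₂² = y`,
`q y₂ q⁻¹ = y₂⁻¹`): `t := q y = y₂⁻¹ q y₂`, so `(t-1)C = y₂⁻¹ (q-1) y₂ C = y₂⁻¹ (q-1) C` has
dimension `≤ 1`; and `y - 1 = q t - 1 = q (t-1) + (q-1)`. -/
theorem two_reflections {G : Type u} [Group G] [Finite G] {V : Type v} [AddCommGroup V]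
    [Module (ZMod 3) V] [Finite V] (ρ : Representation (ZMod 3) G V) (q y : G) (hq : q * q = 1)
    (hinv : q * y * q⁻¹ = y⁻¹) (hy : Odd (orderOf y)) (C : Submodule (ZMod 3) V)
    (hCq : ∀ v ∈ C, ρ q v ∈ C) (hCy : ∀ v ∈ C, ρ y v ∈ C)
    (hrefl : Module.finrank (ZMod 3) ↥(C.map (dl ρ q)) ≤ 1) :
    Module.finrank (ZMod 3) ↥(C.map (dl ρ y)) ≤ 2 := by
  exact Cfsg.Agent.Helper79.C3.two_reflections ρ q y hq hinv hy C hCq hCy hrefl

/-- **O3.** A `{2,3}'`-element `y` commuting with `q₁` and inverted by `q₂` is `1`.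
`W₁ = range (dl ρ q₁) = span{v₂,v₃}` is `y`-invariant of dimension 2: `y = 1` on it (`hO1`).
`C₁ = ker (dl ρ q₁) = fixS ρ Q ⊕ span{v₁}` is `y`- and `q₂`-invariant, `(q₂-1) C₁ = span{v₁}`; `hO2`
then `hO1` give `y = 1` on `C₁`.  `V = W₁ + C₁` (`v = -(q₁v - v) + (q₁ v + v)·(-1)`...: char 3,
`v = (v + q₁v)/2 + (v - q₁v)/2`, `1/2 = -1`).  So `ρ y = 1`, `y = 1` (`hf`). -/
theorem inverted_trivial {G : Type u} [Group G] [Finite G] {V : Type v} [AddCommGroup V]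
    [Module (ZMod 3) V] [Finite V] (ρ : Representation (ZMod 3) G V) (hf : Function.Injective ρ)
    (Q : Subgroup G) (b q₁ q₂ q₃ : G) (v₁ v₂ v₃ : V) (hw : QWeights ρ Q b q₁ q₂ q₃ v₁ v₂ v₃)
    (hO1 : ∀ (g : G), (orderOf g).Coprime 6 → ∀ W : Submodule (ZMod 3) V, (∀ v ∈ W, ρ g v ∈ W) →
      Module.finrank (ZMod 3) ↥(W.map (dl ρ g)) ≤ 2 → ∀ v ∈ W, ρ g v = v)
    (hO2 : ∀ (q y : G), q * q = 1 → q * y * q⁻¹ = y⁻¹ → Odd (orderOf y) →
      ∀ C : Submodule (ZMod 3) V, (∀ v ∈ C, ρ q v ∈ C) → (∀ v ∈ C, ρ y v ∈ C) →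
      Module.finrank (ZMod 3) ↥(C.map (dl ρ q)) ≤ 1 →
      Module.finrank (ZMod 3) ↥(C.map (dl ρ y)) ≤ 2)
    (y : G) (hy : (orderOf y).Coprime 6) (hy1 : y * q₁ = q₁ * y) (hy2 : q₂ * y * q₂⁻¹ = y⁻¹) :
    y = 1 := by
  exact Cfsg.Agent.Helper67.C3.inverted_trivial ρ hf Q b q₁ q₂ q₃ v₁ v₂ v₃ hw hO1 hO2 y hy hy1 hy2

/-- **O4.** `[Y,Q] = 1` for a `{2,3}'`-subgroup `Y` normalised by `Q` and `b`.  By coprime
generation (`Cfsg.Agent.Helper48.le_of_forall_inf_centralizer_le`, `Lib/Helper48/CoprimeGen.lean`,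
`p = 2`, `A = Q`, `M = Y`, `K = centralizer Q`) it suffices that each `C_Y(q_i)` centralises `Q`.
By `b`-conjugation (`b` normalises `Y` and permutes the `q_i`) take `i = 1`.  For `y ∈ C_Y(q₁)`:
`y' = y⁻¹ * (q₂ y q₂⁻¹) ∈ C_Y(q₁)` is inverted by `q₂`, so `y' = 1` (`hO3`), i.e. `q₂` (and
`q₃ = q₁q₂`) centralises `y`. -/
theorem comm_Q_of_odd {G : Type u} [Group G] [Finite G] {V : Type v} [AddCommGroup V]
    [Module (ZMod 3) V] [Finite V] (ρ : Representation (ZMod 3) G V)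
    (Q : Subgroup G) (b q₁ q₂ q₃ : G) (v₁ v₂ v₃ : V) (hw : QWeights ρ Q b q₁ q₂ q₃ v₁ v₂ v₃)
    (hb3 : b ^ 3 = 1)
    (hO3 : ∀ y : G, (orderOf y).Coprime 6 → y * q₁ = q₁ * y → q₂ * y * q₂⁻¹ = y⁻¹ → y = 1)
    (Y : Subgroup G) (hY : (Nat.card ↥Y).Coprime 6)
    (hQY : Q ≤ Subgroup.normalizer (Y : Set G)) (hbY : b ∈ Subgroup.normalizer (Y : Set G)) :
    ∀ y ∈ Y, ∀ q ∈ Q, y * q = q * y := by
  exact Cfsg.Agent.Helper67.C3.comm_Q_of_odd ρ Q b q₁ q₂ q₃ v₁ v₂ v₃ hw hb3 hO3 Y hY hQY hbY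

/-- **O5.** `[Y,b] = 1` if `Y` (a `{2,3}'`-group normalised by `b`) centralises `Q`.  `y ∈ Y` commutes
with `Q`, so preserves the weight lines: `ρ y v_i = ± v_i`, and `+` since `y` has odd order; so `y = 1`
on `W = comS ρ Q = span{v₁,v₂,v₃}`.  `b W = W` and `(b-1)V ≤ W` (`b = 1` on `fixS ρ Q`,
`V = fixS ⊕ W`).  `c = y⁻¹ b⁻¹ y b ∈ Y` is trivial on `W` and on `V/W` (`b` is), so `(c-1)² = 0`,
`c³ = 1`, `c = 1` (order prime to 3, `hf`). -/
theorem comm_b_of_odd {G : Type u} [Group G] [Finite G] {V : Type v} [AddCommGroup V]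
    [Module (ZMod 3) V] [Finite V] (ρ : Representation (ZMod 3) G V) (hf : Function.Injective ρ)
    (Q : Subgroup G) (b q₁ q₂ q₃ : G) (v₁ v₂ v₃ : V) (hw : QWeights ρ Q b q₁ q₂ q₃ v₁ v₂ v₃)
    (Y : Subgroup G) (hY : (Nat.card ↥Y).Coprime 6)
    (hbY : b ∈ Subgroup.normalizer (Y : Set G))
    (hYQ : ∀ y ∈ Y, ∀ q ∈ Q, y * q = q * y) : ∀ y ∈ Y, y * b = b * y := by
  exact Cfsg.Agent.Helper38.C3.comm_b_of_odd ρ hf Q b q₁ q₂ q₃ v₁ v₂ v₃ hw Y hY hbY hYQ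

/-- **O6.** `O_{2'}(R) = 1`: every `G`-normal subgroup `Y ≤ R` of odd order is trivial.  `|Y|` is
prime to 6 (`Cfg.Rcop`); `hO45` gives `[Y,b] = 1`; `Y` normal, so `Y` commutes with every conjugate of
`b`, hence with `normalClosure {b} = ⊤` (`hP1`): `Y ≤ center G`; by `hP2` every `y ∈ Y` is `1` or has
`ρ y = -1`, hence `y² = 1` (`Cfg.faith`), hence `y = 1` (odd order). -/
theorem odd_normal_trivial {G : Type u} [Group G] [Finite G] {V : Type v} [AddCommGroup V]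
    [Module (ZMod 3) V] [Finite V] (ρ : Representation (ZMod 3) G V) (R Q : Subgroup G) (b : G)
    (h : Cfg ρ R Q b) (hP1 : Subgroup.normalClosure ({b} : Set G) = ⊤)
    (hP2 : ∀ z ∈ Subgroup.center G, z = 1 ∨ ρ z = -1)
    (hO45 : ∀ Y : Subgroup G, (Nat.card ↥Y).Coprime 6 → Y.Normal → ∀ y ∈ Y, y * b = b * y)
    (Y : Subgroup G) (hYn : Y.Normal) (hYR : Y ≤ R) (hodd : (Nat.card ↥Y).Coprime 2) :
    Y = ⊥ := by
  exact Cfsg.Agent.Helper94.C3.odd_normal_trivial ρ R Q b h hP1 hP2 hO45 Y hYn hYR hodd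

/-- **T1.** `T = O_2(G) = pCore 2 G` works.  `O_{2'}(G) = ⊥`: for `Y` normal of odd order, `Y ⊓ R = ⊥`
(`hO`), so `|Y| ∣ 3`; if `|Y| = 3` then `[R,Y] ≤ R ⊓ Y = ⊥` and `Y` is a Sylow 3-subgroup, normal, so
`b ∈ Y` centralises `R`, `R = ⁅R,<b>⁆ = ⊥`, contradicting `Q ≤ R`, `|Q| = 4`.  Then
`Cfsg.Agent.Helper54.centralizer_pCore_le` (`p = 2`, `Lib/Helper54/Solv.lean`) gives `selfc`;
`T ≤ R` since `T` is a 2-group and `G/R` has order 3 (`Cfg.RB`); `max` is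
`Helper54.le_pCore`; `pg` is `Helper54.isPGroup_pCore`. -/
theorem exists_O2 {G : Type u} [Group G] [Finite G] {V : Type v} [AddCommGroup V]
    [Module (ZMod 3) V] [Finite V] (ρ : Representation (ZMod 3) G V) (R Q : Subgroup G) (b : G)
    (h : Cfg ρ R Q b)
    (hO : ∀ Y : Subgroup G, Y.Normal → Y ≤ R → (Nat.card ↥Y).Coprime 2 → Y = ⊥) :
    ∃ T : Subgroup G, IsO2 R T := by
  exact Cfsg.Agent.Helper57.C3.exists_O2 ρ R Q b h hO


/-- **M0.** Case (M) gives a monomial structure.  `A` normal elementary abelian 2-group with a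
non-scalar element.  For `λ : ↥A →* (ZMod 3)ˣ` let `V_λ = {v | ∀ a, ρ a v = λ a • v}`;
`V = ⊕ V_λ` (idempotents `|A|⁻¹ Σ_a λ(a) ρ(a)`, `|A| = 2^k` invertible), `ρ g V_λ = V_{λ^g}`.
`b` moves some nonzero `V_λ`: otherwise every conjugate of `b`, hence `G` (P1: `G` is the normal
closure of `b`, reprove it: `R = ⁅R,<b>⁆`, `Cfg.RB`), fixes every `V_λ`, each nonzero `V_λ` is `⊤`
(`Cfg.irred`) and `A` is scalar.  Then `V_λ, bV_λ, b²V_λ` are independent and `b - 1` has rank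
`2 dim V_λ` on their sum, so `dim V_λ = 1` (`Cubic`).  `G` is transitive on the nonzero weight
spaces (the sum over an orbit is invariant), so all are lines; choose `e_λ ∈ V_λ`, reindex by
`Fin (finrank V)`; `ρ g e_λ ∈ V_{λ^g}` is `± e_{λ^g}`. -/
theorem mono_of_caseM {G : Type u} [Group G] [Finite G] {V : Type v} [AddCommGroup V]
    [Module (ZMod 3) V] [Finite V] (ρ : Representation (ZMod 3) G V) (R Q : Subgroup G) (b : G)
    (h : Cfg ρ R Q b) (hM : CaseM ρ R) : IsMono ρ (Module.finrank (ZMod 3) V) := by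
  exact Cfsg.Agent.Helper61.C3.mono_of_caseM ρ R Q b h hM

/-- **M1.** In the monomial case `n ∈ {3,4}`.  `c = π b` has `c³ = 1`.  If `c i ≠ i` then on
`span{e_i, e_{ci}, e_{c²i}}` the operator `b - 1` has rank `2` (the three signs multiply to `1` as
`b³ = 1`); `rank (b-1) = 2` so `c` is exactly one 3-cycle (`c ≠ 1`: else `b` is diagonal with
`b³ = 1`, so `b = 1`), `n ≥ 3`.  `π G` is transitive (`Cfg.irred`: the span of an orbit is
invariant).  `⁅G,G⁆ ≤ R` (`Cfg.RB`, `Rn`) and `3 ∤ |R|`, so no commutator of two conjugates of `c`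
has order 3; but two 3-cycles whose supports meet in exactly one point have a 3-cycle as
commutator.  So supports `Δ_γ = γ supp(c)` of conjugates pairwise meet in `0, 2, 3` points.  If
`n ≥ 5`: by transitivity and generation by conjugates (P1) some `Δ' ≠ Δ` meets `Δ`, in two points;
the conjugates of `c` by `<c, c'>` have as supports all four 3-subsets of `Θ = Δ ∪ Δ'`; some `Δ''`
meets `Θ` without lying inside; if `Δ'' ∩ Θ = {p}` take a 3-subset of `Θ` through `p`; if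
`= {p,p'}` take `Θ \ {p'}`: it meets `Δ''` in exactly one point, contradiction. -/
theorem mono_dim {G : Type u} [Group G] [Finite G] {V : Type v} [AddCommGroup V]
    [Module (ZMod 3) V] [Finite V] (ρ : Representation (ZMod 3) G V) (R Q : Subgroup G) (b : G)
    (h : Cfg ρ R Q b) (n : ℕ) (hm : IsMono ρ n) : n = 3 ∨ n = 4 := by
  exact Cfsg.Agent.Helper12.C3.mono_dim ρ R Q b h n hm

/-- **M2.** Monomial, `n = 3`: `R = Q`.  `π b` is a 3-cycle, `π G ≤ S_3` has the normal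
`3'`-subgroup `π R` of index `≤ 3` ... `π R` is a normal `3'`-subgroup of `π G ∋` 3-cycle in `S_3`,
so `π R = 1`: `R` is diagonal.  `R = ⁅R,<b>⁆ ≤ ⁅G,G⁆` so `det (ρ r) = 1`: `R ↪ {ε ∈ {±1}³ | ∏ ε = 1}`
of order 4 (`Cfg.faith`); `Q ≤ R`, `|Q| = 4`: `R = Q`, `r * r = 1`, `Nat.card R = 4`. -/
theorem concl_of_mono_three {G : Type u} [Group G] [Finite G] {V : Type v} [AddCommGroup V]
    [Module (ZMod 3) V] [Finite V] (ρ : Representation (ZMod 3) G V) (R Q : Subgroup G) (b : G)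
    (h : Cfg ρ R Q b) (hm : IsMono ρ 3) : Concl R := by
  exact Cfsg.Agent.Helper12.C3.concl_of_mono_three ρ R Q b h hm

/-- **M3.** Monomial, `n = 4`: `R` extraspecial of order 32.  `π G ≤ S_4` transitive (`Cfg.irred`)
containing a 3-cycle with normal `3'`-subgroup `π R` of index 3: `π G = A_4`, `π R = V_4`.
`D = R ∩ ker π` (diagonal, `|R| = 4 |D|`), `det = 1` on `R ≤ ⁅G,G⁆`: `D ≤ E_8 = {ε | ∏ε = 1}`,
`D` is `A_4`-invariant so `D ∈ {1, <-1>, E_8}`.  `D = 1`: `R ≅ V_4`, `R = Q`, but then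
`fixS ρ R ≠ 0` (`dim = 4 - 3`, QW) is `G`-invariant, so `⊤`, `R = 1`.  `D = <-1>`: `|R| = 8`,
`R = Q × <-1>` abelian, `R = ⁅R,<b>⁆ = ⁅Q,<b>⁆ ≤ Q`.  So `D = E_8`, `|R| = 32`.  For `r, r'` over
`τ, σ ∈ V_4`, `r e_i = δ_i e_{τ i}`, `∏ δ = 1` (det): `r² = diag(δ_i δ_{τ i}) = ±1`;
`[r, diag ε] = diag(ε_i ε_{τ i}) = ±1`; `r r' = f · r' r` with `f_i = ε_i ε_{τ i} δ_i δ_{σ i}`
constant (`∏ε = ∏δ = 1`).  Centre `= <-1>` (a diagonal central `ε` has `ε_i ε_{τ i} = 1` for all `τ`;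
a non-diagonal `r` does not commute with `E_8`).  Use `Cfsg.Agent.Helper8.isExtraspecial_of_crit'`
(`Lib/Helper8/InvCent.lean`); `A = D`. -/
theorem concl_of_mono_four {G : Type u} [Group G] [Finite G] {V : Type v} [AddCommGroup V]
    [Module (ZMod 3) V] [Finite V] (ρ : Representation (ZMod 3) G V) (R Q : Subgroup G) (b : G)
    (h : Cfg ρ R Q b) (hm : IsMono ρ 4)
    (hQW : ∃ (q₁ q₂ q₃ : G) (v₁ v₂ v₃ : V), QWeights ρ Q b q₁ q₂ q₃ v₁ v₂ v₃) : Concl R := by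
  exact Cfsg.Agent.Helper82.C3.concl_of_mono_four ρ R Q b h hm hQW


/-- **S1.** Not (M): every `G`-normal abelian 2-subgroup `A ≤ R` is central.  `Ω = {a ∈ A | a² = 1}`
is a normal subgroup, elementary abelian, so its elements are scalar (`¬ CaseM`), hence central
(`Cfg.faith`), and `Ω ≤ {1, z}` (`hP2`).  If `a ∈ A` and `a²` is central then for `g = x b x⁻¹`:
`(a⁻¹ * g a g⁻¹)² = a⁻² g a² g⁻¹ = 1`, so `g a g⁻¹ ∈ {a, a z}`; `g³ = 1` and `z` central, `z² = 1`: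
`a = g³ a g⁻³ = a z³ = a z` unless `g a g⁻¹ = a`.  So `a` commutes with all conjugates of `b`, i.e.
with `normalClosure {b} = ⊤`.  Induct downwards along `a^(2^k) = 1`. -/
theorem abelian_normal_central {G : Type u} [Group G] [Finite G] {V : Type v} [AddCommGroup V]
    [Module (ZMod 3) V] [Finite V] (ρ : Representation (ZMod 3) G V) (R Q : Subgroup G) (b : G)
    (h : Cfg ρ R Q b) (hS : ¬ CaseM ρ R) (hP1 : Subgroup.normalClosure ({b} : Set G) = ⊤)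
    (hP2 : ∀ z ∈ Subgroup.center G, z = 1 ∨ ρ z = -1)
    (A : Subgroup G) (hAn : A.Normal) (hAR : A ≤ R) (hA2 : IsPGroup 2 ↥A)
    (hAc : ∀ x ∈ A, ∀ y ∈ A, x * y = y * x) : A ≤ Subgroup.center G := by
  exact Cfsg.Agent.Helper23.C3.abelian_normal_central ρ R Q b h hS hP1 hP2 A hAn hAR hA2 hAc

/-- **S2b.** A pairing count.  `t ↦ (n ↦ [t,n])` is a homomorphism from `T` to
`Hom(N/Z, Z) ` (`Z = {1,z}` central of order 2, `N/Z` elementary abelian) with kernel `C_T(N) = Z`;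
`|Hom(N/Z, Z_2)| = |N/Z|`.  So `|T| / 2 ≤ |N| / 2`. -/
theorem card_le_of_pairing {G : Type u} [Group G] (T N : Subgroup G) [Finite T] (z : G)
    (hNT : N ≤ T) (hzN : z ∈ N) (hz1 : z ≠ 1) (hz2 : z * z = 1) (hzc : ∀ t ∈ T, t * z = z * t)
    (hsq : ∀ n ∈ N, n * n = 1 ∨ n * n = z)
    (hcomm : ∀ t ∈ T, ∀ n ∈ N, t * n = n * t ∨ t * n = z * (n * t))
    (hcen : ∀ t ∈ T, (∀ n ∈ N, t * n = n * t) → t = 1 ∨ t = z) :
    Nat.card ↥T ≤ Nat.card ↥N := by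
  exact Cfsg.Agent.Helper60.C3.card_le_of_pairing T N z hNT hzN hz1 hz2 hzc hsq hcomm hcen

/-- **S2.** Not (M): `T = O_2(G)` is extraspecial-like.  `T ≠ ⊥` (`selfc` and `Q ≤ R`).  `Z(T)` is
`G`-normal abelian, so central (`hS1`), so `= {1,z}`, `ρ z = -1` (`hP2`, `Z(T) ≠ 1`).  `T ≠ {1,z}`
(`selfc`: `R ≤ T`, `|Q| = 4`).  `N = {t ∈ T | t² ∈ Z ∧ ∀ u ∈ T, [t,u] ∈ Z}` (preimage of
`Ω₁(Z(T/Z))`) is a `G`-normal subgroup; `Z(N)` is `G`-normal abelian so `= Z`; `D = C_T(N)` is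
`G`-normal, `D ∩ N = Z`; if `D ≠ Z` then `D/Z` meets `Z(T/Z)` nontrivially (normal subgroup of a
2-group), giving `d ∈ D \ Z` with `dZ ∈ Ω₁(Z(T/Z))`, i.e. `d ∈ N ∩ D = Z`.  So `C_T(N) = Z`, and
`hS2b` gives `|T| ≤ |N|`, `T = N`. -/
theorem eslike_of_caseS {G : Type u} [Group G] [Finite G] {V : Type v} [AddCommGroup V]
    [Module (ZMod 3) V] [Finite V] (ρ : Representation (ZMod 3) G V) (R Q : Subgroup G) (b : G)
    (h : Cfg ρ R Q b) (T : Subgroup G) (hT : IsO2 R T)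
    (hP2 : ∀ z ∈ Subgroup.center G, z = 1 ∨ ρ z = -1)
    (hS1 : ∀ A : Subgroup G, A.Normal → A ≤ R → IsPGroup 2 ↥A →
      (∀ x ∈ A, ∀ y ∈ A, x * y = y * x) → A ≤ Subgroup.center G)
    (hS2b : ∀ (N : Subgroup G) (z : G), N ≤ T → z ∈ N → z ≠ 1 → z * z = 1 →
      (∀ t ∈ T, t * z = z * t) → (∀ n ∈ N, n * n = 1 ∨ n * n = z) →
      (∀ t ∈ T, ∀ n ∈ N, t * n = n * t ∨ t * n = z * (n * t)) →
      (∀ t ∈ T, (∀ n ∈ N, t * n = n * t) → t = 1 ∨ t = z) → Nat.card ↥T ≤ Nat.card ↥N) :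
    ∃ z : G, ESLike ρ T z := by
  exact Cfsg.Agent.Helper56.C3.eslike_of_caseS ρ R Q b h T hT hP2 hS1 hS2b

/-- **S3z.** `b` acts nontrivially on `T/Z`.  Otherwise `b t b⁻¹ = t c(t)`, `c(t) ∈ {1,z}` central,
`t = b³ t b⁻³ = t c(t)³ = t c(t)`: `b` centralises `T`; `C_G(T)` is normal and contains `b`, so is `⊤`
(`hP1`); `T` is abelian, `T ⊆ {1,z}` (`ESLike.cen`), and `R ≤ T` (`selfc`) contradicts `|Q| = 4`. -/
theorem b_moves_T {G : Type u} [Group G] [Finite G] {V : Type v} [AddCommGroup V]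
    [Module (ZMod 3) V] [Finite V] (ρ : Representation (ZMod 3) G V) (R Q : Subgroup G) (b : G)
    (h : Cfg ρ R Q b) (T : Subgroup G) (hT : IsO2 R T) (z : G) (hES : ESLike ρ T z)
    (hP1 : Subgroup.normalClosure ({b} : Set G) = ⊤) :
    ∃ t ∈ T, b * t * b⁻¹ ≠ t ∧ b * t * b⁻¹ ≠ z * t := by
  exact Cfsg.Agent.Helper94.C3.b_moves_T ρ R Q b h T hT z hES hP1

/-- **S3b.** Lower bound for the centraliser algebra of a cubic element.  With `d = dl ρ b`,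
`d³ = 0`: the maps `f` with `f ∘ d = 0 = d ∘ f` (`≅ Hom(V / range d, ker d)`, dimension
`(n-2)·(n-2)`) commute with `ρ b = 1 + d`; `1, d` are independent modulo them (apply
`α + β d` to `v` with `d² v ≠ 0` after multiplying by `d`).  `centr` is
`Cfsg.Agent.Helper48.SympRep.centr` (`Lib/Helper48/SympRep.lean`). -/
theorem finrank_centr_ge {G : Type u} [Group G] {V : Type v} [AddCommGroup V]
    [Module (ZMod 3) V] [Finite V] (ρ : Representation (ZMod 3) G V) (b : G) (hc : Cubic ρ b)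
    (hb3 : b ^ 3 = 1) :
    (Module.finrank (ZMod 3) V - 2) ^ 2 + 2 ≤
      Module.finrank (ZMod 3) ↥(Cfsg.Agent.Helper48.SympRep.centr (ρ b)) := by
  exact Cfsg.Agent.Helper57.C3.finrank_centr_ge ρ b hc hb3

/-- **S3c.** Orbit count for a permutation of order dividing 3. -/
theorem three_mul_card_orbits {α : Type u} [Finite α] (σ : Equiv.Perm α) (hσ : σ ^ 3 = 1) :
    3 * Nat.card (MulAction.orbitRel.Quotient (Subgroup.zpowers σ) α) =
      Nat.card α + 2 * Nat.card {x : α // σ x = x} := by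
  exact Cfsg.Agent.Helper60.C3.three_mul_card_orbits σ hσ

/-- **S3d.** The arithmetic: `N = 4^m = |T/Z|`, `f = 4^c` fixed points with `c < m`, `e ≥ 1` the
dimension of the commutant, `o` the number of orbits. -/
theorem count_arith (n m c e o : ℕ) (hn : 3 ≤ n) (hm : 1 ≤ m) (hc : c < m) (he : 1 ≤ e)
    (h1 : 4 ^ m * e ≤ n * n) (h2 : (n - 2) ^ 2 + 2 ≤ o * e) (h3 : 3 * o = 4 ^ m + 2 * 4 ^ c) :
    m = 1 ∨ (m = 2 ∧ n = 4) := by
  exact Cfsg.Agent.Helper60.C3.count_arith n m c e o hn hm hc he h1 h2 h3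

/-- **S3.** Counting.  `ρ_T = ρ` restricted to `↥T` is `Cfsg.Agent.Helper48.SympRep.Symp`
(`Lib/Helper48/SympRep.lean`) with `scalarSubgroup = {1,z}` (`Cfg.faith`); `a` = conjugation by `b`
on `↥T`, `Normalises ρ_T a (ρ b) (ρ b⁻¹)`.  `card_mul_finrank_le`: `|T/Z| · e ≤ n²`;
`finrank_centr_le`: `dim centr (ρ b) ≤ o · e` (`o` = number of `<σ>`-orbits on `T/Z`, `e` = dim
of the commutant `≥ 1`); `hS3b`, `hS3c`; the fixed points of `σ` form a subgroup of `T/Z`, proper by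
`hbT`; `|T| = 2^(2m+1)` (`Helper8.isExtraspecial_of_crit'` + `Cfsg.Agent.S0095.result`); fixed points
`2^j` with `4^m - 2^j ≡ 0 (mod 3)` so `j` even, `j = 2c`, `c < m`; `hS3d`. -/
theorem card_T_of_eslike {G : Type u} [Group G] [Finite G] {V : Type v} [AddCommGroup V]
    [Module (ZMod 3) V] [Finite V] (ρ : Representation (ZMod 3) G V) (R Q : Subgroup G) (b : G)
    (h : Cfg ρ R Q b) (T : Subgroup G) (hTn : T.Normal) (z : G) (hES : ESLike ρ T z)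
    (hbT : ∃ t ∈ T, b * t * b⁻¹ ≠ t ∧ b * t * b⁻¹ ≠ z * t)
    (hS3b : (Module.finrank (ZMod 3) V - 2) ^ 2 + 2 ≤
      Module.finrank (ZMod 3) ↥(Cfsg.Agent.Helper48.SympRep.centr (ρ b)))
    (hS3c : ∀ {α : Type u} [Finite α] (σ : Equiv.Perm α), σ ^ 3 = 1 →
      3 * Nat.card (MulAction.orbitRel.Quotient (Subgroup.zpowers σ) α) =
        Nat.card α + 2 * Nat.card {x : α // σ x = x})
    (hS3d : ∀ n m c e o : ℕ, 3 ≤ n → 1 ≤ m → c < m → 1 ≤ e → 4 ^ m * e ≤ n * n →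
      (n - 2) ^ 2 + 2 ≤ o * e → 3 * o = 4 ^ m + 2 * 4 ^ c → m = 1 ∨ (m = 2 ∧ n = 4)) :
    Nat.card ↥T = 8 ∨ (Nat.card ↥T = 32 ∧ Module.finrank (ZMod 3) V = 4) := by
  exact Cfsg.Agent.Helper9.C3.card_T_of_eslike ρ R Q b h T hTn z hES hbT hS3b hS3c hS3d

/-- **S4.** `|T| = 8` is impossible.  `R` is a 2-group: an element `r ∈ R` of odd prime order `p ≥ 5`
fixes each of the 3 nontrivial cosets of `{1,z}` in `T`, `r t r⁻¹ = t c(t)`, `c(t) ∈ {1,z}`, and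
`t = r^p t r^{-p} = t c(t)^p = t c(t)`: `r` centralises `T`, `r ∈ T` (`selfc`), a 2-group.  So `R` is a
normal 2-subgroup, `R ≤ T` (`max`), `R = T` has order 8; `z ∉ Q` (`b` moves every `q ≠ 1` of `Q`,
`z` is central), so `T = Q × <z>` is abelian, contradicting `ESLike.cen` (`|T| > 2`). -/
theorem not_card_eight {G : Type u} [Group G] [Finite G] {V : Type v} [AddCommGroup V]
    [Module (ZMod 3) V] [Finite V] (ρ : Representation (ZMod 3) G V) (R Q : Subgroup G) (b : G)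
    (h : Cfg ρ R Q b) (T : Subgroup G) (hT : IsO2 R T) (z : G) (hES : ESLike ρ T z)
    (hc : Nat.card ↥T = 8) : False := by
  exact Cfsg.Agent.Helper47.C3.not_card_eight ρ R Q b h T hT z hES hc

/-- **S5.** `|T| = 32`, `n = 4`: `R = T`.  Enough: `R` is a 2-group (`max`).  Let `p` be an odd
prime dividing `|R|`; `p ≥ 5`; `R ↪ GL_4(3)` of order `2^9·3^6·5·13` (`Matrix.card_GL_field`,
`Cfg.faith`): `p ∈ {5,13}`, Sylow `p`-subgroups of `R` have order `p`.  `p = 13`: `y` of order 13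
permutes the 15 nontrivial cosets of `{1,z}` in `T`; the fixed cosets form a subgroup of order
`16 - 13k`, so `k = 0`, and as in S4 `y` centralises `T`, `y ∈ T`.  `p = 5`: `Y = <y>` Sylow in `R`,
Frattini `G = R · N_G(Y)` so `N_G(Y)` has an element `b'` of order 3, conjugate to `b` or `b⁻¹`
(Sylow), hence cubic (`b⁻¹ - 1 = -b⁻¹(b-1)`); `b'` centralises `Y` (`|Aut Y| = 4`).
`K = ker (b'-1)` and `I = range (b'-1)` have dimension 2 and are `y`-invariant; `5 ∤ 48 = |GL_2(3)|`,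
so `y = 1` on `K` and on `I ≅ V/K`, so `(y-1)² = 0`, `y³ = 1`, `y = 1`. -/
theorem R_eq_T_of_card_32 {G : Type u} [Group G] [Finite G] {V : Type v} [AddCommGroup V]
    [Module (ZMod 3) V] [Finite V] (ρ : Representation (ZMod 3) G V) (R Q : Subgroup G) (b : G)
    (h : Cfg ρ R Q b) (T : Subgroup G) (hT : IsO2 R T) (z : G) (hES : ESLike ρ T z)
    (hc : Nat.card ↥T = 32) (hn : Module.finrank (ZMod 3) V = 4) : R = T := by
  exact Cfsg.Agent.Helper90.C3.R_eq_T_of_card_32 ρ R Q b h T hT z hES hc hn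

/-- **S6.** The conclusion when `R` itself is extraspecial-like of order 32:
`Cfsg.Agent.Helper8.isExtraspecial_of_crit'` (`Lib/Helper8/InvCent.lean`) for `↥R` with the central
subgroup `{1,z}`; `A = Q ⊔ zpowers z` is elementary abelian of order 8 (`z ∉ Q` as `b` moves every
`1 ≠ q ∈ Q` and `z` is central). -/
theorem concl_of_eslike_32 {G : Type u} [Group G] [Finite G] {V : Type v} [AddCommGroup V]
    [Module (ZMod 3) V] [Finite V] (ρ : Representation (ZMod 3) G V) (R Q : Subgroup G) (b : G)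
    (h : Cfg ρ R Q b) (z : G) (hES : ESLike ρ R z) (hc : Nat.card ↥R = 32) : Concl R := by
  exact Cfsg.Agent.Helper47.C3.concl_of_eslike_32 ρ R Q b h z hES hc

end Cfsg.Agent.Helper32.C3
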