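import Mathlib
import Cfsg.Agent.Lib.Helper32.C3Pieces
import Cfsg.Agent.Lib.Helper54.Solv

/-!
# S4415 (lemma server "C3"): assembly of the delivered pieces
-/

set_option autoImplicit false

namespace Cfsg.Agent.Helper32.C3

universe u v

section General

variable {G : Type u} [Group G] {V : Type v} [AddCommGroup V] [Module (ZMod 3) V]

/-- the subgroup of elements acting trivially on `N` -/
def fixer (ρ : Representation (ZMod 3) G V) (N : Submodule (ZMod 3) V) : Subgroup G where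
  carrier := {g | ∀ v ∈ N, ρ g v = v}
  mul_mem' := by
    intro a c ha hc v hv
    rw [map_mul, Module.End.mul_apply, hc v hv, ha v hv]
  one_mem' := by
    intro v _
    simp
  inv_mem' := by
    intro a ha v hv
    have h1 := ha v hv
    calc ρ a⁻¹ v = ρ a⁻¹ (ρ a v) := by rw [h1]
      _ = v := by
        rw [← Module.End.mul_apply, ← map_mul, inv_mul_cancel, map_one, Module.End.one_apply]

theorem mem_fixer (ρ : Representation (ZMod 3) G V) (N : Submodule (ZMod 3) V) (g : G) :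
    g ∈ fixer ρ N ↔ ∀ v ∈ N, ρ g v = v := Iff.rfl

/-- (G) a cubic element normalising, not centralising a `3'`-group `X` is trivial on `C_V(X)` -/
theorem triv_on_fixS [Finite V] (ρ : Representation (ZMod 3) G V) (hf : Function.Injective ρ)
    (b : G) (hc : Cubic ρ b) (hb3 : b ^ 3 = 1) (X : Subgroup G) [Finite X]
    (hX : (Nat.card X).Coprime 3) (hbX : b ∈ Subgroup.normalizer (X : Set G))
    (hne : ∃ x ∈ X, b * x ≠ x * b) : ∀ v ∈ fixS ρ X, ρ b v = v := by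
  obtain ⟨h1, h2⟩ := fix_com_decomp ρ X hX
  obtain ⟨hi1, hi2⟩ := inv_fix_com ρ X b hbX
  rcases cubic_split ρ b hc hb3 (fixS ρ X) (comS ρ X) h1 h2 hi1 hi2 with h | h
  · exact h
  · exfalso
    obtain ⟨x, hx, hne⟩ := hne
    exact hne (comm_of_triv_on_comS ρ hf X hX b hbX h x hx)

end General

/-! ## Part II -/

theorem partII {G : Type u} [Group G] [Finite G] {V : Type v} [AddCommGroup V]
    [Module (ZMod 3) V] [Finite V] (ρ : Representation (ZMod 3) G V) (R Q : Subgroup G) (b : G)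
    (h : Cfg ρ R Q b) : Concl R := by
  by_cases hM : CaseM ρ R
  · have hm := mono_of_caseM ρ R Q b h hM
    rcases mono_dim ρ R Q b h _ hm with h3 | h4
    · rw [h3] at hm
      exact concl_of_mono_three ρ R Q b h hm
    · rw [h4] at hm
      exact concl_of_mono_four ρ R Q b h hm (q_weights ρ R Q b h)
  · have hP1 := normalClosure_b ρ R Q b h
    have hP2 := central_scalar ρ R Q b h
    obtain ⟨q₁, q₂, q₃, v₁, v₂, v₃, hw⟩ := q_weights ρ R Q b h
    have hO3 : ∀ y : G, (orderOf y).Coprime 6 → y * q₁ = q₁ * y → q₂ * y * q₂⁻¹ = y⁻¹ → y = 1 :=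
      fun y hy h1 h2 => inverted_trivial ρ h.faith Q b q₁ q₂ q₃ v₁ v₂ v₃ hw
        (triv_on_of_small ρ) (two_reflections ρ) y hy h1 h2
    have hO45 : ∀ Y : Subgroup G, (Nat.card ↥Y).Coprime 6 → Y.Normal →
        ∀ y ∈ Y, y * b = b * y := by
      intro Y hY hYn
      have hnorm : Subgroup.normalizer (Y : Set G) = ⊤ := Subgroup.normalizer_eq_top_iff.mpr hYn
      have hbY : b ∈ Subgroup.normalizer (Y : Set G) := by rw [hnorm]; exact Subgroup.mem_top b
      have hQY : Q ≤ Subgroup.normalizer (Y : Set G) := by rw [hnorm]; exact le_top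
      exact comm_b_of_odd ρ h.faith Q b q₁ q₂ q₃ v₁ v₂ v₃ hw Y hY hbY
        (comm_Q_of_odd ρ Q b q₁ q₂ q₃ v₁ v₂ v₃ hw h.b3 hO3 Y hY hQY hbY)
    have hO := odd_normal_trivial ρ R Q b h hP1 hP2 hO45
    obtain ⟨T, hT⟩ := exists_O2 ρ R Q b h hO
    have hS1 := abelian_normal_central ρ R Q b h hM hP1 hP2
    obtain ⟨z, hES⟩ := eslike_of_caseS ρ R Q b h T hT hP2 hS1
      (fun N z => card_le_of_pairing T N z)
    have hbT := b_moves_T ρ R Q b h T hT z hES hP1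
    rcases card_T_of_eslike ρ R Q b h T hT.normal z hES hbT
      (finrank_centr_ge ρ b h.cubic h.b3) (fun σ hσ => three_mul_card_orbits σ hσ)
      count_arith with h8 | ⟨h32, hn⟩
    · exact (not_card_eight ρ R Q b h T hT z hES h8).elim
    · have hRT := R_eq_T_of_card_32 ρ R Q b h T hT z hES h32 hn
      rw [← hRT] at hES h32
      exact concl_of_eslike_32 ρ R Q b h z hES h32

/-! ## Part I -/

theorem partI {S : Type u} [Group S] [Finite S] {E : Type v} [AddCommGroup E]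
    [Module (ZMod 3) E] [Finite E] (ρ : Representation (ZMod 3) S E) (B : Subgroup S) (b : S)
    (E₀ E₁ : Submodule (ZMod 3) E) (Q : Subgroup S) (P : Sylow 3 S)
    (h : Hyp ρ B b E₀ E₁ Q P) :
    Concl ⁅Cfsg.pPrimeCore 3 S, B⁆ ∧
    ∃ F₀ F₁ : Submodule (ZMod 3) E, F₀ ⊓ F₁ = ⊥ ∧ F₀ ⊔ F₁ = ⊤ ∧
      (∀ r ∈ ⁅Cfsg.pPrimeCore 3 S, B⁆, ∀ v ∈ F₁, ρ r v = v) ∧
      (∀ r ∈ ⁅Cfsg.pPrimeCore 3 S, B⁆ ⊔ B, ∀ v ∈ F₀, ρ r v ∈ F₀) ∧
      (∀ r ∈ ⁅Cfsg.pPrimeCore 3 S, B⁆ ⊔ B, (∀ v ∈ F₀, ρ r v = v) → r = 1) ∧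
      (∀ N : Submodule (ZMod 3) E, N ≤ F₀ →
        (∀ r ∈ ⁅Cfsg.pPrimeCore 3 S, B⁆ ⊔ B, ∀ v ∈ N, ρ r v ∈ N) → N = ⊥ ∨ N = F₀) := by
  obtain ⟨hcub, hb3⟩ := cubic_of_hyp ρ B b E₀ E₁ Q P h
  obtain ⟨hQK, hFour, hQR⟩ := Q_le_core ρ B b E₀ E₁ Q P h
    (exists_normal_three_mod ρ B b E₀ E₁ Q P h)
  have hBb : Subgroup.zpowers b = B := h.hb
  have hbQ : b ∈ Subgroup.normalizer (Q : Set S) := h.hBQ (hBb ▸ Subgroup.mem_zpowers b)
  have hfaith := h.faith
  have hsolv := h.solv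
  have hQ4 := h.hQ4
  clear h
  subst hBb
  have hKn : (Cfsg.pPrimeCore 3 S).Normal := (Cfsg.Agent.Helper54.pPrimeCore_mem 3).1
  have hK : (Nat.card ↥(Cfsg.pPrimeCore 3 S)).Coprime 3 := (Cfsg.Agent.Helper54.pPrimeCore_mem 3).2
  obtain ⟨hRK, hbR, hKR, hcomm⟩ := commutator_facts (Cfsg.pPrimeCore 3 S) hK b hb3
  set R : Subgroup S := ⁅Cfsg.pPrimeCore 3 S, Subgroup.zpowers b⁆ with hRdef
  have hRc : (Nat.card ↥R).Coprime 3 :=
    Nat.Coprime.coprime_dvd_left (Subgroup.card_dvd_of_le hRK) hK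
  have hQc : (Nat.card ↥Q).Coprime 3 := by rw [hQ4]; decide
  obtain ⟨q, hqQ, hqne⟩ := hFour.2.2.2
  have hbq : b * q ≠ q * b := by
    intro hcon
    apply hqne
    rw [hcon, mul_inv_cancel_right]
  have hbF1 : ∀ v ∈ fixS ρ R, ρ b v = v :=
    triv_on_fixS ρ hfaith b hcub hb3 R hRc hbR ⟨q, hQR hqQ, hbq⟩
  have hfixQ : ∀ v ∈ fixS ρ Q, ρ b v = v :=
    triv_on_fixS ρ hfaith b hcub hb3 Q hQc hbQ ⟨q, hqQ, hbq⟩
  obtain ⟨hd1, hd2⟩ := fix_com_decomp ρ R hRc
  have hsupN : R ⊔ Subgroup.zpowers b ≤ Subgroup.normalizer (R : Set S) :=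
    sup_le Subgroup.le_normalizer ((Subgroup.zpowers_le).mpr hbR)
  have hF : Inv ρ (R ⊔ Subgroup.zpowers b) (comS ρ R) :=
    fun g hg v hv => (inv_fix_com ρ R g (hsupN hg)).2 v hv
  have htriv : ∀ g ∈ R ⊔ Subgroup.zpowers b, ∀ v ∈ fixS ρ R, ρ g v = v := by
    have hle : R ⊔ Subgroup.zpowers b ≤ fixer ρ (fixS ρ R) := by
      apply sup_le
      · intro r hr v hv
        exact hv r hr
      · rw [Subgroup.zpowers_le]
        exact hbF1
    exact fun g hg => hle hg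
  have hfaith' : ∀ g ∈ R ⊔ Subgroup.zpowers b, (∀ v ∈ comS ρ R, ρ g v = v) → g = 1 := by
    intro g hg hgt
    apply hfaith
    rw [map_one]
    apply LinearMap.ext
    intro v
    have hv : v ∈ fixS ρ R ⊔ comS ρ R := by rw [hd2]; exact Submodule.mem_top
    obtain ⟨a, ha, c, hc, rfl⟩ := Submodule.mem_sup.mp hv
    rw [map_add, htriv g hg a ha, hgt c hc, Module.End.one_apply]
  have hirr : ∀ N : Submodule (ZMod 3) E, N ≤ comS ρ R →
      Inv ρ (R ⊔ Subgroup.zpowers b) N → N = ⊥ ∨ N = comS ρ R := by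
    intro N hN hNinv
    exact irred_core ρ R Q b hcub hcomm hQR hfixQ hd1 (comS_idem ρ R hRc) hF
      (fun M h1 h2 h3 => two_le_finrank_map_dl ρ Q b hb3 hFour M h1 h2 h3)
      (fun N F hN hF hb => dl_mem_of_mem_commutator ρ (R ⊔ Subgroup.zpowers b) b
        (Subgroup.mem_sup_right (Subgroup.mem_zpowers b)) N F hN hF hb) N hN hNinv
  have hmap : ∀ f : Module.End (ZMod 3) E, (∀ v ∈ fixS ρ R, f v = 0) →
      (comS ρ R).map f = LinearMap.range f := by
    intro f hf0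
    apply le_antisymm
    · rintro _ ⟨v, _, rfl⟩
      exact LinearMap.mem_range_self f v
    · rintro _ ⟨v, rfl⟩
      have hv : v ∈ fixS ρ R ⊔ comS ρ R := by rw [hd2]; exact Submodule.mem_top
      obtain ⟨a, ha, c, hc, rfl⟩ := Submodule.mem_sup.mp hv
      rw [map_add, hf0 a ha, zero_add]
      exact Submodule.mem_map_of_mem hc
  have hdl0 : ∀ v ∈ fixS ρ R, dl ρ b v = 0 := by
    intro v hv
    rw [dl_apply, hbF1 v hv, sub_self]
  have hcub' : Module.finrank (ZMod 3) ↥((comS ρ R).map (dl ρ b)) = 2 ∧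
      Module.finrank (ZMod 3) ↥((comS ρ R).map (dl ρ b * dl ρ b)) = 1 := by
    rw [hmap _ hdl0, hmap (dl ρ b * dl ρ b) (fun v hv => by
      rw [Module.End.mul_apply, hdl0 v hv, map_zero])]
    exact hcub
  refine ⟨?_, comS ρ R, fixS ρ R, ?_, ?_, ?_, ?_, hfaith', ?_⟩
  · exact transfer ρ R Q b (comS ρ R) hsolv hfaith' hF hirr hbR hRc hb3 hcomm hcub' hQR hFour
      (fun ρ' R' Q' b' hcfg => partII ρ' R' Q' b' hcfg)
  · rw [inf_comm]; exact hd1
  · rw [sup_comm]; exact hd2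
  · intro r hr v hv
    exact hv r hr
  · exact hF
  · intro N hN hNinv
    exact hirr N hN hNinv

end Cfsg.Agent.Helper32.C3
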