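import Mathlib
import Cfsg.Agent.Lib.Helper70.Transfer

/-!
# Transfer of a central involution of a Sylow 2-subgroup (general commutative target)

If `H` is a 2-subgroup of odd index in the finite group `G`, `z` is a central involution of `H`
which is centralized by `N_G(H)`, and `ϕ : H →* A` is a homomorphism into a commutative group,
then the transfer of `ϕ` maps `z` to `ϕ z`.
-/

set_option autoImplicit false

namespace Cfsg.Agent.Helper32.CT

open Subgroup MulAction

/-- Product of an invariant function with values of order at most two, over a finite set acted on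
by a 2-group: only the fixed points matter. -/
theorem prod_eq_of_fixedPoints {H : Type*} [Group H] (hH : IsPGroup 2 H) {Ω : Type*}
    [MulAction H Ω] [Fintype Ω] {A : Type*} [CommGroup A] (ψ : Ω → A)
    (hinv : ∀ (h : H) (c : Ω), ψ (h • c) = ψ c) (hsq : ∀ c, ψ c * ψ c = 1) (a : A)
    (hfix : ∀ c ∈ fixedPoints H Ω, ψ c = a) (hodd : Odd (Nat.card (fixedPoints H Ω))) :
    ∏ c : Ω, ψ c = a := by
  classical
  have : Fact (Nat.Prime 2) := ⟨Nat.prime_two⟩
  have hpe : ∀ (b : A) (n : ℕ), b * b = 1 → Even n → b ^ n = 1 := by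
    rintro b n hb ⟨k, rfl⟩
    rw [pow_add, ← mul_pow, hb, one_pow]
  have hpo : ∀ (b : A) (n : ℕ), b * b = 1 → Odd n → b ^ n = b := by
    rintro b n hb ⟨k, rfl⟩
    rw [pow_succ, two_mul, pow_add, ← mul_pow, hb, one_pow, one_mul]
  -- a fixed point exists
  have hne : Nonempty (fixedPoints H Ω) := by
    by_contra h
    rw [not_nonempty_iff] at h
    rw [Nat.card_of_isEmpty] at hodd
    exact absurd hodd (by decide)
  obtain ⟨⟨c₀, hc₀⟩⟩ := hne
  have hac₀ : ψ c₀ = a := hfix c₀ hc₀
  have hstep : ∏ c : Ω, ψ c = ∏ b ∈ Finset.univ.image ψ,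
      b ^ (Finset.univ.filter (fun c => ψ c = b)).card := by
    have := Finset.prod_comp (s := (Finset.univ : Finset Ω)) (fun b : A => b) ψ
    simpa using this
  rw [hstep]
  have hterm : ∀ b ∈ Finset.univ.image ψ,
      b ^ (Finset.univ.filter (fun c => ψ c = b)).card = if b = a then a else 1 := by
    intro b hb
    obtain ⟨c₁, -, hc₁⟩ := Finset.mem_image.mp hb
    have hbb : b * b = 1 := by rw [← hc₁]; exact hsq c₁
    -- the sub-action on the fibre
    let Y : SubMulAction H Ω :=
      { carrier := {c | ψ c = b}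
        smul_mem' := by
          intro h c hc
          change ψ (h • c) = b
          rw [hinv]; exact hc }
    have hYcard : Nat.card Y = (Finset.univ.filter (fun c => ψ c = b)).card := by
      rw [Nat.card_eq_fintype_card]
      apply Fintype.card_of_subtype
      intro x
      simp only [Finset.mem_filter, Finset.mem_univ, true_and]
      rfl
    have hmod : Nat.card Y ≡ Nat.card (fixedPoints H Y) [MOD 2] :=
      hH.card_modEq_card_fixedPoints Y
    by_cases hba : b = a
    · rw [if_pos hba]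
      have hcongr : Nat.card (fixedPoints H Y) = Nat.card (fixedPoints H Ω) := by
        apply Nat.card_congr
        refine ⟨fun x => ⟨x.1.1, fun h => congrArg Subtype.val (x.2 h)⟩,
          fun x => ⟨⟨x.1, by
            change ψ x.1 = b
            rw [hba]; exact hfix x.1 x.2⟩, fun h => Subtype.ext (x.2 h)⟩, ?_, ?_⟩
        · intro x; rfl
        · intro x; rfl
      rw [hcongr] at hmod
      have hoddY : Odd (Nat.card Y) := by
        rw [Nat.odd_iff] at hodd ⊢
        unfold Nat.ModEq at hmod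
        omega
      rw [← hYcard, hpo b _ hbb hoddY, hba]
    · rw [if_neg hba]
      have hempty : IsEmpty (fixedPoints H Y) := by
        constructor
        rintro ⟨⟨c, hc⟩, hfixed⟩
        apply hba
        have hcf : c ∈ fixedPoints H Ω := fun h => congrArg Subtype.val (hfixed h)
        have h1 : ψ c = b := hc
        rw [← h1]
        exact hfix c hcf
      have h0 : Nat.card (fixedPoints H Y) = 0 := Nat.card_of_isEmpty
      rw [h0] at hmod
      have hevenY : Even (Nat.card Y) := by
        rw [Nat.even_iff]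
        unfold Nat.ModEq at hmod
        omega
      rw [← hYcard, hpe b _ hbb hevenY]
  rw [Finset.prod_congr rfl hterm, Finset.prod_ite_eq']
  rw [if_pos]
  exact Finset.mem_image.mpr ⟨c₀, Finset.mem_univ _, hac₀⟩

variable {G : Type*} [Group G] {A : Type*} [CommGroup A]

theorem extHom_conj {H : Subgroup G} (ϕ : ↥H →* A) {s : G} (hs : s ∈ H) (y : G) :
    Helper70.extHom ϕ (s⁻¹ * y * s) = Helper70.extHom ϕ y := by
  by_cases hy : y ∈ H
  · have h1 : s⁻¹ * y * s ∈ H := H.mul_mem (H.mul_mem (H.inv_mem hs) hy) hs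
    rw [Helper70.extHom_of_mem ϕ h1, Helper70.extHom_of_mem ϕ hy]
    have : (⟨s⁻¹ * y * s, h1⟩ : H) = (⟨s, hs⟩ : H)⁻¹ * ⟨y, hy⟩ * ⟨s, hs⟩ := Subtype.ext rfl
    rw [this, map_mul, map_mul, map_inv, mul_comm, mul_inv_cancel_left]
  · have h1 : s⁻¹ * y * s ∉ H := by
      intro h
      apply hy
      have : y = s * (s⁻¹ * y * s) * s⁻¹ := by group
      rw [this]
      exact H.mul_mem (H.mul_mem hs h) (H.inv_mem hs)
    unfold Helper70.extHom
    rw [dif_neg h1, dif_neg hy]

/-- Transfer of a central involution `z` of a 2-subgroup `H` of odd index which is centralized by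
`N_G(H)`: the transfer of any `ϕ : H →* A` sends `z` to `ϕ z`. -/
theorem transfer_central_involution_gen [Finite G] (H : Subgroup G)
    (hHp : IsPGroup 2 H) (hHodd : ¬ 2 ∣ H.index)
    (ϕ : ↥H →* A) (z : G) (hzS : z ∈ H)
    (hzc : ∀ s ∈ H, s * z = z * s) (hz2 : z * z = 1)
    (hN : ∀ n ∈ Subgroup.normalizer (H : Set G), n⁻¹ * z * n = z) :
    MonoidHom.transfer ϕ z = ϕ ⟨z, hzS⟩ := by
  classical
  have : Fact (Nat.Prime 2) := ⟨Nat.prime_two⟩
  have : Fintype (G ⧸ H) := Fintype.ofFinite _
  rw [Helper70.transfer_eq_prod_out]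
  have hzinv : z⁻¹ = z := inv_eq_of_mul_eq_one_left hz2
  rw [hzinv]
  -- general membership
  have hmem : ∀ c : G ⧸ H, c.out⁻¹ * z * (z • c).out ∈ H := by
    intro c
    have h1 : ((z * (z • c).out : G) : G ⧸ H) = ((c.out : G) : G ⧸ H) := by
      have : ((z * (z • c).out : G) : G ⧸ H) = z • (((z • c).out : G) : G ⧸ H) := rfl
      rw [this, QuotientGroup.out_eq', QuotientGroup.out_eq', smul_smul, hz2, one_smul]
    have := QuotientGroup.eq.mp h1.symm
    rwa [← mul_assoc] at this
  have hzz : ∀ c : G ⧸ H, z • z • c = c := by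
    intro c
    rw [smul_smul, hz2, one_smul]
  -- split
  rw [← Finset.prod_filter_mul_prod_filter_not Finset.univ (fun c : G ⧸ H => z • c = c)]
  have hnon : ∏ c ∈ Finset.univ.filter (fun c : G ⧸ H => ¬ z • c = c),
      Helper70.extHom ϕ (c.out⁻¹ * z * (z • c).out) = 1 := by
    refine Finset.prod_involution (fun c _ => z • c) ?_ ?_ ?_ ?_
    · intro c _
      have h1 := hmem c
      have h2 := hmem (z • c)
      rw [hzz] at h2 ⊢
      rw [← Helper70.extHom_mul ϕ h1 h2]
      have : c.out⁻¹ * z * (z • c).out * ((z • c).out⁻¹ * z * c.out) = 1 := by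
        calc c.out⁻¹ * z * (z • c).out * ((z • c).out⁻¹ * z * c.out)
            = c.out⁻¹ * (z * z) * c.out := by group
          _ = 1 := by rw [hz2]; group
      rw [this, Helper70.extHom_one]
    · intro c hc _
      exact (Finset.mem_filter.mp hc).2
    · intro c hc
      rw [Finset.mem_filter] at hc ⊢
      refine ⟨Finset.mem_univ _, ?_⟩
      intro h
      apply hc.2
      have := congrArg (fun d => z • d) h
      simp only [hzz] at this
      exact this
    · intro c _
      exact hzz c
  rw [hnon, mul_one]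
  -- the fixed part
  have hfixterm : ∀ c ∈ Finset.univ.filter (fun c : G ⧸ H => z • c = c),
      Helper70.extHom ϕ (c.out⁻¹ * z * (z • c).out) = Helper70.extHom ϕ (c.out⁻¹ * z * c.out) := by
    intro c hc
    rw [(Finset.mem_filter.mp hc).2]
  rw [Finset.prod_congr rfl hfixterm]
  -- sub-action of `H` on the `z`-fixed cosets
  have hzh : ∀ (h : H) (c : G ⧸ H), z • (h • c) = h • (z • c) := by
    intro h c
    change z • ((h : G) • c) = (h : G) • (z • c)
    rw [smul_smul, smul_smul, hzc h h.2]
  let Y : SubMulAction H (G ⧸ H) :=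
    { carrier := {c | z • c = c}
      smul_mem' := by
        intro h c hc
        change z • (h • c) = h • c
        rw [hzh, hc] }
  have : Fintype Y := Fintype.ofFinite _
  have hprod : ∏ c ∈ Finset.univ.filter (fun c : G ⧸ H => z • c = c),
      Helper70.extHom ϕ (c.out⁻¹ * z * c.out)
      = ∏ c : Y, Helper70.extHom ϕ ((c : G ⧸ H).out⁻¹ * z * (c : G ⧸ H).out) := by
    apply Finset.prod_subtype
    intro x
    simp only [Finset.mem_filter, Finset.mem_univ, true_and]
    rfl
  rw [hprod]
  -- invariance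
  have hout : ∀ (h : H) (c : G ⧸ H), ∃ s : H, (h • c).out = (h : G) * c.out * s := by
    intro h c
    have h1 : h • c = (((h : G) * c.out : G) : G ⧸ H) := by
      conv_lhs => rw [← QuotientGroup.out_eq' c]
      rfl
    obtain ⟨s, hs⟩ := QuotientGroup.mk_out_eq_mul H ((h : G) * c.out)
    exact ⟨s, by rw [h1, hs]⟩
  apply prod_eq_of_fixedPoints hHp
    (fun c : Y => Helper70.extHom ϕ ((c : G ⧸ H).out⁻¹ * z * (c : G ⧸ H).out))
  · intro h c
    obtain ⟨s, hs⟩ := hout h (c : G ⧸ H)
    have hcoe : ((h • c : Y) : G ⧸ H) = h • (c : G ⧸ H) := rfl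
    rw [hcoe, hs]
    have : ((h : G) * (c : G ⧸ H).out * s)⁻¹ * z * ((h : G) * (c : G ⧸ H).out * s)
        = (s : G)⁻¹ * ((c : G ⧸ H).out⁻¹ * z * (c : G ⧸ H).out) * s := by
      have hh := hzc h h.2
      calc ((h : G) * (c : G ⧸ H).out * s)⁻¹ * z * ((h : G) * (c : G ⧸ H).out * s)
          = (s : G)⁻¹ * ((c : G ⧸ H).out⁻¹ * ((h : G)⁻¹ * (z * h)) * (c : G ⧸ H).out) * s := by
            group
        _ = (s : G)⁻¹ * ((c : G ⧸ H).out⁻¹ * ((h : G)⁻¹ * (h * z)) * (c : G ⧸ H).out) * s := by
            rw [hh]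
        _ = (s : G)⁻¹ * ((c : G ⧸ H).out⁻¹ * z * (c : G ⧸ H).out) * s := by group
    rw [this]
    exact extHom_conj ϕ s.2 _
  · intro c
    by_cases hy : (c : G ⧸ H).out⁻¹ * z * (c : G ⧸ H).out ∈ H
    · rw [← Helper70.extHom_mul ϕ hy hy]
      have : (c : G ⧸ H).out⁻¹ * z * (c : G ⧸ H).out * ((c : G ⧸ H).out⁻¹ * z * (c : G ⧸ H).out)
          = 1 := by
        calc (c : G ⧸ H).out⁻¹ * z * (c : G ⧸ H).out * ((c : G ⧸ H).out⁻¹ * z * (c : G ⧸ H).out)
            = (c : G ⧸ H).out⁻¹ * (z * z) * (c : G ⧸ H).out := by group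
          _ = 1 := by rw [hz2]; group
      rw [this, Helper70.extHom_one]
    · unfold Helper70.extHom
      rw [dif_neg hy, one_mul]
  · -- fixed points
    intro c hc
    have hcf : (c : G ⧸ H) ∈ fixedPoints H (G ⧸ H) := fun h => congrArg Subtype.val (hc h)
    have hn : (c : G ⧸ H).out ∈ Subgroup.normalizer (H : Set G) := by
      apply Sylow.mem_fixedPoints_mul_left_cosets_iff_mem_normalizer.mp
      rw [QuotientGroup.out_eq']
      exact hcf
    rw [hN _ hn, Helper70.extHom_of_mem ϕ hzS]
  · -- odd number of fixed points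
    have hcongr : Nat.card (fixedPoints H Y) = Nat.card (fixedPoints H (G ⧸ H)) := by
      apply Nat.card_congr
      refine ⟨fun x => ⟨x.1.1, fun h => congrArg Subtype.val (x.2 h)⟩,
        fun x => ⟨⟨x.1, ?_⟩, fun h => Subtype.ext (x.2 h)⟩, ?_, ?_⟩
      · -- an `H`-fixed coset is `z`-fixed
        change z • x.1 = x.1
        exact x.2 ⟨z, hzS⟩
      · intro x; rfl
      · intro x; rfl
    rw [hcongr]
    have hmod : Nat.card (G ⧸ H) ≡ Nat.card (fixedPoints H (G ⧸ H)) [MOD 2] :=
      hHp.card_modEq_card_fixedPoints (G ⧸ H)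
    have hoddidx : ¬ 2 ∣ Nat.card (G ⧸ H) := by
      rw [← Subgroup.index_eq_card]; exact hHodd
    rw [Nat.odd_iff]
    unfold Nat.ModEq at hmod
    omega

end Cfsg.Agent.Helper32.CT
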