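import Mathlib

set_option autoImplicit false

namespace Cfsg.Agent.Helper32

open Subgroup

section

variable {p : ℕ} [hp : Fact p.Prime]

variable {A : Type*} [CommGroup A] [Finite A]

/-- `a ^ k` for `k : ZMod p`. -/
def zpw (a : A) (k : ZMod p) : A := a ^ k.val

theorem zpw_add (hA : ∀ a : A, a ^ p = 1) (a : A) (k l : ZMod p) :
    zpw a (k + l) = zpw a k * zpw a l := by
  unfold zpw
  rw [ZMod.val_add, ← pow_add]
  exact (pow_eq_pow_mod _ (hA a)).symm

theorem zpw_zero (a : A) : zpw a (0 : ZMod p) = 1 := by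
  unfold zpw
  rw [ZMod.val_zero, pow_zero]

/-- the "linear combination" map -/
noncomputable def phi (c : MulAut A) (x : A) (e : ZMod p → ZMod p) : A :=
  ∏ i : ZMod p, zpw ((c ^ i.val) x) (e i)

theorem phi_add (hA : ∀ a : A, a ^ p = 1) (c : MulAut A) (x : A) (e e' : ZMod p → ZMod p) :
    phi c x (e + e') = phi c x e * phi c x e' := by
  unfold phi
  rw [← Finset.prod_mul_distrib]
  apply Finset.prod_congr rfl
  intro i _
  exact zpw_add hA _ _ _

theorem phi_zero (c : MulAut A) (x : A) : phi c x (0 : ZMod p → ZMod p) = 1 := by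
  unfold phi
  apply Finset.prod_eq_one
  intro i _
  exact zpw_zero _

theorem pow_val_add (c : MulAut A) (hc : c ^ p = 1) (j k : ZMod p) :
    c ^ (j + k).val = c ^ k.val * c ^ j.val := by
  rw [ZMod.val_add, ← pow_add, add_comm k.val]
  exact (pow_eq_pow_mod _ hc).symm

theorem phi_shift (c : MulAut A) (hc : c ^ p = 1) (x : A) (k : ZMod p) (e : ZMod p → ZMod p) :
    phi c x (fun i => e (i - k)) = (c ^ k.val) (phi c x e) := by
  unfold phi
  rw [map_prod]
  -- reindex by `i = j + k`
  rw [← Equiv.prod_comp (Equiv.addRight k)]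
  apply Finset.prod_congr rfl
  intro j _
  simp only [Equiv.coe_addRight, add_sub_cancel_right]
  unfold zpw
  rw [map_pow, pow_val_add c hc j k]
  rfl

theorem phi_const (c : MulAut A) (x : A) (k : ZMod p) :
    phi c x (fun _ => k) = (∏ i : ZMod p, (c ^ i.val) x) ^ k.val := by
  unfold phi zpw
  rw [Finset.prod_pow]

/-- **Free cyclic submodule.** `A` elementary abelian, `c` an automorphism with `c ^ p = 1`, `K` a `c`-invariant
subgroup not containing the norm `∏ c^i x`: then `p ^ p ≤ |A : K|`. -/
theorem pow_le_index_of_norm_not_mem (hA : ∀ a : A, a ^ p = 1) (c : MulAut A) (hc : c ^ p = 1) (x : A)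
    (K : Subgroup A) (hK : ∀ a ∈ K, c a ∈ K) (hz : (∏ i : ZMod p, (c ^ i.val) x) ∉ K) :
    p ^ p ≤ K.index := by
  classical
  have hp' : p.Prime := hp.out
  haveI : NeZero p := ⟨hp'.ne_zero⟩
  set z := ∏ i : ZMod p, (c ^ i.val) x with hzdef
  have hKpow : ∀ n : ℕ, ∀ a ∈ K, (c ^ n) a ∈ K := by
    intro n
    induction n with
    | zero => intro a ha; simpa using ha
    | succ n ih =>
      intro a ha
      rw [pow_succ']
      exact hK _ (ih a ha)
  -- the relation module, with the shift action
  let R : Type := {e : ZMod p → ZMod p // phi c x e ∈ K}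
  letI instR : MulAction (Multiplicative (ZMod p)) R :=
    { smul := fun k e => ⟨fun i => e.1 (i - Multiplicative.toAdd k), by
        rw [phi_shift c hc]
        exact hKpow _ _ e.2⟩
      one_smul := by
        intro e
        apply Subtype.ext
        funext i
        show e.1 (i - Multiplicative.toAdd (1 : Multiplicative (ZMod p))) = e.1 i
        simp
      mul_smul := by
        intro k l e
        apply Subtype.ext
        funext i
        show e.1 (i - Multiplicative.toAdd (k * l)) = e.1 (i - Multiplicative.toAdd k - Multiplicative.toAdd l)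
        rw [toAdd_mul, sub_add_eq_sub_sub] }
  have hsmul : ∀ (k : Multiplicative (ZMod p)) (e : R) (i : ZMod p),
      (k • e : R).1 i = e.1 (i - Multiplicative.toAdd k) := fun _ _ _ => rfl
  let R₀ : AddSubgroup (ZMod p → ZMod p) :=
    { carrier := {e | phi c x e ∈ K}
      add_mem' := by
        intro e e' he he'
        show phi c x (e + e') ∈ K
        rw [phi_add hA]
        exact K.mul_mem he he'
      zero_mem' := by
        show phi c x 0 ∈ K
        rw [phi_zero]; exact K.one_mem
      neg_mem' := by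
        intro e he
        show phi c x (-e) ∈ K
        have h1 : phi c x (-e) * phi c x e = 1 := by
          rw [← phi_add hA, neg_add_cancel, phi_zero]
        have h2 : phi c x (-e) = (phi c x e)⁻¹ := eq_inv_of_mul_eq_one_left h1
        rw [h2]; exact K.inv_mem he }
  have hcardRR : Nat.card R = Nat.card R₀ :=
    Nat.card_congr (Equiv.subtypeEquivRight (fun _ => Iff.rfl))
  -- key: relations are trivial
  have hkey : ∀ e : ZMod p → ZMod p, phi c x e ∈ K → e = 0 := by
    by_contra hcon
    push Not at hcon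
    obtain ⟨e, heK, he0⟩ := hcon
    have hR₀ne : Nat.card R₀ ≠ 1 := by
      intro h1
      have : R₀ = ⊥ := AddSubgroup.card_eq_one.mp h1
      have he : e ∈ R₀ := heK
      rw [this, AddSubgroup.mem_bot] at he
      exact he0 he
    have hdvd : Nat.card R₀ ∣ p ^ p := by
      have h1 := AddSubgroup.card_addSubgroup_dvd_card R₀
      have h2 : Nat.card (ZMod p → ZMod p) = p ^ p := by
        rw [Nat.card_eq_fintype_card, Fintype.card_fun, ZMod.card]
      rwa [h2] at h1
    obtain ⟨m, -, hm⟩ := (Nat.dvd_prime_pow hp').mp hdvd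
    have hpR : p ∣ Nat.card R := by
      rw [hcardRR, hm]
      apply dvd_pow_self
      intro h0
      rw [h0, pow_zero] at hm
      exact hR₀ne hm
    have hG : IsPGroup p (Multiplicative (ZMod p)) := by
      apply IsPGroup.of_card (n := 1)
      rw [pow_one, Nat.card_eq_fintype_card, Fintype.card_multiplicative, ZMod.card]
    have h0R : phi c x (0 : ZMod p → ZMod p) ∈ K := by
      rw [phi_zero]; exact K.one_mem
    have hfix0 : (⟨0, h0R⟩ : R) ∈ MulAction.fixedPoints (Multiplicative (ZMod p)) R := by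
      intro k
      apply Subtype.ext
      funext i
      rw [hsmul]
      rfl
    obtain ⟨b, hb, hb0⟩ := hG.exists_fixed_point_of_prime_dvd_card_of_fixed_point R hpR hfix0
    -- `b` is constant
    have hbconst : ∀ i : ZMod p, (b : ZMod p → ZMod p) i = (b : ZMod p → ZMod p) 0 := by
      intro i
      have h1 := hb (Multiplicative.ofAdd i)
      have h2 : (Multiplicative.ofAdd i • b : R).1 i = b.1 i := congrArg (fun r : R => r.1 i) h1
      rw [hsmul] at h2
      have h3 : i - Multiplicative.toAdd (Multiplicative.ofAdd i) = 0 := by simp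
      rw [h3] at h2
      exact h2.symm
    set k₀ := (b : ZMod p → ZMod p) 0 with hk₀
    have hbeq : (b : ZMod p → ZMod p) = fun _ => k₀ := funext hbconst
    have hk₀ne : k₀ ≠ 0 := by
      intro h0
      apply hb0
      apply Subtype.ext
      show (0 : ZMod p → ZMod p) = (b : ZMod p → ZMod p)
      rw [hbeq, h0]; rfl
    have hbK : phi c x (b : ZMod p → ZMod p) ∈ K := b.2
    rw [hbeq, phi_const] at hbK
    -- so `z ∈ K`
    apply hz
    have h1 : (z ^ k₀.val) ^ (k₀⁻¹).val ∈ K := K.pow_mem hbK _
    rw [← pow_mul] at h1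
    have h2 : (k₀.val * (k₀⁻¹).val) % p = 1 := by
      rw [← ZMod.val_mul, mul_inv_cancel₀ hk₀ne]
      exact ZMod.val_one p
    have h3 : z ^ (k₀.val * (k₀⁻¹).val) = z := by
      rw [pow_eq_pow_mod _ (hA z), h2, pow_one]
    rwa [h3] at h1
  -- injectivity
  have hinj : Function.Injective (fun e : ZMod p → ZMod p => (QuotientGroup.mk (phi c x e) : A ⧸ K)) := by
    intro e e' h
    have h1 : (phi c x e)⁻¹ * phi c x e' ∈ K := QuotientGroup.eq.mp h
    have h2 : phi c x (e' - e) = (phi c x e)⁻¹ * phi c x e' := by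
      have : phi c x (e' - e) * phi c x e = phi c x e' := by
        rw [← phi_add hA, sub_add_cancel]
      rw [← this, mul_comm]; simp
    rw [← h2] at h1
    have := hkey _ h1
    exact (sub_eq_zero.mp this).symm
  have hcard := Nat.card_le_card_of_injective _ hinj
  have h2 : Nat.card (ZMod p → ZMod p) = p ^ p := by
    rw [Nat.card_eq_fintype_card, Fintype.card_fun, ZMod.card]
  rw [h2] at hcard
  exact hcard

/-- In a finite abelian group of exponent `p`, a nontrivial element lies outside some subgroup of index `p`. -/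
theorem exists_index_p_not_mem (hA : ∀ a : A, a ^ p = 1) (z : A) (hz : z ≠ 1) :
    ∃ U : Subgroup A, z ∉ U ∧ U.index = p := by
  classical
  have hp' : p.Prime := hp.out
  -- a subgroup of maximal order not containing `z`
  have hex : ∃ n : ℕ, ∃ U : Subgroup A, z ∉ U ∧ Nat.card U = n := ⟨1, ⊥, by simpa using hz, by simp⟩
  have hbdd : ∀ n : ℕ, (∃ U : Subgroup A, z ∉ U ∧ Nat.card U = n) → n ≤ Nat.card A := by
    rintro n ⟨U, -, rfl⟩
    exact Subgroup.card_le_card_group U
  obtain ⟨U, hzU, hUmax⟩ : ∃ U : Subgroup A, z ∉ U ∧ ∀ V : Subgroup A, z ∉ V → Nat.card V ≤ Nat.card U := by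
    obtain ⟨U, hzU, hU⟩ := Nat.findGreatest_spec (P := fun n => ∃ U : Subgroup A, z ∉ U ∧ Nat.card U = n)
      (hbdd _ hex.choose_spec) hex.choose_spec
    refine ⟨U, hzU, ?_⟩
    intro V hV
    rw [hU]
    exact Nat.le_findGreatest (hbdd _ ⟨V, hV, rfl⟩) ⟨V, hV, rfl⟩
  refine ⟨U, hzU, ?_⟩
  -- every element is in `U ⊔ ⟨z⟩`
  have hall : ∀ a : A, a ∈ U ⊔ zpowers z := by
    intro a
    by_cases haU : a ∈ U
    · exact (le_sup_left : U ≤ U ⊔ zpowers z) haU
    · have hlt : U < U ⊔ zpowers a := by
        apply lt_of_le_of_ne le_sup_left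
        intro h
        apply haU
        rw [h]
        exact (le_sup_right : zpowers a ≤ U ⊔ zpowers a) (mem_zpowers a)
      have hzmem : z ∈ U ⊔ zpowers a := by
        by_contra hcon
        have h1 := hUmax _ hcon
        have h2 : Nat.card U < Nat.card (U ⊔ zpowers a : Subgroup A) := by
          have h3 : (U : Set A) ⊂ ((U ⊔ zpowers a : Subgroup A) : Set A) := SetLike.coe_ssubset_coe.mpr hlt
          have h4 := Set.ncard_lt_ncard h3 (Set.toFinite _)
          rwa [← Nat.card_coe_set_eq, ← Nat.card_coe_set_eq] at h4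
        omega
      obtain ⟨u, hu, b, hb, hub⟩ := Subgroup.mem_sup.mp hzmem
      obtain ⟨k, rfl⟩ := mem_zpowers_iff.mp hb
      -- `a ^ k = u⁻¹ z`
      have hak : a ^ k ∈ U ⊔ zpowers z := by
        have : a ^ k = u⁻¹ * z := by rw [← hub]; group
        rw [this]
        exact Subgroup.mul_mem_sup (U.inv_mem hu) (mem_zpowers z)
      -- `p ∤ k`
      have hpk : ¬ (p : ℤ) ∣ k := by
        rintro ⟨m, rfl⟩
        apply hzU
        have : a ^ ((p : ℤ) * m) = 1 := by
          rw [zpow_mul, zpow_natCast, hA a, one_zpow]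
        rw [← hub, this, mul_one]
        exact hu
      have hcop : IsCoprime k (p : ℤ) := by
        have := ((Int.prime_iff_natAbs_prime.mpr (by simpa using hp')).coprime_iff_not_dvd).mpr hpk
        exact this.symm
      obtain ⟨s, t, hst⟩ := hcop
      have : a = (a ^ k) ^ s := by
        have h1 : a ^ (s * k + t * (p : ℤ)) = a := by rw [hst, zpow_one]
        rw [zpow_add, zpow_mul' a t, zpow_natCast, hA a, one_zpow, mul_one, mul_comm s k, zpow_mul] at h1
        exact h1.symm
      rw [this]
      exact (U ⊔ zpowers z).zpow_mem hak s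
  -- the quotient is cyclic generated by the image of `z`
  have hquot : ∀ q : A ⧸ U, q ∈ zpowers (QuotientGroup.mk z : A ⧸ U) := by
    intro q
    obtain ⟨a, rfl⟩ := QuotientGroup.mk_surjective q
    obtain ⟨u, hu, b, hb, hub⟩ := Subgroup.mem_sup.mp (hall a)
    obtain ⟨k, rfl⟩ := mem_zpowers_iff.mp hb
    rw [mem_zpowers_iff]
    refine ⟨k, ?_⟩
    rw [← hub, QuotientGroup.mk_mul, (QuotientGroup.eq_one_iff u).mpr hu, one_mul, QuotientGroup.mk_zpow]
  have hcard : Nat.card (A ⧸ U) = orderOf (QuotientGroup.mk z : A ⧸ U) := by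
    rw [← Nat.card_zpowers]
    have : zpowers (QuotientGroup.mk z : A ⧸ U) = ⊤ := by
      rw [eq_top_iff]; intro q _; exact hquot q
    rw [this, Subgroup.card_top]
  rw [Subgroup.index_eq_card, hcard]
  have h1 : orderOf (QuotientGroup.mk z : A ⧸ U) ∣ p := by
    apply orderOf_dvd_of_pow_eq_one
    rw [← QuotientGroup.mk_pow, hA z]
    rfl
  rcases (Nat.dvd_prime hp').mp h1 with h | h
  · exfalso
    apply hzU
    rw [orderOf_eq_one_iff] at h
    exact (QuotientGroup.eq_one_iff z).mp h
  · exact h

end

end Cfsg.Agent.Helper32
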