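import Mathlib
import Cfsg.Agent.Lib.Helper37.CommInv

/-!
# Commuting involutions in `GL₃(F)`, `F` of characteristic different from two

* `neg_one_mem_of_card_eight`: an elementary abelian subgroup of order 8 of `GL₃(F)` contains `-1`.
* `commute_of_commute_two_inv`: two matrices commuting with two distinct commuting non-identity
  involutions of determinant one commute with each other.
-/

set_option autoImplicit false

namespace Cfsg.Agent.Helper32.GL3

open Matrix

variable {F : Type*} [Field F]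

/-- An involutory `3 × 3` matrix over a field of characteristic `≠ 2` has a basis of eigenvectors
(the argument is the one used for S1219). -/
lemma exists_eigenbasis (g : Matrix (Fin 3) (Fin 3) F) (h2 : (2 : F) ≠ 0) (hg : g * g = 1) :
    ∃ (P : Matrix (Fin 3) (Fin 3) F) (ε : Fin 3 → F), P.det ≠ 0 ∧
      (∀ j, ε j = 1 ∨ ε j = -1) ∧ g * P = P * Matrix.diagonal ε := by
  classical
  set s : Set (Fin 3 → F) := {v | g.mulVec v = v} ∪ {v | g.mulVec v = -v} with hs_def
  have hs : ⊤ ≤ Submodule.span F s := by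
    intro v _
    have hgg : ∀ w : Fin 3 → F, g.mulVec (g.mulVec w) = w := by
      intro w
      rw [Matrix.mulVec_mulVec, hg, Matrix.one_mulVec]
    have h1 : v + g.mulVec v ∈ s := by
      left
      show g.mulVec (v + g.mulVec v) = v + g.mulVec v
      rw [Matrix.mulVec_add, hgg, add_comm]
    have h3 : v - g.mulVec v ∈ s := by
      right
      show g.mulVec (v - g.mulVec v) = -(v - g.mulVec v)
      rw [Matrix.mulVec_sub, hgg, neg_sub]
    have hv : v = (2 : F)⁻¹ • (v + g.mulVec v) + (2 : F)⁻¹ • (v - g.mulVec v) := by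
      rw [← smul_add]
      have : v + g.mulVec v + (v - g.mulVec v) = (2 : F) • v := by
        rw [two_smul]; abel
      rw [this, smul_smul, inv_mul_cancel₀ h2, one_smul]
    rw [hv]
    exact Submodule.add_mem _ (Submodule.smul_mem _ _ (Submodule.subset_span h1))
      (Submodule.smul_mem _ _ (Submodule.subset_span h3))
  obtain ⟨ι, b, hbs⟩ : ∃ (ι : Type _) (b : Module.Basis ι F (Fin 3 → F)), ∀ i, b i ∈ s :=
    ⟨_, Module.Basis.ofSpan hs, fun i => Module.Basis.ofSpan_subset hs ⟨i, rfl⟩⟩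
  let _ : Fintype ι := FiniteDimensional.fintypeBasisIndex b
  have hcard : Fintype.card ι = 3 := by
    rw [← Module.finrank_eq_card_basis b]
    simp
  let e := Fintype.equivFinOfCardEq hcard
  let b' := b.reindex e
  have hb's : ∀ j, b' j ∈ s := by
    intro j
    have : b' j = b (e.symm j) := by simp [b']
    rw [this]
    exact hbs _
  refine ⟨Matrix.of (fun i j => b' j i), fun j => if g.mulVec (b' j) = b' j then 1 else -1,
    ?_, ?_, ?_⟩
  · have hli : LinearIndependent F (Matrix.of (fun i j => b' j i)).col := by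
      have : (Matrix.of (fun i j => b' j i)).col = b' := by
        ext j i; rfl
      rw [this]
      exact b'.linearIndependent
    have hu := Matrix.linearIndependent_cols_iff_isUnit.mp hli
    rw [Matrix.isUnit_iff_isUnit_det] at hu
    exact hu.ne_zero
  · intro j
    by_cases h : g.mulVec (b' j) = b' j
    · left; simp [h]
    · right; simp [h]
  · ext i j
    rw [Matrix.mul_diagonal]
    have hmv : (g * Matrix.of (fun i j => b' j i)) i j = g.mulVec (b' j) i := by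
      simp [Matrix.mul_apply, Matrix.mulVec, dotProduct]
    rw [hmv]
    by_cases h : g.mulVec (b' j) = b' j
    · simp [h]
    · have h' : g.mulVec (b' j) = - b' j := by
        rcases hb's j with h1 | h1
        · exact absurd h1 h
        · exact h1
      rw [if_neg h, h']
      simp

/-- The `+1`-eigenspace of a non-identity involution of determinant one is a line. -/
lemma exists_line (h2 : (2 : F) ≠ 0) (s : Matrix (Fin 3) (Fin 3) F) (hs : s * s = 1)
    (hd : s.det = 1) (hn : s ≠ 1) :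
    ∃ v : Fin 3 → F, v ≠ 0 ∧ s *ᵥ v = v ∧ ∀ w, s *ᵥ w = w → ∃ c : F, w = c • v := by
  classical
  obtain ⟨P, ε, hP, hε, hsP⟩ := exists_eigenbasis s h2 hs
  have hPu : IsUnit P.det := isUnit_iff_ne_zero.mpr hP
  have hne1 : (-1 : F) ≠ 1 := by
    intro h
    apply h2
    calc (2 : F) = 1 - (-1) := by ring
      _ = 1 - 1 := by rw [h]
      _ = 0 := by ring
  have hprod : ε 0 * ε 1 * ε 2 = 1 := by
    have h1 := congrArg Matrix.det hsP
    rw [Matrix.det_mul, Matrix.det_mul, Matrix.det_diagonal, hd, one_mul, Fin.prod_univ_three] at h1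
    have h3 : P.det * (ε 0 * ε 1 * ε 2) = P.det * 1 := by rw [mul_one]; exact h1.symm
    exact mul_left_cancel₀ hP h3
  have hnot : ¬ (ε 0 = 1 ∧ ε 1 = 1 ∧ ε 2 = 1) := by
    rintro ⟨h0, h1, h2'⟩
    apply hn
    have hd1 : Matrix.diagonal ε = 1 := by
      ext i j
      fin_cases i <;> fin_cases j <;> simp [Matrix.diagonal, h0, h1, h2']
    rw [hd1, mul_one] at hsP
    calc s = s * (P * P⁻¹) := by rw [Matrix.mul_nonsing_inv P hPu, mul_one]
      _ = (s * P) * P⁻¹ := by rw [mul_assoc]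
      _ = P * P⁻¹ := by rw [hsP]
      _ = 1 := Matrix.mul_nonsing_inv P hPu
  have hj : ∃ j : Fin 3, ε j = 1 ∧ ∀ i, i ≠ j → ε i = -1 := by
    rcases hε 0 with h0 | h0 <;> rcases hε 1 with h1 | h1 <;> rcases hε 2 with h2' | h2'
    · exact absurd ⟨h0, h1, h2'⟩ hnot
    · exfalso; rw [h0, h1, h2'] at hprod; apply hne1; simpa using hprod
    · exfalso; rw [h0, h1, h2'] at hprod; apply hne1; simpa using hprod
    · refine ⟨0, h0, ?_⟩
      intro i hi
      fin_cases i
      · exact absurd rfl hi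
      · exact h1
      · exact h2'
    · exfalso; rw [h0, h1, h2'] at hprod; apply hne1; simpa using hprod
    · refine ⟨1, h1, ?_⟩
      intro i hi
      fin_cases i
      · exact h0
      · exact absurd rfl hi
      · exact h2'
    · refine ⟨2, h2', ?_⟩
      intro i hi
      fin_cases i
      · exact h0
      · exact h1
      · exact absurd rfl hi
    · exfalso; rw [h0, h1, h2'] at hprod; apply hne1; simpa using hprod
  obtain ⟨j, hj1, hjn⟩ := hj
  have hinj : Function.Injective P.mulVec :=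
    Matrix.mulVec_injective_iff_isUnit.mpr ((Matrix.isUnit_iff_isUnit_det P).mpr hPu)
  refine ⟨P *ᵥ Pi.single j 1, ?_, ?_, ?_⟩
  · intro h
    have h0 : P *ᵥ Pi.single j (1 : F) = P *ᵥ 0 := by rw [h, Matrix.mulVec_zero]
    have := hinj h0
    have h1 := congrFun this j
    simp at h1
  · rw [Matrix.mulVec_mulVec, hsP, ← Matrix.mulVec_mulVec, Matrix.diagonal_mulVec_single, hj1,
      one_mul]
  · intro w hw
    set y := P⁻¹ *ᵥ w with hy
    have hPy : P *ᵥ y = w := by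
      rw [hy, Matrix.mulVec_mulVec, Matrix.mul_nonsing_inv P hPu, Matrix.one_mulVec]
    have h1 : P *ᵥ (Matrix.diagonal ε *ᵥ y) = P *ᵥ y := by
      rw [Matrix.mulVec_mulVec, ← hsP, ← Matrix.mulVec_mulVec, hPy, hw]
    have h3 := hinj h1
    have hyi : ∀ i, i ≠ j → y i = 0 := by
      intro i hi
      have h4 := congrFun h3 i
      rw [Matrix.mulVec_diagonal, hjn i hi] at h4
      have h5 : (2 : F) * y i = 0 := by
        calc (2 : F) * y i = y i - (-1 * y i) := by ring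
          _ = y i - y i := by rw [h4]
          _ = 0 := by ring
      rcases mul_eq_zero.mp h5 with h | h
      · exact absurd h h2
      · exact h
    refine ⟨y j, ?_⟩
    rw [← hPy, ← Matrix.mulVec_smul]
    congr 1
    ext i
    by_cases hi : i = j
    · subst hi; simp
    · rw [hyi i hi]; simp [hi]

/-- Two commuting involutions with a common fixed line, which is the whole `+1`-eigenspace of
both, are equal. -/
lemma eq_of_common_line (h2 : (2 : F) ≠ 0) (s s' : Matrix (Fin 3) (Fin 3) F) (hs : s * s = 1)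
    (hs' : s' * s' = 1) (hc : s * s' = s' * s) (v : Fin 3 → F) (hv : s *ᵥ v = v)
    (hv' : s' *ᵥ v = v)
    (hu : ∀ w, s *ᵥ w = w → ∃ c : F, w = c • v)
    (hu' : ∀ w, s' *ᵥ w = w → ∃ c : F, w = c • v) : s = s' := by
  have hss : ∀ w, s *ᵥ (s *ᵥ w) = w := by
    intro w; rw [Matrix.mulVec_mulVec, hs, Matrix.one_mulVec]
  have hss' : ∀ w, s' *ᵥ (s' *ᵥ w) = w := by
    intro w; rw [Matrix.mulVec_mulVec, hs', Matrix.one_mulVec]
  have hcc : ∀ w, s *ᵥ (s' *ᵥ w) = s' *ᵥ (s *ᵥ w) := by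
    intro w; rw [Matrix.mulVec_mulVec, Matrix.mulVec_mulVec, hc]
  have hzero2 : ∀ t : Fin 3 → F, t = -t → t = 0 := by
    intro t ht
    have h9 : (2 : F) • t = 0 := by
      rw [two_smul]
      nth_rewrite 1 [ht]
      exact neg_add_cancel t
    rcases smul_eq_zero.mp h9 with h | h
    · exact absurd h h2
    · exact h
  -- on `s`-fixed vectors
  have hplus : ∀ w, s *ᵥ w = w → s' *ᵥ w = w := by
    intro w hw
    obtain ⟨c, rfl⟩ := hu w hw
    rw [Matrix.mulVec_smul, hv']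
  -- on `s`-negated vectors
  have hminus : ∀ y, s *ᵥ y = -y → s' *ᵥ y = -y := by
    intro y hy
    have h1 : s' *ᵥ (y + s' *ᵥ y) = y + s' *ᵥ y := by
      rw [Matrix.mulVec_add, hss', add_comm]
    obtain ⟨c, hc'⟩ := hu' _ h1
    have h3 : s *ᵥ (y + s' *ᵥ y) = y + s' *ᵥ y := by
      rw [hc', Matrix.mulVec_smul, hv]
    have h4 : s *ᵥ (y + s' *ᵥ y) = -(y + s' *ᵥ y) := by
      rw [Matrix.mulVec_add, hcc, hy, Matrix.mulVec_neg, neg_add]
    have h5 : y + s' *ᵥ y = 0 := hzero2 _ (h3.symm.trans h4)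
    exact eq_neg_of_add_eq_zero_right h5
  have hall : ∀ w, s *ᵥ w = s' *ᵥ w := by
    intro w
    have hp : s *ᵥ (w + s *ᵥ w) = w + s *ᵥ w := by
      rw [Matrix.mulVec_add, hss, add_comm]
    have hm : s *ᵥ (w - s *ᵥ w) = -(w - s *ᵥ w) := by
      rw [Matrix.mulVec_sub, hss, neg_sub]
    have hp' := hplus _ hp
    have hm' := hminus _ hm
    have hw2 : (2 : F) • w = (w + s *ᵥ w) + (w - s *ᵥ w) := by
      rw [two_smul]; abel
    have e1 : s *ᵥ ((2 : F) • w) = s' *ᵥ ((2 : F) • w) := by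
      rw [hw2]
      calc s *ᵥ ((w + s *ᵥ w) + (w - s *ᵥ w))
          = s *ᵥ (w + s *ᵥ w) + s *ᵥ (w - s *ᵥ w) := Matrix.mulVec_add _ _ _
        _ = (w + s *ᵥ w) + -(w - s *ᵥ w) := by rw [hp, hm]
        _ = s' *ᵥ (w + s *ᵥ w) + s' *ᵥ (w - s *ᵥ w) := by rw [hp', hm']
        _ = s' *ᵥ ((w + s *ᵥ w) + (w - s *ᵥ w)) := (Matrix.mulVec_add _ _ _).symm
    rw [Matrix.mulVec_smul, Matrix.mulVec_smul] at e1
    have := congrArg (fun t => (2 : F)⁻¹ • t) e1
    simpa [smul_smul, inv_mul_cancel₀ h2] using this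
  have : Matrix.toLin' s = Matrix.toLin' s' := by
    apply LinearMap.ext
    intro w
    rw [Matrix.toLin'_apply, Matrix.toLin'_apply]
    exact hall w
  exact Matrix.toLin'.injective this

/-- For two distinct commuting involutions whose `+1`-eigenspaces are lines, the second negates
the line of the first. -/
lemma neg_of_ne (h2 : (2 : F) ≠ 0) (s s' : Matrix (Fin 3) (Fin 3) F) (hs : s * s = 1)
    (hs' : s' * s' = 1) (hc : s * s' = s' * s) (hne : s ≠ s') (v v' : Fin 3 → F)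
    (hv0 : v ≠ 0) (hv : s *ᵥ v = v)
    (hu : ∀ w, s *ᵥ w = w → ∃ c : F, w = c • v)
    (hu' : ∀ w, s' *ᵥ w = w → ∃ c : F, w = c • v') : s' *ᵥ v = -v := by
  have h1 : s *ᵥ (s' *ᵥ v) = s' *ᵥ v := by
    rw [Matrix.mulVec_mulVec, hc, ← Matrix.mulVec_mulVec, hv]
  obtain ⟨c, hcv⟩ := hu _ h1
  have h3 : s' *ᵥ (s' *ᵥ v) = v := by
    rw [Matrix.mulVec_mulVec, hs', Matrix.one_mulVec]
  have hc2 : c * c = 1 := by
    have h4 : (c * c) • v = (1 : F) • v := by
      rw [one_smul, ← smul_smul]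
      nth_rewrite 2 [← h3]
      rw [hcv, Matrix.mulVec_smul, hcv]
    by_contra hcc
    have h5 : (c * c - 1) • v = 0 := by rw [sub_smul, h4, sub_self]
    rcases smul_eq_zero.mp h5 with h | h
    · exact hcc (sub_eq_zero.mp h)
    · exact hv0 h
  have hc1 : c = 1 ∨ c = -1 := by
    have : (c - 1) * (c + 1) = 0 := by ring_nf; rw [sq, hc2]; ring
    rcases mul_eq_zero.mp this with h | h
    · left; exact sub_eq_zero.mp h
    · right; exact eq_neg_of_add_eq_zero_left h
  rcases hc1 with rfl | rfl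
  · exfalso
    apply hne
    rw [one_smul] at hcv
    obtain ⟨d, hd⟩ := hu' v hcv
    have hd0 : d ≠ 0 := by
      intro h
      rw [h, zero_smul] at hd
      exact hv0 hd
    refine eq_of_common_line h2 s s' hs hs' hc v hv hcv hu ?_
    intro w hw
    obtain ⟨e, he⟩ := hu' w hw
    refine ⟨e * d⁻¹, ?_⟩
    rw [he, hd, smul_smul, mul_assoc, inv_mul_cancel₀ hd0, mul_one]
  · rw [hcv, neg_smul, one_smul]

/-- Two matrices which commute with two distinct commuting non-identity involutions of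
determinant one commute with each other. -/
theorem commute_of_commute_two_inv (h2 : (2 : F) ≠ 0) (s₁ s₂ : Matrix (Fin 3) (Fin 3) F)
    (h1 : s₁ * s₁ = 1) (h2' : s₂ * s₂ = 1) (hc : s₁ * s₂ = s₂ * s₁)
    (hd1 : s₁.det = 1) (hd2 : s₂.det = 1) (hn1 : s₁ ≠ 1) (hn2 : s₂ ≠ 1) (hne : s₁ ≠ s₂)
    (g h : Matrix (Fin 3) (Fin 3) F)
    (hg1 : g * s₁ = s₁ * g) (hg2 : g * s₂ = s₂ * g)
    (hh1 : h * s₁ = s₁ * h) (hh2 : h * s₂ = s₂ * h) : g * h = h * g := by
  classical
  obtain ⟨s₃, hs₃⟩ : ∃ s₃ : Matrix (Fin 3) (Fin 3) F, s₃ = s₁ * s₂ := ⟨_, rfl⟩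
  have h3 : s₃ * s₃ = 1 := by
    calc s₃ * s₃ = s₁ * (s₂ * s₁) * s₂ := by rw [hs₃]; simp only [mul_assoc]
      _ = s₁ * (s₁ * s₂) * s₂ := by rw [hc]
      _ = (s₁ * s₁) * (s₂ * s₂) := by simp only [mul_assoc]
      _ = 1 := by rw [h1, h2', mul_one]
  have hd3 : s₃.det = 1 := by rw [hs₃, Matrix.det_mul, hd1, hd2, mul_one]
  have hn3 : s₃ ≠ 1 := by
    intro h
    apply hne
    calc s₁ = s₁ * (s₂ * s₂) := by rw [h2', mul_one]
      _ = (s₁ * s₂) * s₂ := by rw [mul_assoc]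
      _ = s₂ := by rw [← hs₃, h, one_mul]
  have hc13 : s₁ * s₃ = s₃ * s₁ := by
    rw [hs₃, mul_assoc s₁ s₂ s₁, ← hc]
  have hc23 : s₂ * s₃ = s₃ * s₂ := by
    rw [hs₃, ← mul_assoc, ← hc]
  have hne13 : s₁ ≠ s₃ := by
    intro h
    apply hn2
    calc s₂ = (s₁ * s₁) * s₂ := by rw [h1, one_mul]
      _ = s₁ * (s₁ * s₂) := by rw [mul_assoc]
      _ = s₁ * s₁ := by rw [← hs₃, ← h]
      _ = 1 := h1
  have hne23 : s₂ ≠ s₃ := by
    intro h
    apply hn1
    calc s₁ = s₁ * (s₂ * s₂) := by rw [h2', mul_one]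
      _ = (s₁ * s₂) * s₂ := by rw [mul_assoc]
      _ = s₂ * s₂ := by rw [← hs₃, ← h]
      _ = 1 := h2'
  obtain ⟨v₁, hv10, hv1, hu1⟩ := exists_line h2 s₁ h1 hd1 hn1
  obtain ⟨v₂, hv20, hv2, hu2⟩ := exists_line h2 s₂ h2' hd2 hn2
  obtain ⟨v₃, hv30, hv3, hu3⟩ := exists_line h2 s₃ h3 hd3 hn3
  -- signs
  have n12 : s₂ *ᵥ v₁ = -v₁ := neg_of_ne h2 s₁ s₂ h1 h2' hc hne v₁ v₂ hv10 hv1 hu1 hu2
  have n13 : s₃ *ᵥ v₁ = -v₁ := neg_of_ne h2 s₁ s₃ h1 h3 hc13 hne13 v₁ v₃ hv10 hv1 hu1 hu3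
  have n21 : s₁ *ᵥ v₂ = -v₂ := neg_of_ne h2 s₂ s₁ h2' h1 hc.symm hne.symm v₂ v₁ hv20 hv2 hu2 hu1
  have n23 : s₃ *ᵥ v₂ = -v₂ := neg_of_ne h2 s₂ s₃ h2' h3 hc23 hne23 v₂ v₃ hv20 hv2 hu2 hu3
  have n31 : s₁ *ᵥ v₃ = -v₃ :=
    neg_of_ne h2 s₃ s₁ h3 h1 hc13.symm hne13.symm v₃ v₁ hv30 hv3 hu3 hu1
  have n32 : s₂ *ᵥ v₃ = -v₃ :=
    neg_of_ne h2 s₃ s₂ h3 h2' hc23.symm hne23.symm v₃ v₂ hv30 hv3 hu3 hu2
  have hzero2 : ∀ (a : F) (t : Fin 3 → F), t ≠ 0 → (2 : F) • (a • t) = 0 → a = 0 := by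
    intro a t ht h
    rcases smul_eq_zero.mp h with h' | h'
    · exact absurd h' h2
    · rcases smul_eq_zero.mp h' with h'' | h''
      · exact h''
      · exact absurd h'' ht
  -- linear independence
  have hli : LinearIndependent F ![v₁, v₂, v₃] := by
    rw [Fintype.linearIndependent_iff]
    intro c hsum
    rw [Fin.sum_univ_three] at hsum
    simp only [Matrix.cons_val_zero, Matrix.cons_val_one, Matrix.cons_val_two,
      Matrix.head_cons, Matrix.tail_cons] at hsum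
    have e1 := congrArg (fun t => s₁ *ᵥ t) hsum
    have e2 := congrArg (fun t => s₂ *ᵥ t) hsum
    have e3 := congrArg (fun t => s₃ *ᵥ t) hsum
    simp only [Matrix.mulVec_add, Matrix.mulVec_smul, Matrix.mulVec_zero, hv1, n21, n31,
      n12, hv2, n32, n13, n23, hv3] at e1 e2 e3
    have c0 : c 0 = 0 := by
      apply hzero2 (c 0) v₁ hv10
      have : (2 : F) • (c 0 • v₁) = (c 0 • v₁ + c 1 • v₂ + c 2 • v₃) +
          (c 0 • v₁ + c 1 • -v₂ + c 2 • -v₃) := by
        rw [two_smul, smul_neg, smul_neg]; abel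
      rw [this, hsum, e1, add_zero]
    have c1 : c 1 = 0 := by
      apply hzero2 (c 1) v₂ hv20
      have : (2 : F) • (c 1 • v₂) = (c 0 • v₁ + c 1 • v₂ + c 2 • v₃) +
          (c 0 • -v₁ + c 1 • v₂ + c 2 • -v₃) := by
        rw [two_smul, smul_neg, smul_neg]; abel
      rw [this, hsum, e2, add_zero]
    have c2 : c 2 = 0 := by
      apply hzero2 (c 2) v₃ hv30
      have : (2 : F) • (c 2 • v₃) = (c 0 • v₁ + c 1 • v₂ + c 2 • v₃) +
          (c 0 • -v₁ + c 1 • -v₂ + c 2 • v₃) := by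
        rw [two_smul, smul_neg, smul_neg]; abel
      rw [this, hsum, e3, add_zero]
    intro i
    fin_cases i
    · exact c0
    · exact c1
    · exact c2
  have hspan : Submodule.span F (Set.range ![v₁, v₂, v₃]) = ⊤ := by
    apply hli.span_eq_top_of_card_eq_finrank'
    simp
  -- commuting with `s₃`
  have hg3 : g * s₃ = s₃ * g := by
    rw [hs₃, ← mul_assoc, hg1, mul_assoc, hg2, ← mul_assoc]
  have hh3 : h * s₃ = s₃ * h := by
    rw [hs₃, ← mul_assoc, hh1, mul_assoc, hh2, ← mul_assoc]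
  -- eigenvector property
  have heig : ∀ (m s : Matrix (Fin 3) (Fin 3) F) (v : Fin 3 → F), m * s = s * m → s *ᵥ v = v →
      (∀ w, s *ᵥ w = w → ∃ c : F, w = c • v) → ∃ c : F, m *ᵥ v = c • v := by
    intro m s v hms hsv hu
    apply hu
    rw [Matrix.mulVec_mulVec, ← hms, ← Matrix.mulVec_mulVec, hsv]
  have hcomm : ∀ v : Fin 3 → F, (∃ c : F, g *ᵥ v = c • v) → (∃ c : F, h *ᵥ v = c • v) →
      (g * h) *ᵥ v = (h * g) *ᵥ v := by
    rintro v ⟨a, ha⟩ ⟨b, hb⟩
    rw [← Matrix.mulVec_mulVec, ← Matrix.mulVec_mulVec, hb, ha, Matrix.mulVec_smul,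
      Matrix.mulVec_smul, ha, hb, smul_smul, smul_smul, mul_comm]
  have key : Matrix.toLin' (g * h) = Matrix.toLin' (h * g) := by
    apply LinearMap.ext_on hspan
    rintro _ ⟨i, rfl⟩
    rw [Matrix.toLin'_apply, Matrix.toLin'_apply]
    fin_cases i
    · exact hcomm v₁ (heig g s₁ v₁ hg1 hv1 hu1) (heig h s₁ v₁ hh1 hv1 hu1)
    · exact hcomm v₂ (heig g s₂ v₂ hg2 hv2 hu2) (heig h s₂ v₂ hh2 hv2 hu2)
    · exact hcomm v₃ (heig g s₃ v₃ hg3 hv3 hu3) (heig h s₃ v₃ hh3 hv3 hu3)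
  exact Matrix.toLin'.injective key

/-- An elementary abelian 2-subgroup of order 8 of `GL₃(F)` contains `-1`. -/
theorem neg_one_mem_of_card_eight (h2 : (2 : F) ≠ 0) (T : Subgroup (GL (Fin 3) F))
    (hT2 : ∀ t ∈ T, t * t = 1) (hTc : ∀ s ∈ T, ∀ t ∈ T, s * t = t * s)
    (hcard : Nat.card T = 8) : ∃ t ∈ T, (t : Matrix (Fin 3) (Fin 3) F) = -1 := by
  classical
  by_contra hno
  push Not at hno
  have hTfin : Finite T := Nat.finite_of_card_ne_zero (by rw [hcard]; norm_num)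
  have hTsfin : (T : Set (GL (Fin 3) F)).Finite := Set.toFinite _
  let φ : GL (Fin 3) F → Module.End F (Fin 3 → F) :=
    fun t => Matrix.toLin' (t : Matrix (Fin 3) (Fin 3) F)
  have hφmul : ∀ a b : GL (Fin 3) F, φ (a * b) = φ a * φ b := by
    intro a b
    change Matrix.toLin' ((a * b : GL (Fin 3) F) : Matrix (Fin 3) (Fin 3) F) = _
    rw [Units.val_mul, Matrix.toLin'_mul]
    rfl
  have hφone : φ 1 = 1 := by
    change Matrix.toLin' ((1 : GL (Fin 3) F) : Matrix (Fin 3) (Fin 3) F) = _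
    rw [Units.val_one, Matrix.toLin'_one]
    rfl
  have hφinj : Function.Injective φ := by
    intro a b h
    exact Units.ext (Matrix.toLin'.injective h)
  set S₁ : Set (Module.End F (Fin 3 → F)) := φ '' (T : Set (GL (Fin 3) F)) with hS₁
  set S₂ : Set (Module.End F (Fin 3 → F)) := (fun t => -φ t) '' (T : Set (GL (Fin 3) F)) with hS₂
  have hS₁fin : S₁.Finite := hTsfin.image _
  have hS₂fin : S₂.Finite := hTsfin.image _
  have hn1 : S₁.ncard = 8 := by
    rw [hS₁, Set.ncard_image_of_injective _ hφinj, ← Nat.card_coe_set_eq]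
    exact hcard
  have hn2 : S₂.ncard = 8 := by
    have hinj2 : Function.Injective (fun t : GL (Fin 3) F => -φ t) := by
      intro a b h
      exact hφinj (neg_injective h)
    rw [hS₂, Set.ncard_image_of_injective _ hinj2, ← Nat.card_coe_set_eq]
    exact hcard
  have hdisj : Disjoint S₁ S₂ := by
    rw [Set.disjoint_left]
    rintro x ⟨a, ha, rfl⟩ ⟨b, hb, hab⟩
    have hab' : (a : Matrix (Fin 3) (Fin 3) F) = -(b : Matrix (Fin 3) (Fin 3) F) := by
      apply Matrix.toLin'.injective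
      rw [map_neg]
      exact hab.symm
    apply hno (a * b) (T.mul_mem ha hb)
    rw [Units.val_mul, hab', neg_mul, ← Units.val_mul, hT2 b hb, Units.val_one]
  have hcomm : Helper37.CommInv (S₁ ∪ S₂) := by
    have hsq : ∀ a ∈ T, φ a * φ a = 1 := by
      intro a ha
      rw [← hφmul, hT2 a ha, hφone]
    have hcm : ∀ a ∈ T, ∀ b ∈ T, φ a * φ b = φ b * φ a := by
      intro a ha b hb
      rw [← hφmul, ← hφmul, hTc a ha b hb]
    have g1 : ∀ x y : Module.End F (Fin 3 → F), (-x) * (-y) = x * y := fun x y => neg_mul_neg x y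
    have g2 : ∀ x y : Module.End F (Fin 3 → F), x * (-y) = -(x * y) := fun x y => mul_neg x y
    have g3 : ∀ x y : Module.End F (Fin 3 → F), (-x) * y = -(x * y) := fun x y => neg_mul x y
    constructor
    · rintro x (⟨a, ha, rfl⟩ | ⟨a, ha, rfl⟩)
      · exact hsq a ha
      · exact (g1 (φ a) (φ a)).trans (hsq a ha)
    · rintro x (⟨a, ha, rfl⟩ | ⟨a, ha, rfl⟩) y (⟨b, hb, rfl⟩ | ⟨b, hb, rfl⟩)
      · exact hcm a ha b hb
      · exact (g2 (φ a) (φ b)).trans ((congrArg Neg.neg (hcm a ha b hb)).trans (g3 (φ b) (φ a)).symm)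
      · exact (g3 (φ a) (φ b)).trans ((congrArg Neg.neg (hcm a ha b hb)).trans (g2 (φ b) (φ a)).symm)
      · exact (g1 (φ a) (φ b)).trans ((hcm a ha b hb).trans (g1 (φ b) (φ a)).symm)
  have hle := Helper37.ncard_le_of_commInv h2 3 (Fin 3 → F) (by simp) (S₁ ∪ S₂)
    (hS₁fin.union hS₂fin) hcomm
  rw [Set.ncard_union_eq hdisj hS₁fin hS₂fin, hn1, hn2] at hle
  norm_num at hle

end Cfsg.Agent.Helper32.GL3
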