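import Mathlib
import Cfsg.Agent.Lib.Helper70.Transfer
import Cfsg.Agent.Lib.Helper32.CentralTransfer

/-!
# Transfer of an involution: fixed point formula

For an involution `u` of a subgroup `H` of the finite group `G`, a 2-subgroup `C ≤ H` centralizing
`u`, and a homomorphism `ϕ : H →* A` into a commutative group, the transfer of `ϕ` at `u` is the
product of the values `ϕ (g⁻¹ u g)` over the cosets `gH` fixed by `u` and by `C`.  If all
these values are trivial except for the coset `H` itself, the transfer maps `u` to `ϕ u`.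
-/

set_option autoImplicit false

namespace Cfsg.Agent.Helper32.IT

open Subgroup MulAction

/-- Product of an invariant function with values of order at most two, over a finite set acted on
by a 2-group: only the fixed points matter. -/
theorem prod_eq_prod_fixedPoints {H : Type*} [Group H] (hH : IsPGroup 2 H) {Ω : Type*}
    [MulAction H Ω] [Fintype Ω] {A : Type*} [CommGroup A] (ψ : Ω → A)
    (hinv : ∀ (h : H) (c : Ω), ψ (h • c) = ψ c) (hsq : ∀ c, ψ c * ψ c = 1)
    [DecidablePred (fun c : Ω => c ∈ fixedPoints H Ω)] :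
    ∏ c : Ω, ψ c = ∏ c ∈ Finset.univ.filter (fun c : Ω => c ∈ fixedPoints H Ω), ψ c := by
  classical
  have : Fact (Nat.Prime 2) := ⟨Nat.prime_two⟩
  have hpmod : ∀ (b : A) (n m : ℕ), b * b = 1 → n ≡ m [MOD 2] → b ^ n = b ^ m := by
    intro b n m hb hnm
    have h2 : b ^ 2 = 1 := by rw [pow_two]; exact hb
    rw [← Nat.div_add_mod n 2, ← Nat.div_add_mod m 2, pow_add, pow_add, pow_mul, pow_mul, h2,
      one_pow, one_pow, one_mul, one_mul]
    unfold Nat.ModEq at hnm
    rw [hnm]
  set F : Finset Ω := Finset.univ.filter (fun c : Ω => c ∈ fixedPoints H Ω) with hF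
  have hstep : ∏ c : Ω, ψ c = ∏ b ∈ Finset.univ.image ψ,
      b ^ (Finset.univ.filter (fun c => ψ c = b)).card := by
    have := Finset.prod_comp (s := (Finset.univ : Finset Ω)) (fun b : A => b) ψ
    simpa using this
  have hstep2 : ∏ c ∈ F, ψ c = ∏ b ∈ F.image ψ, b ^ (F.filter (fun c => ψ c = b)).card := by
    have := Finset.prod_comp (s := F) (fun b : A => b) ψ
    simpa using this
  have hstep3 : ∏ b ∈ F.image ψ, b ^ (F.filter (fun c => ψ c = b)).card
      = ∏ b ∈ Finset.univ.image ψ, b ^ (F.filter (fun c => ψ c = b)).card := by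
    apply Finset.prod_subset
    · exact Finset.image_subset_image (Finset.subset_univ _)
    · intro b _ hb
      have : F.filter (fun c => ψ c = b) = ∅ := by
        rw [Finset.filter_eq_empty_iff]
        intro c hc hcb
        exact hb (Finset.mem_image.mpr ⟨c, hc, hcb⟩)
      rw [this, Finset.card_empty, pow_zero]
  rw [hstep, hstep2, hstep3]
  apply Finset.prod_congr rfl
  intro b hb
  obtain ⟨c₁, -, hc₁⟩ := Finset.mem_image.mp hb
  have hbb : b * b = 1 := by rw [← hc₁]; exact hsq c₁
  apply hpmod b _ _ hbb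
  -- the sub-action on the fibre
  let Y : SubMulAction H Ω :=
    { carrier := {c | ψ c = b}
      smul_mem' := by
        intro h c hc
        change ψ (h • c) = b
        rw [hinv]; exact hc }
  have hYcard : Nat.card Y = (Finset.univ.filter (fun c => ψ c = b)).card := by
    rw [Nat.card_eq_fintype_card]
    apply Fintype.card_of_subtype
    intro x
    simp only [Finset.mem_filter, Finset.mem_univ, true_and]
    rfl
  have hYfix : Nat.card (fixedPoints H Y) = (F.filter (fun c => ψ c = b)).card := by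
    have e : fixedPoints H Y ≃ {c : Ω // c ∈ F.filter (fun c => ψ c = b)} := by
      refine ⟨fun x => ⟨x.1.1, ?_⟩, fun x => ⟨⟨x.1, ?_⟩, ?_⟩, ?_, ?_⟩
      · rw [Finset.mem_filter, hF, Finset.mem_filter]
        refine ⟨⟨Finset.mem_univ _, ?_⟩, x.1.2⟩
        intro h
        exact congrArg Subtype.val (x.2 h)
      · have := x.2
        rw [Finset.mem_filter] at this
        exact this.2
      · intro h
        apply Subtype.ext
        have h1 := (Finset.mem_filter.mp x.2).1
        have h2 : (x : Ω) ∈ fixedPoints H Ω := (Finset.mem_filter.mp h1).2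
        exact h2 h
      · intro x; rfl
      · intro x; rfl
    rw [Nat.card_congr e, Nat.card_eq_fintype_card, Fintype.card_coe]
  rw [← hYcard, ← hYfix]
  exact hH.card_modEq_card_fixedPoints Y

variable {G : Type*} [Group G] {A : Type*} [CommGroup A]

/-- Transfer of an involution `u ∈ H`, with a 2-group `C ≤ H` centralizing `u`: if for every
coset `gH ≠ H` fixed by `u` and `C` the value `ϕ (g⁻¹ u g)` is trivial, then the transfer of `ϕ`
maps `u` to `ϕ u`. -/
theorem transfer_involution [Finite G] (H : Subgroup G) (ϕ : ↥H →* A) (u : G) (hu2 : u * u = 1)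
    (C : Subgroup G) (hC : IsPGroup 2 C) (hCu : ∀ c ∈ C, c * u = u * c)
    (huH : u ∈ H) (hCH : C ≤ H)
    (hval : ∀ g : G, g ∉ H → g⁻¹ * u * g ∈ H → (∀ c ∈ C, g⁻¹ * c * g ∈ H) →
      Helper70.extHom ϕ (g⁻¹ * u * g) = 1) :
    MonoidHom.transfer ϕ u = ϕ ⟨u, huH⟩ := by
  classical
  have : Fact (Nat.Prime 2) := ⟨Nat.prime_two⟩
  have : Fintype (G ⧸ H) := Fintype.ofFinite _
  rw [Helper70.transfer_eq_prod_out]
  have hzinv : u⁻¹ = u := inv_eq_of_mul_eq_one_left hu2
  rw [hzinv]
  -- general membership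
  have hmem : ∀ c : G ⧸ H, c.out⁻¹ * u * (u • c).out ∈ H := by
    intro c
    have h1 : ((u * (u • c).out : G) : G ⧸ H) = ((c.out : G) : G ⧸ H) := by
      have : ((u * (u • c).out : G) : G ⧸ H) = u • (((u • c).out : G) : G ⧸ H) := rfl
      rw [this, QuotientGroup.out_eq', QuotientGroup.out_eq', smul_smul, hu2, one_smul]
    have := QuotientGroup.eq.mp h1.symm
    rwa [← mul_assoc] at this
  have hzz : ∀ c : G ⧸ H, u • u • c = c := by
    intro c
    rw [smul_smul, hu2, one_smul]
  -- split
  rw [← Finset.prod_filter_mul_prod_filter_not Finset.univ (fun c : G ⧸ H => u • c = c)]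
  have hnon : ∏ c ∈ Finset.univ.filter (fun c : G ⧸ H => ¬ u • c = c),
      Helper70.extHom ϕ (c.out⁻¹ * u * (u • c).out) = 1 := by
    refine Finset.prod_involution (fun c _ => u • c) ?_ ?_ ?_ ?_
    · intro c _
      have h1 := hmem c
      have h2 := hmem (u • c)
      rw [hzz] at h2 ⊢
      rw [← Helper70.extHom_mul ϕ h1 h2]
      have : c.out⁻¹ * u * (u • c).out * ((u • c).out⁻¹ * u * c.out) = 1 := by
        calc c.out⁻¹ * u * (u • c).out * ((u • c).out⁻¹ * u * c.out)
            = c.out⁻¹ * (u * u) * c.out := by group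
          _ = 1 := by rw [hu2]; group
      rw [this, Helper70.extHom_one]
    · intro c hc _
      exact (Finset.mem_filter.mp hc).2
    · intro c hc
      rw [Finset.mem_filter] at hc ⊢
      refine ⟨Finset.mem_univ _, ?_⟩
      intro h
      apply hc.2
      have := congrArg (fun d => u • d) h
      simp only [hzz] at this
      exact this
    · intro c _
      exact hzz c
  rw [hnon, mul_one]
  -- the fixed part
  have hfixterm : ∀ c ∈ Finset.univ.filter (fun c : G ⧸ H => u • c = c),
      Helper70.extHom ϕ (c.out⁻¹ * u * (u • c).out) = Helper70.extHom ϕ (c.out⁻¹ * u * c.out) := by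
    intro c hc
    rw [(Finset.mem_filter.mp hc).2]
  rw [Finset.prod_congr rfl hfixterm]
  -- sub-action of `C` on the `u`-fixed cosets
  have hzh : ∀ (h : C) (c : G ⧸ H), u • (h • c) = h • (u • c) := by
    intro h c
    change u • ((h : G) • c) = (h : G) • (u • c)
    rw [smul_smul, smul_smul, hCu h h.2]
  let Y : SubMulAction C (G ⧸ H) :=
    { carrier := {c | u • c = c}
      smul_mem' := by
        intro h c hc
        change u • (h • c) = h • c
        rw [hzh, hc] }
  have : Fintype Y := Fintype.ofFinite _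
  have hprod : ∏ c ∈ Finset.univ.filter (fun c : G ⧸ H => u • c = c),
      Helper70.extHom ϕ (c.out⁻¹ * u * c.out)
      = ∏ c : Y, Helper70.extHom ϕ ((c : G ⧸ H).out⁻¹ * u * (c : G ⧸ H).out) := by
    apply Finset.prod_subtype
    intro x
    simp only [Finset.mem_filter, Finset.mem_univ, true_and]
    rfl
  rw [hprod]
  -- invariance
  have hout : ∀ (h : C) (c : G ⧸ H), ∃ s : H, (h • c).out = (h : G) * c.out * s := by
    intro h c
    have h1 : h • c = (((h : G) * c.out : G) : G ⧸ H) := by
      conv_lhs => rw [← QuotientGroup.out_eq' c]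
      rfl
    obtain ⟨s, hs⟩ := QuotientGroup.mk_out_eq_mul H ((h : G) * c.out)
    exact ⟨s, by rw [h1, hs]⟩
  rw [prod_eq_prod_fixedPoints hC
    (fun c : Y => Helper70.extHom ϕ ((c : G ⧸ H).out⁻¹ * u * (c : G ⧸ H).out))]
  · -- evaluate the product over the fixed points
    have hbase_u : u • ((1 : G) : G ⧸ H) = ((1 : G) : G ⧸ H) := by
      have : u • ((1 : G) : G ⧸ H) = ((u * 1 : G) : G ⧸ H) := rfl
      rw [this, QuotientGroup.eq]
      simpa using H.inv_mem huH
    let c₀ : Y := ⟨((1 : G) : G ⧸ H), hbase_u⟩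
    have hc₀fix : c₀ ∈ fixedPoints C Y := by
      intro h
      apply Subtype.ext
      change (h : G) • ((1 : G) : G ⧸ H) = ((1 : G) : G ⧸ H)
      have : (h : G) • ((1 : G) : G ⧸ H) = (((h : G) * 1 : G) : G ⧸ H) := rfl
      rw [this, QuotientGroup.eq]
      simpa using H.inv_mem (hCH h.2)
    rw [Finset.prod_eq_single c₀]
    · -- value at the base coset
      have hout1 : ((c₀ : G ⧸ H)).out ∈ H := by
        have h1 : ((((c₀ : G ⧸ H)).out : G) : G ⧸ H) = ((1 : G) : G ⧸ H) :=
          QuotientGroup.out_eq' _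
        have := QuotientGroup.eq.mp h1
        simpa using H.inv_mem this
      rw [CT.extHom_conj ϕ hout1, Helper70.extHom_of_mem ϕ huH]
    · intro c hc hne
      have hcf : c ∈ fixedPoints C Y := (Finset.mem_filter.mp hc).2
      set g : G := (c : G ⧸ H).out with hg
      have hgc : ((g : G) : G ⧸ H) = (c : G ⧸ H) := QuotientGroup.out_eq' _
      have hgH : g ∉ H := by
        intro hgH
        apply hne
        apply Subtype.ext
        change (c : G ⧸ H) = ((1 : G) : G ⧸ H)
        rw [← hgc, QuotientGroup.eq]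
        simpa using H.inv_mem hgH
      have hfixu : g⁻¹ * u * g ∈ H := by
        have h1 : u • (c : G ⧸ H) = (c : G ⧸ H) := c.2
        rw [← hgc] at h1
        have h2 : u • ((g : G) : G ⧸ H) = ((u * g : G) : G ⧸ H) := rfl
        rw [h2] at h1
        have := QuotientGroup.eq.mp h1.symm
        rwa [← mul_assoc] at this
      have hfixC : ∀ k ∈ C, g⁻¹ * k * g ∈ H := by
        intro k hk
        have h0 := hcf ⟨k, hk⟩
        have h1 : (k : G) • (c : G ⧸ H) = (c : G ⧸ H) := congrArg Subtype.val h0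
        rw [← hgc] at h1
        have h2 : k • ((g : G) : G ⧸ H) = ((k * g : G) : G ⧸ H) := rfl
        rw [h2] at h1
        have := QuotientGroup.eq.mp h1.symm
        rwa [← mul_assoc] at this
      exact hval g hgH hfixu hfixC
    · intro hc
      exact absurd (Finset.mem_filter.mpr ⟨Finset.mem_univ _, hc₀fix⟩) hc
  · intro h c
    obtain ⟨s, hs⟩ := hout h (c : G ⧸ H)
    have hcoe : ((h • c : Y) : G ⧸ H) = h • (c : G ⧸ H) := rfl
    rw [hcoe, hs]
    have : ((h : G) * (c : G ⧸ H).out * s)⁻¹ * u * ((h : G) * (c : G ⧸ H).out * s)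
        = (s : G)⁻¹ * ((c : G ⧸ H).out⁻¹ * u * (c : G ⧸ H).out) * s := by
      have hh := hCu h h.2
      calc ((h : G) * (c : G ⧸ H).out * s)⁻¹ * u * ((h : G) * (c : G ⧸ H).out * s)
          = (s : G)⁻¹ * ((c : G ⧸ H).out⁻¹ * ((h : G)⁻¹ * (u * h)) * (c : G ⧸ H).out) * s := by
            group
        _ = (s : G)⁻¹ * ((c : G ⧸ H).out⁻¹ * ((h : G)⁻¹ * (h * u)) * (c : G ⧸ H).out) * s := by
            rw [hh]
        _ = (s : G)⁻¹ * ((c : G ⧸ H).out⁻¹ * u * (c : G ⧸ H).out) * s := by group
    rw [this]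
    exact CT.extHom_conj ϕ s.2 _
  · intro c
    by_cases hy : (c : G ⧸ H).out⁻¹ * u * (c : G ⧸ H).out ∈ H
    · rw [← Helper70.extHom_mul ϕ hy hy]
      have : (c : G ⧸ H).out⁻¹ * u * (c : G ⧸ H).out * ((c : G ⧸ H).out⁻¹ * u * (c : G ⧸ H).out)
          = 1 := by
        calc (c : G ⧸ H).out⁻¹ * u * (c : G ⧸ H).out * ((c : G ⧸ H).out⁻¹ * u * (c : G ⧸ H).out)
            = (c : G ⧸ H).out⁻¹ * (u * u) * (c : G ⧸ H).out := by group
          _ = 1 := by rw [hu2]; group
      rw [this, Helper70.extHom_one]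
    · unfold Helper70.extHom
      rw [dif_neg hy, one_mul]

end Cfsg.Agent.Helper32.IT
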