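import Mathlib
import Cfsg.Prelude.Def_Transfer
import Cfsg.Prelude.Def_Solvable
import Cfsg.Agent.Lib.Helper89.ES
import Cfsg.Agent.Lib.Helper92.CoreIn
import Cfsg.Agent.Lib.Helper63.Extraspecial
import Cfsg.Agent.Lib.Helper32.InvTransfer

/-!
# Large extraspecial 2-subgroups: basic set-up and a transfer computation

`E = O₂(C_G(z))` extraspecial with `C_G(E) ≤ E`.
-/

set_option autoImplicit false

namespace Cfsg.Agent.Helper32.LES

open Cfsg Cfsg.Agent.Helper89

variable {G : Type*} [Group G]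

/-- the homomorphism onto `{±1}` with kernel a subgroup of index two -/
noncomputable def signHom {H : Type*} [Group H] (N : Subgroup H) (hN : N.index = 2) : H →* ℤˣ := by
  classical
  exact MonoidHom.mk' (fun h => if h ∈ N then 1 else -1) (by
    intro a b
    have := Subgroup.mul_mem_iff_of_index_two hN (a := a) (b := b)
    by_cases ha : a ∈ N <;> by_cases hb : b ∈ N <;> simp [ha, hb, this])

theorem signHom_apply {H : Type*} [Group H] (N : Subgroup H) (hN : N.index = 2) (h : H) :
    signHom N hN h = (open Classical in if h ∈ N then 1 else -1) := by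
  unfold signHom
  simp only [MonoidHom.mk'_apply]

theorem signHom_eq_one_iff {H : Type*} [Group H] (N : Subgroup H) (hN : N.index = 2) (h : H) :
    signHom N hN h = 1 ↔ h ∈ N := by
  classical
  rw [signHom_apply]
  by_cases hh : h ∈ N
  · simp [hh]
  · simp only [hh, if_false, iff_false]
    decide

/-- A finite group generated by its elements of odd order has no nontrivial homomorphism to
`{±1}`. -/
theorem hom_eq_one_of_pResidual [Finite G] (hres : Cfsg.pResidual 2 G = ⊤) (V : G →* ℤˣ) (g : G) :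
    V g = 1 := by
  have hle : Cfsg.pResidual 2 G ≤ V.ker := by
    unfold Cfsg.pResidual
    rw [Subgroup.closure_le]
    intro x hx
    have hx' : Nat.Coprime (orderOf x) 2 := hx
    rw [SetLike.mem_coe, MonoidHom.mem_ker]
    have h1 : V x ^ orderOf x = 1 := by rw [← map_pow, pow_orderOf_eq_one, map_one]
    have h2 : V x ^ 2 = 1 := by
      rw [pow_two]; exact Int.units_mul_self _
    have h3 : orderOf (V x) ∣ Nat.gcd (orderOf x) 2 :=
      Nat.dvd_gcd (orderOf_dvd_of_pow_eq_one h1) (orderOf_dvd_of_pow_eq_one h2)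
    rw [hx'] at h3
    exact orderOf_eq_one_iff.mp (Nat.dvd_one.mp h3)
  rw [hres] at hle
  exact hle (Subgroup.mem_top g)

/-- the basic facts in the large extraspecial setting -/
structure Setting (z : G) (E : Subgroup G) : Prop where
  es : ES E z
  leH : E ≤ Subgroup.centralizer ({z} : Set G)
  norm : ∀ h ∈ Subgroup.centralizer ({z} : Set G), ∀ a ∈ E, h * a * h⁻¹ ∈ E
  cent : Subgroup.centralizer (E : Set G) ≤ E
  sq : ∀ a ∈ E, a * a = 1 ∨ a * a = z

theorem setting_of_hyps [Finite G] (z : G) (hz : orderOf z = 2)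
    (E : Subgroup G) (hE : E = (Cfsg.pCore 2 ↥(Subgroup.centralizer ({z} : Set G))).map (Subgroup.centralizer ({z} : Set G)).subtype)
    (hext : Cfsg.IsExtraspecial 2 ↥E) (hcent : Subgroup.centralizer (E : Set G) ≤ E) :
    Setting z E := by
  have : Fact (Nat.Prime 2) := ⟨Nat.prime_two⟩
  have hz2 : z * z = 1 := by rw [← pow_two, ← hz, pow_orderOf_eq_one]
  have hz1 : z ≠ 1 := by
    intro h
    rw [h, orderOf_one] at hz
    exact absurd hz (by norm_num)
  have hE' : E = Helper92.coreIn 2 (Subgroup.centralizer ({z} : Set G)) := hE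
  have hleH : E ≤ Subgroup.centralizer ({z} : Set G) := by
    rw [hE']; exact Helper92.coreIn_le 2 _
  have hnorm : ∀ h ∈ Subgroup.centralizer ({z} : Set G), ∀ a ∈ E, h * a * h⁻¹ ∈ E := by
    intro h hh a ha
    rw [hE'] at ha ⊢
    exact Helper92.coreIn_conj_mem 2 _ hh ha
  -- z ∈ E
  have hzE : z ∈ E := by
    apply hcent
    rw [Subgroup.mem_centralizer_iff]
    intro a ha
    exact Subgroup.mem_centralizer_singleton_iff.mp (hleH ha)
  obtain ⟨z', hes, hcen⟩ := ES.of_extraspecial E hext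
  have hzz' : z = z' := by
    have hcz : ∀ y ∈ E, z * y = y * z := by
      intro y hy
      exact (Subgroup.mem_centralizer_singleton_iff.mp (hleH hy)).symm
    rcases hes.cent z hzE hcz with h | h
    · exact absurd h hz1
    · exact h
  subst hzz'
  refine ⟨hes, hleH, hnorm, hcent, ?_⟩
  intro a ha
  have h1 := Helper63.extraspecial_pow_mem_center hext (⟨a, ha⟩ : E)
  have h2 : a * a ∈ (Subgroup.center ↥E).map E.subtype := by
    refine ⟨(⟨a, ha⟩ : E) ^ 2, h1, ?_⟩
    simp [pow_two]
  exact (hcen _).mp h2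

namespace Setting

variable {z : G} {E : Subgroup G} (h : Setting z E)

include h in
theorem z_comm {y : G} (hy : y ∈ Subgroup.centralizer ({z} : Set G)) : y * z = z * y := by
  have _ := h
  exact Subgroup.mem_centralizer_singleton_iff.mp hy

include h in
/-- An element of `C(z)` centralizing `C_E(u)`, for a non-central involution `u` of `E`, lies in
`{1, z, u, z * u}`. -/
theorem fixed_cases {u : G} (huE : u ∈ E) (hu1 : u ≠ 1) (huz : u ≠ z) (hu2 : u * u = 1)
    {t : G} (htH : t ∈ Subgroup.centralizer ({z} : Set G))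
    (htC : ∀ r ∈ E, r * u = u * r → t * r = r * t) :
    t = 1 ∨ t = z ∨ t = u ∨ t = z * u := by
  have hes := h.es
  obtain ⟨q0, hq0, hq0u⟩ := hes.exists_conj huE hu1 huz
  have hidx := hes.index_two huE hq0 hq0u
  have hzu : z * u = u * z := (hes.central u huE).symm
  have hzq0 : z * q0 = q0 * z := (hes.central q0 hq0).symm
  -- `q0 * u = z * u * q0`
  have h4 : q0 * u = z * u * q0 := by
    have := congrArg (fun w => w * q0) hq0u
    simpa [mul_assoc] using this
  -- `u * q0 * u⁻¹ = q0 * z`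
  have huq0 : u * q0 = q0 * z * u := by
    have e1 : z * (q0 * u) = z * (z * u * q0) := by rw [h4]
    have e2 : z * (z * u * q0) = u * q0 := by
      calc z * (z * u * q0) = (z * z) * u * q0 := by group
        _ = u * q0 := by rw [hes.sq, one_mul]
    rw [← e2, ← e1, ← mul_assoc, hzq0]
  -- it suffices that `t ∈ E`
  suffices htE : t ∈ E by
    exact hes.center_centralizer huE hu1 huz htE htC
  -- a general principle: an element commuting with `q0` and `C_E(u)` centralizes `E`
  have key : ∀ t' : G, (∀ r ∈ E, r * u = u * r → t' * r = r * t') → t' * q0 = q0 * t' →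
      t' ∈ E := by
    intro t' ht'C ht'q
    apply h.cent
    rw [Subgroup.mem_centralizer_iff]
    intro y hy
    rcases hidx y hy with h1 | h1
    · exact (ht'C y hy h1).symm
    · have h2 := ht'C (q0⁻¹ * y) (E.mul_mem (E.inv_mem hq0) hy) h1
      calc y * t' = q0 * ((q0⁻¹ * y) * t') := by group
        _ = q0 * (t' * (q0⁻¹ * y)) := by rw [h2]
        _ = (q0 * t') * (q0⁻¹ * y) := by group
        _ = (t' * q0) * (q0⁻¹ * y) := by rw [ht'q]
        _ = t' * y := by group
  -- `w = q0⁻¹ * (t * q0 * t⁻¹)` centralizes `C_E(u)`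
  obtain ⟨q0', hq0'⟩ : ∃ q : G, q = t * q0 * t⁻¹ := ⟨_, rfl⟩
  have hq0'E : q0' ∈ E := by rw [hq0']; exact h.norm t htH q0 hq0
  obtain ⟨w, hw⟩ : ∃ w : G, w = q0⁻¹ * q0' := ⟨_, rfl⟩
  have hwE : w ∈ E := by rw [hw]; exact E.mul_mem (E.inv_mem hq0) hq0'E
  have hwC : ∀ r ∈ E, r * u = u * r → w * r = r * w := by
    intro r hr hru
    -- `r' = q0 * r * q0⁻¹` commutes with `u`
    have hzr : z * r = r * z := (hes.central r hr).symm
    have hr'E : q0 * r * q0⁻¹ ∈ E := E.mul_mem (E.mul_mem hq0 hr) (E.inv_mem hq0)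
    have hq0inv : q0⁻¹ * u = z * u * q0⁻¹ := by
      calc q0⁻¹ * u = q0⁻¹ * (u * q0) * q0⁻¹ := by group
        _ = q0⁻¹ * (q0 * z * u) * q0⁻¹ := by rw [huq0]
        _ = z * u * q0⁻¹ := by group
    have hr'u : (q0 * r * q0⁻¹) * u = u * (q0 * r * q0⁻¹) := by
      calc (q0 * r * q0⁻¹) * u = q0 * r * (q0⁻¹ * u) := by group
        _ = q0 * r * (z * u * q0⁻¹) := by rw [hq0inv]
        _ = q0 * (r * z) * u * q0⁻¹ := by group
        _ = q0 * (z * r) * u * q0⁻¹ := by rw [hzr]
        _ = q0 * z * (r * u) * q0⁻¹ := by group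
        _ = q0 * z * (u * r) * q0⁻¹ := by rw [hru]
        _ = (q0 * z * u) * r * q0⁻¹ := by group
        _ = (u * q0) * r * q0⁻¹ := by rw [huq0]
        _ = u * (q0 * r * q0⁻¹) := by group
    have ht1 := htC _ hr'E hr'u
    have ht2 := htC r hr hru
    -- conjugating `q0 r q0⁻¹` by `t`
    have e1 : q0' * r * q0'⁻¹ = q0 * r * q0⁻¹ := by
      have hr3 : t⁻¹ * r * t = r := by
        calc t⁻¹ * r * t = t⁻¹ * (r * t) := by group
          _ = t⁻¹ * (t * r) := by rw [ht2]
          _ = r := by group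
      calc q0' * r * q0'⁻¹ = t * (q0 * (t⁻¹ * r * t) * q0⁻¹) * t⁻¹ := by
            rw [hq0']; group
        _ = t * (q0 * r * q0⁻¹) * t⁻¹ := by rw [hr3]
        _ = (q0 * r * q0⁻¹) * t * t⁻¹ := by rw [ht1]
        _ = q0 * r * q0⁻¹ := by group
    calc w * r = q0⁻¹ * (q0' * r * q0'⁻¹) * q0' := by rw [hw]; group
      _ = q0⁻¹ * (q0 * r * q0⁻¹) * q0' := by rw [e1]
      _ = r * w := by rw [hw]; group
  have htq0 : t * q0 = q0 * w * t := by
    rw [hw, hq0']; group
  -- `q0 * q0` commutes with `u`, hence with `t`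
  have hq0sqE : q0 * q0 ∈ E := E.mul_mem hq0 hq0
  have hq0squ : (q0 * q0) * u = u * (q0 * q0) := by
    calc (q0 * q0) * u = q0 * (q0 * u) := by group
      _ = q0 * (z * u * q0) := by rw [h4]
      _ = (q0 * z) * u * q0 := by group
      _ = (z * q0) * u * q0 := by rw [hzq0]
      _ = z * (q0 * u) * q0 := by group
      _ = z * (z * u * q0) * q0 := by rw [h4]
      _ = (z * z) * u * (q0 * q0) := by group
      _ = u * (q0 * q0) := by rw [hes.sq, one_mul]
  have htq0sq := htC _ hq0sqE hq0squ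
  -- `(q0 * u) * (q0 * u) = q0 * q0 * z`
  have hq0usq : (q0 * u) * (q0 * u) = q0 * q0 * z := by
    calc (q0 * u) * (q0 * u) = q0 * (u * q0) * u := by group
      _ = q0 * (q0 * z * u) * u := by rw [huq0]
      _ = q0 * q0 * z * (u * u) := by group
      _ = q0 * q0 * z := by rw [hu2, mul_one]
  -- squares: `t * (q0 * q0) * t⁻¹ = (q0 * w) * (q0 * w)`
  have hsq : (q0 * w) * (q0 * w) = q0 * q0 := by
    have e : q0 * w = t * q0 * t⁻¹ := by rw [hw, hq0']; group
    calc (q0 * w) * (q0 * w) = t * (q0 * q0) * t⁻¹ := by rw [e]; group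
      _ = (q0 * q0) * t * t⁻¹ := by rw [htq0sq]
      _ = q0 * q0 := by group
  rcases hes.center_centralizer huE hu1 huz hwE hwC with hw1 | hw1 | hw1 | hw1
  · -- `w = 1`
    apply key t htC
    rw [htq0, hw1, mul_one]
  · -- `w = z`: then `u * t` centralizes `E`
    have hut : u * t ∈ E := by
      apply key (u * t)
      · intro r hr hru
        calc u * t * r = u * (t * r) := by group
          _ = u * (r * t) := by rw [htC r hr hru]
          _ = (u * r) * t := by group
          _ = (r * u) * t := by rw [hru]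
          _ = r * (u * t) := by group
      · have htz : t * z = z * t := h.z_comm htH
        calc u * t * q0 = u * (t * q0) := by group
          _ = u * (q0 * w * t) := by rw [htq0]
          _ = u * (q0 * z * t) := by rw [hw1]
          _ = (u * q0) * z * t := by group
          _ = (q0 * z * u) * z * t := by rw [huq0]
          _ = q0 * z * (u * z) * t := by group
          _ = q0 * z * (z * u) * t := by rw [hzu]
          _ = q0 * (z * z) * u * t := by group
          _ = q0 * (u * t) := by rw [hes.sq]; group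
    have : t = u⁻¹ * (u * t) := by group
    rw [this]
    exact E.mul_mem (E.inv_mem huE) hut
  · -- `w = u`: impossible
    exfalso
    rw [hw1, hq0usq] at hsq
    apply hes.ne_one
    have h9 : q0 * q0 * z = q0 * q0 * 1 := by rw [mul_one]; exact hsq
    exact mul_left_cancel h9
  · -- `w = z * u`: impossible
    exfalso
    have e : (q0 * (z * u)) * (q0 * (z * u)) = q0 * q0 * z := by
      calc (q0 * (z * u)) * (q0 * (z * u)) = q0 * z * (u * q0) * (z * u) := by group
        _ = q0 * z * (q0 * z * u) * (z * u) := by rw [huq0]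
        _ = q0 * (z * q0) * z * (u * z) * u := by group
        _ = q0 * (q0 * z) * z * (z * u) * u := by rw [hzq0, hzu]
        _ = q0 * q0 * (z * z) * z * (u * u) := by group
        _ = q0 * q0 * z := by rw [hes.sq, hu2]; group
    rw [hw1, e] at hsq
    apply hes.ne_one
    have h9 : q0 * q0 * z = q0 * q0 * 1 := by rw [mul_one]; exact hsq
    exact mul_left_cancel h9

/-- values of a homomorphism into a commutative group on commutators -/
theorem extHom_commutator {A : Type*} [CommGroup A] {H : Subgroup G} (ϕ : ↥H →* A) {a b : G}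
    (ha : a ∈ H) (hb : b ∈ H) : Helper70.extHom ϕ (a * b * a⁻¹ * b⁻¹) = 1 := by
  have hm : a * b * a⁻¹ * b⁻¹ ∈ H :=
    H.mul_mem (H.mul_mem (H.mul_mem ha hb) (H.inv_mem ha)) (H.inv_mem hb)
  rw [Helper70.extHom_of_mem ϕ hm]
  have : (⟨a * b * a⁻¹ * b⁻¹, hm⟩ : H) = ⟨a, ha⟩ * ⟨b, hb⟩ * ⟨a, ha⟩⁻¹ * ⟨b, hb⟩⁻¹ := rfl
  rw [this, map_mul, map_mul, map_mul, map_inv, map_inv]
  rw [mul_comm (ϕ ⟨a, ha⟩) (ϕ ⟨b, hb⟩), mul_inv_cancel_right, mul_inv_cancel]

include h in
/-- The transfer of any homomorphism `ϕ : C(z) →* A` into a commutative group maps a non-central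
involution `u` of the large extraspecial group `E` to `ϕ u`. -/
theorem transfer_involution_eq [Finite G] (hcard : 32 ≤ Nat.card E) {A : Type*} [CommGroup A]
    (ϕ : ↥(Subgroup.centralizer ({z} : Set G)) →* A)
    {u : G} (huE : u ∈ E) (hu1 : u ≠ 1) (huz : u ≠ z) (hu2 : u * u = 1) :
    MonoidHom.transfer ϕ u = ϕ ⟨u, h.leH huE⟩ := by
  have hes := h.es
  obtain ⟨r1, hr1, r2, hr2, hr1u, hr2u, hr12⟩ := hes.exists_noncommuting huE hu1 huz hcard
  have hzH : z ∈ Subgroup.centralizer ({z} : Set G) := h.leH hes.mem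
  have hϕz : Helper70.extHom ϕ z = 1 := by
    have e := extHom_commutator ϕ (h.leH hr1) (h.leH hr2)
    have e2 : Helper70.extHom ϕ (r1 * r2 * r1⁻¹ * r2⁻¹) = Helper70.extHom ϕ z :=
      congrArg (Helper70.extHom ϕ) hr12
    rw [← e2]; exact e
  apply IT.transfer_involution (Subgroup.centralizer ({z} : Set G)) ϕ u hu2
    (E ⊓ Subgroup.centralizer ({u} : Set G)) (hes.pgroup.to_le inf_le_left)
  · intro c hc
    exact Subgroup.mem_centralizer_singleton_iff.mp hc.2
  · exact inf_le_left.trans h.leH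
  · intro g hgH hgu hgC
    have hzu : z * u = u * z := (hes.central u huE).symm
    have hzC : z ∈ E ⊓ Subgroup.centralizer ({u} : Set G) :=
      ⟨hes.mem, Subgroup.mem_centralizer_singleton_iff.mpr hzu⟩
    have hcomm : ∀ c ∈ E ⊓ Subgroup.centralizer ({u} : Set G),
        (g * z * g⁻¹) * c = c * (g * z * g⁻¹) := by
      intro c hc
      have h1 : (g⁻¹ * c * g) * z = z * (g⁻¹ * c * g) :=
        Subgroup.mem_centralizer_singleton_iff.mp (hgC c hc)
      calc (g * z * g⁻¹) * c = g * (z * (g⁻¹ * c * g)) * g⁻¹ := by group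
        _ = g * ((g⁻¹ * c * g) * z) * g⁻¹ := by rw [h1]
        _ = c * (g * z * g⁻¹) := by group
    have hz1H : g * z * g⁻¹ ∈ Subgroup.centralizer ({z} : Set G) :=
      Subgroup.mem_centralizer_singleton_iff.mpr (hcomm z hzC)
    have hz1C : ∀ r ∈ E, r * u = u * r → (g * z * g⁻¹) * r = r * (g * z * g⁻¹) := by
      intro r hr hru
      exact hcomm r ⟨hr, Subgroup.mem_centralizer_singleton_iff.mpr hru⟩
    -- `g⁻¹ z g ∈ C(z)` is a commutator there
    have hconjz : Helper70.extHom ϕ (g⁻¹ * z * g) = 1 := by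
      have e : g⁻¹ * z * g = (g⁻¹ * r1 * g) * (g⁻¹ * r2 * g) * (g⁻¹ * r1 * g)⁻¹ * (g⁻¹ * r2 * g)⁻¹ := by
        have e0 : g⁻¹ * z * g = g⁻¹ * (r1 * r2 * r1⁻¹ * r2⁻¹) * g := by rw [hr12]
        rw [e0]; group
      rw [congrArg (Helper70.extHom ϕ) e]
      exact extHom_commutator ϕ
        (hgC r1 ⟨hr1, Subgroup.mem_centralizer_singleton_iff.mpr hr1u⟩)
        (hgC r2 ⟨hr2, Subgroup.mem_centralizer_singleton_iff.mpr hr2u⟩)
    rcases h.fixed_cases huE hu1 huz hu2 hz1H hz1C with h1 | h1 | h1 | h1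
    · exfalso
      apply hes.ne_one
      have : z = g⁻¹ * (g * z * g⁻¹) * g := by group
      rw [this, h1]; group
    · exfalso
      apply hgH
      rw [Subgroup.mem_centralizer_singleton_iff]
      have := congrArg (fun x => x * g) h1
      simpa using this
    · have : g⁻¹ * u * g = z := by
        rw [← h1]; group
      rw [this]
      exact hϕz
    · have e : g⁻¹ * u * g = (g⁻¹ * z * g) * z := by
        have hu' : u = z * (g * z * g⁻¹) := by
          rw [h1, ← mul_assoc, hes.sq, one_mul]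
        calc g⁻¹ * u * g = g⁻¹ * (z * (g * z * g⁻¹)) * g := by rw [← hu']
          _ = (g⁻¹ * z * g) * z := by group
      have hm : g⁻¹ * z * g ∈ Subgroup.centralizer ({z} : Set G) := by
        rw [Subgroup.mem_centralizer_singleton_iff]
        have h2 : (g * z * g⁻¹) * z = z * (g * z * g⁻¹) := hcomm z hzC
        calc g⁻¹ * z * g * z = g⁻¹ * (z * (g * z * g⁻¹)) * g := by group
          _ = g⁻¹ * ((g * z * g⁻¹) * z) * g := by rw [h2]
          _ = z * (g⁻¹ * z * g) := by group
      rw [e, Helper70.extHom_mul ϕ hm hzH, hconjz, hϕz, one_mul]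

include h in
/-- If `E` is not contained in the subgroup `K` of index two in `C(z)`, some involution of `E`
lies outside `K`. -/
theorem exists_involution_not_mem [Finite G] (hcard : 32 ≤ Nat.card E) (K : Subgroup G)
    (hKmul : ∀ a ∈ Subgroup.centralizer ({z} : Set G), ∀ b ∈ Subgroup.centralizer ({z} : Set G),
      (a * b ∈ K ↔ (a ∈ K ↔ b ∈ K)))
    (hzK : z ∈ K) {x : G} (hxE : x ∈ E) (hxK : x ∉ K) :
    ∃ u ∈ E, u ∉ K ∧ u * u = 1 := by
  have hes := h.es
  have hx1 : x ≠ 1 := fun e => hxK (e ▸ K.one_mem)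
  have hxz : x ≠ z := fun e => hxK (e ▸ hzK)
  rcases h.sq x hxE with hx2 | hx2
  · exact ⟨x, hxE, hxK, hx2⟩
  obtain ⟨r1, hr1, r2, hr2, hr1x, hr2x, hr12⟩ := hes.exists_noncommuting hxE hx1 hxz hcard
  have hzr1 : z * r1 = r1 * z := (hes.central r1 hr1).symm
  have hr21 : r2 * r1 = z * (r1 * r2) := by
    have e : r1 * r2 = z * (r2 * r1) := by
      have e0 : r1 * r2 * r1⁻¹ * r2⁻¹ * (r2 * r1) = z * (r2 * r1) := by rw [hr12]
      rw [← e0]; group
    rw [e, ← mul_assoc, hes.sq, one_mul]
  have hsq12 : (r1 * r2) * (r1 * r2) = z * (r1 * r1) * (r2 * r2) := by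
    calc (r1 * r2) * (r1 * r2) = r1 * (r2 * r1) * r2 := by group
      _ = r1 * (z * (r1 * r2)) * r2 := by rw [hr21]
      _ = (r1 * z) * r1 * (r2 * r2) := by group
      _ = (z * r1) * r1 * (r2 * r2) := by rw [hzr1]
      _ = z * (r1 * r1) * (r2 * r2) := by group
  have hH : ∀ {y : G}, y ∈ E → y ∈ Subgroup.centralizer ({z} : Set G) := fun hy => h.leH hy
  -- a good element
  have hgood : ∃ w ∈ E, w * x = x * w ∧ ((w ∉ K ∧ w * w = 1) ∨ (w ∈ K ∧ w * w = z)) := by
    by_contra hcon
    push Not at hcon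
    have hb1 := hcon r1 hr1 hr1x
    have hb2 := hcon r2 hr2 hr2x
    have h12E : r1 * r2 ∈ E := E.mul_mem hr1 hr2
    have h12x : (r1 * r2) * x = x * (r1 * r2) := by
      calc (r1 * r2) * x = r1 * (r2 * x) := by group
        _ = r1 * (x * r2) := by rw [hr2x]
        _ = (r1 * x) * r2 := by group
        _ = (x * r1) * r2 := by rw [hr1x]
        _ = x * (r1 * r2) := by group
    have hb3 := hcon (r1 * r2) h12E h12x
    have hK12 := hKmul r1 (hH hr1) r2 (hH hr2)
    by_cases hk1 : r1 ∈ K <;> by_cases hk2 : r2 ∈ K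
    · -- both in K with square one
      have s1 : r1 * r1 = 1 := by
        rcases h.sq r1 hr1 with e | e
        · exact e
        · exact absurd e (hb1.2 hk1)
      have s2 : r2 * r2 = 1 := by
        rcases h.sq r2 hr2 with e | e
        · exact e
        · exact absurd e (hb2.2 hk2)
      have hk12 : r1 * r2 ∈ K := hK12.mpr ⟨fun _ => hk2, fun _ => hk1⟩
      apply hb3.2 hk12
      rw [hsq12, s1, s2, mul_one, mul_one]
    · have s1 : r1 * r1 = 1 := by
        rcases h.sq r1 hr1 with e | e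
        · exact e
        · exact absurd e (hb1.2 hk1)
      have s2 : r2 * r2 = z := by
        rcases h.sq r2 hr2 with e | e
        · exact absurd e (hb2.1 hk2)
        · exact e
      have hk12 : r1 * r2 ∉ K := fun hk => hk2 ((hK12.mp hk).mp hk1)
      apply hb3.1 hk12
      rw [hsq12, s1, s2, mul_one, hes.sq]
    · have s1 : r1 * r1 = z := by
        rcases h.sq r1 hr1 with e | e
        · exact absurd e (hb1.1 hk1)
        · exact e
      have s2 : r2 * r2 = 1 := by
        rcases h.sq r2 hr2 with e | e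
        · exact e
        · exact absurd e (hb2.2 hk2)
      have hk12 : r1 * r2 ∉ K := fun hk => hk1 ((hK12.mp hk).mpr hk2)
      apply hb3.1 hk12
      rw [hsq12, s1, s2, mul_one, hes.sq]
    · have s1 : r1 * r1 = z := by
        rcases h.sq r1 hr1 with e | e
        · exact absurd e (hb1.1 hk1)
        · exact e
      have s2 : r2 * r2 = z := by
        rcases h.sq r2 hr2 with e | e
        · exact absurd e (hb2.1 hk2)
        · exact e
      have hk12 : r1 * r2 ∈ K := hK12.mpr ⟨fun hk => absurd hk hk1, fun hk => absurd hk hk2⟩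
      apply hb3.2 hk12
      rw [hsq12, s1, s2, hes.sq, one_mul]
  obtain ⟨w, hwE, hwx, hw⟩ := hgood
  rcases hw with ⟨hwK, hw2⟩ | ⟨hwK, hw2⟩
  · exact ⟨w, hwE, hwK, hw2⟩
  · refine ⟨x * w, E.mul_mem hxE hwE, ?_, ?_⟩
    · intro hk
      exact hxK ((hKmul x (hH hxE) w (hH hwE)).mp hk |>.mpr hwK)
    · calc (x * w) * (x * w) = x * (w * x) * w := by group
        _ = x * (x * w) * w := by rw [hwx]
        _ = (x * x) * (w * w) := by group
        _ = 1 := by rw [hx2, hw2, hes.sq]

end Setting

end Cfsg.Agent.Helper32.LES
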