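import Mathlib
import Cfsg.Agent.Lib.Helper32.N9Defs
import Cfsg.Agent.Lib.Helper11.N9Tiny

set_option autoImplicit false

/-!
# helper32's own versions of the N9 pieces (I6) `sylow_transfer` and (IIIb) `concl_transfer`
-/

namespace Cfsg.Agent.Helper32.N9Own

open Cfsg Cfsg.Agent.Helper32.N9

universe u

theorem sylow_transfer {S : Type u} [Group S] [Finite S] (X : Sylow 2 S)
    (h8 : ∃ A : Subgroup S, IsMulCommutative ↥A ∧ ¬ IsCyclic ↥A ∧ Nat.card ↥A = 8)
    (T : Subgroup S) (hTn : T.Normal) (hTX : T ≤ (X : Subgroup S))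
    (hC : Subgroup.centralizer (T : Set S) ≤ T) :
    ¬ NA8 (⊤ : Subgroup ↥(X : Subgroup S)) ∧
      ∃ T' : Subgroup ↥(X : Subgroup S), T'.Normal ∧
        Subgroup.centralizer (T' : Set ↥(X : Subgroup S)) ≤ T' ∧
        (IsV4 T → IsV4 T') ∧ (IsQ8 T → IsQ8 T') ∧
        ((∀ a b : ↥(X : Subgroup S), a * b = b * a) → (X : Subgroup S) ≤ T) := by
  have : Fact (Nat.Prime 2) := ⟨Nat.prime_two⟩
  refine ⟨?_, T.subgroupOf X, hTn.subgroupOf _, ?_, ?_, ?_, ?_⟩
  · rw [Cfsg.Agent.Helper11.N9.na8_top_iff]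
    obtain ⟨A, hAc, hAn, hA8⟩ := h8
    have hA2 : IsPGroup 2 A := IsPGroup.of_card (n := 3) (by rw [hA8]; norm_num)
    obtain ⟨Q, hQ⟩ := hA2.exists_le_sylow
    obtain ⟨g, hg⟩ := MulAction.exists_smul_eq S Q X
    -- `g • Q = X`
    intro hN
    apply hN
    refine ⟨A.map (MulAut.conj g).toMonoidHom, ?_, ?_, ?_, ?_⟩
    · rintro _ ⟨a, ha, rfl⟩
      have h1 : a ∈ (Q : Subgroup S) := hQ ha
      have h2 : (MulAut.conj g) a ∈ ((g • Q : Sylow 2 S) : Subgroup S) := by
        rw [Sylow.coe_subgroup_smul]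
        exact Subgroup.smul_mem_pointwise_smul _ _ _ h1
      rw [hg] at h2
      exact h2
    · have e : ↥A ≃* ↥(A.map (MulAut.conj g).toMonoidHom) :=
        Subgroup.equivMapOfInjective A _ (MulAut.conj g).injective
      exact ⟨⟨fun x y => by
        apply e.symm.injective
        rw [map_mul, map_mul]
        exact hAc.is_comm.comm _ _⟩⟩
    · intro hcyc
      apply hAn
      have e : ↥A ≃* ↥(A.map (MulAut.conj g).toMonoidHom) :=
        Subgroup.equivMapOfInjective A _ (MulAut.conj g).injective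
      exact isCyclic_of_surjective e.symm e.symm.surjective
    · rw [Subgroup.card_map_of_injective (MulAut.conj g).injective]
      exact hA8
  · intro c hc
    rw [Subgroup.mem_subgroupOf]
    apply hC
    rw [Subgroup.mem_centralizer_iff]
    intro t ht
    have h1 : (⟨t, hTX ht⟩ : ↥(X : Subgroup S)) ∈ T.subgroupOf X := by
      rw [Subgroup.mem_subgroupOf]; exact ht
    have := (Subgroup.mem_centralizer_iff.mp hc) _ h1
    exact congrArg Subtype.val this
  · rintro ⟨h4, h2⟩
    refine ⟨?_, ?_⟩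
    · rw [Nat.card_congr (Subgroup.subgroupOfEquivOfLe hTX).toEquiv]; exact h4
    · intro t ht
      apply Subtype.ext
      rw [Subgroup.coe_pow]
      exact h2 _ (Subgroup.mem_subgroupOf.mp ht)
  · rintro ⟨e⟩
    exact ⟨(Subgroup.subgroupOfEquivOfLe hTX).trans e⟩
  · intro hab x hx
    apply hC
    rw [Subgroup.mem_centralizer_iff]
    intro t ht
    have := hab ⟨t, hTX ht⟩ ⟨x, hx⟩
    exact congrArg Subtype.val this

theorem concl_transfer {S : Type u} [Group S] (P : Subgroup S) (h : Concl ↥P) :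
    IsMulCommutative ↥P ∨
      (Cfsg.IsExtraspecial 2 ↥P ∧ 32 ≤ Nat.card ↥P) ∨
      (∃ (X₀ : Subgroup S) (k : ℕ), X₀ ≤ P ∧ X₀.relIndex P = 2 ∧
        Nonempty (↥X₀ ≃* QuaternionGroup (2 ^ (k + 1))) ∧
        X₀ ⊔ (P ⊓ Subgroup.centralizer (X₀ : Set S)) = P) ∨
      (Cfsg.IsSpecial 2 ↥P ∧ Nat.card ↥(Subgroup.center ↥P) = 4) := by
  rcases h with h | h | ⟨X₀, hidx, ⟨e⟩, hsup⟩ | h
  · exact Or.inl h
  · exact Or.inr (Or.inl h)
  · refine Or.inr (Or.inr (Or.inl ⟨X₀.map P.subtype, 0, Subgroup.map_subtype_le X₀, ?_, ?_, ?_⟩))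
    · -- relIndex
      have h1 : (X₀.map P.subtype).relIndex P = (X₀.map P.subtype).relIndex ((⊤ : Subgroup ↥P).map P.subtype) := by
        congr 1
        rw [← MonoidHom.range_eq_map, Subgroup.range_subtype]
      rw [h1, Subgroup.relIndex_map_map_of_injective _ _ P.subtype_injective, Subgroup.relIndex_top_right]
      exact hidx
    · exact ⟨(Subgroup.equivMapOfInjective X₀ P.subtype P.subtype_injective).symm.trans e⟩
    · apply le_antisymm
      · exact sup_le (Subgroup.map_subtype_le X₀) inf_le_left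
      · have hP : P = (X₀ ⊔ Subgroup.centralizer (X₀ : Set ↥P)).map P.subtype := by
          rw [hsup, ← MonoidHom.range_eq_map, Subgroup.range_subtype]
        conv_lhs => rw [hP]
        rw [Subgroup.map_sup]
        apply sup_le_sup le_rfl
        rintro _ ⟨c, hc, rfl⟩
        refine ⟨c.2, ?_⟩
        show P.subtype c ∈ Subgroup.centralizer _
        rw [Subgroup.mem_centralizer_iff]
        rintro _ ⟨t, ht, rfl⟩
        have hc' : c ∈ Subgroup.centralizer (X₀ : Set ↥P) := hc
        have := (Subgroup.mem_centralizer_iff.mp hc') t ht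
        exact congrArg Subtype.val this
  · exact Or.inr (Or.inr (Or.inr h))

end Cfsg.Agent.Helper32.N9Own
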