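import Mathlib
import Cfsg.Agent.Lib.Helper32.N9Defs
import Cfsg.Agent.Lib.Helper11.N9Tiny
import Cfsg.Agent.Lib.Helper12.N9L3
import Cfsg.Agent.Lib.Helper12.N9L3a
import Cfsg.Agent.Lib.Helper32.N9Own
import Cfsg.Agent.Lib.Helper58.N9E1
import Cfsg.Agent.Lib.Helper58.N9E2
import Cfsg.Agent.Lib.Helper58.N9V1
import Cfsg.Agent.Lib.Helper58.N9V2
import Cfsg.Agent.Lib.Helper64.N9Q1
import Cfsg.Agent.Lib.Helper66.N9II4a
import Cfsg.Agent.Lib.Helper66.N9II4b
import Cfsg.Agent.Lib.Helper70.N9I5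
import Cfsg.Agent.Lib.Helper70.N9L2a
import Cfsg.Agent.Lib.Helper94.N9I1
import Cfsg.Agent.Lib.Helper94.N9I4
import Cfsg.Agent.Lib.Helper94.N9IIIa
import Cfsg.Agent.Lib.Helper99.N9L2b

/-!
# helper32 lemma server "N9" (row S4409): the delivered pieces, restated under one namespace
(see `tools/n9_sigs_helper32.lean.txt` for the paper proofs).
-/

set_option autoImplicit false

namespace Cfsg.Agent.Helper32.N9Sigs

open Cfsg Cfsg.Agent.Helper32.N9

universe u


/-- **B1.** `[X, A]` is normal and `A`-invariant.  (`g⁻¹(x⁻¹ φx)g = (xg)⁻¹φ(xg) · (g⁻¹φg)⁻¹`;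
`ψ(x⁻¹ φx) = (ψx)⁻¹ (ψφψ⁻¹)(ψx)`.) -/
theorem commSub_normal_ainv {X : Type u} [Group X] (A : Subgroup (MulAut X)) :
    (commSub A).Normal ∧ AInv A (commSub A) := by
  exact Cfsg.Agent.Helper11.N9.commSub_normal_ainv A

/-- **B2.** Restriction of an automorphism to an invariant subgroup (finite, so `φ T ⊆ T` is enough). -/
theorem restrict_aut {X : Type u} [Group X] [Finite X] (T : Subgroup X) (φ : MulAut X)
    (h : ∀ t ∈ T, φ t ∈ T) :
    ∃ φ' : MulAut ↥T, (∀ t : ↥T, ((φ' t : ↥T) : X) = φ (t : X)) ∧ orderOf φ' ∣ orderOf φ := by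
  exact Cfsg.Agent.Helper11.N9.restrict_aut T φ h

/-- **B4.** `NA8` of a subgroup, seen inside the subgroup (map / comap along `T.subtype`). -/
theorem na8_top_iff {G : Type u} [Group G] (T : Subgroup G) :
    NA8 (⊤ : Subgroup ↥T) ↔ NA8 T := by
  exact Cfsg.Agent.Helper11.N9.na8_top_iff T

/-- **T1.** If `φ` (odd order) is trivial on a subgroup `Y` containing all `x⁻¹ φ x`, then `φ = 1`
on the 2-group `X`.  (`φ x = x y`, `y ∈ Y` fixed, so `φ^k x = x y^k`; `k = orderOf φ` odd gives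
`y^k = 1`, and `y` is a 2-element, so `y = 1`.) -/
theorem trivial_of_trivial_on_comm {X : Type u} [Group X] [Finite X] (hX : IsPGroup 2 X)
    (φ : MulAut X) (hodd : Odd (orderOf φ)) (Y : Subgroup X) (hY : ∀ x : X, x⁻¹ * φ x ∈ Y)
    (htriv : ∀ y ∈ Y, φ y = y) : ∀ x : X, φ x = x := by
  exact Cfsg.Agent.Helper11.N9.trivial_of_trivial_on_comm hX φ hodd Y hY htriv

/-- **G1.** `Y` normal, `c ∉ Y`, `c² ∈ Y`, `X = Y⟨c⟩` ⇒ `|X : Y| = 2`. -/
theorem index_two_of_sup_zpowers {X : Type u} [Group X] [Finite X] (Y : Subgroup X) (hYn : Y.Normal)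
    (c : X) (hc : c ∉ Y) (hc2 : c ^ 2 ∈ Y) (htop : Y ⊔ Subgroup.zpowers c = ⊤) : Y.index = 2 := by
  exact Cfsg.Agent.Helper11.N9.index_two_of_sup_zpowers Y hYn c hc hc2 htop

/-- **G2.** In a finite 2-group, an element outside a subgroup `Y` has a power `d` (a `2^m`-th power)
with `d ∉ Y` and `d² ∈ Y`. -/
theorem exists_sq_mem_not_mem {X : Type u} [Group X] [Finite X] (hX : IsPGroup 2 X) (Y : Subgroup X)
    (c : X) (hc : c ∉ Y) : ∃ m : ℕ, c ^ 2 ^ m ∉ Y ∧ (c ^ 2 ^ m) ^ 2 ∈ Y := by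
  exact Cfsg.Agent.Helper11.N9.exists_sq_mem_not_mem hX Y c hc

/-- **I3.** A finite group that is not a 2-group has a nontrivial element of odd order (Cauchy). -/
theorem exists_odd_elt {S : Type u} [Group S] [Finite S] (h : ¬ IsPGroup 2 S) :
    ∃ s : S, s ≠ 1 ∧ Odd (orderOf s) := by
  exact Cfsg.Agent.Helper11.N9.exists_odd_elt h


/-- **V1.** A four-group `Y` on which an automorphism of odd order acts nontrivially has no invariant
subgroup of order 2.  (If `W = {1, w}` is invariant then `φ w = w`; take `y` with `φ y ≠ y`; then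
`φ y = w y`, `φ (w y) = y`, so `φ² y = y` and `φ^odd y = y` give `φ y = y`.) -/
theorem v4_invariant_sub {X : Type u} [Group X] (Y : Subgroup X) (hY : IsV4 Y) (φ : MulAut X)
    (hodd : Odd (orderOf φ)) (hinv : ∀ y ∈ Y, φ y ∈ Y) (hne : ∃ y ∈ Y, φ y ≠ y)
    (W : Subgroup X) (hWY : W ≤ Y) (hW : ∀ w ∈ W, φ w ∈ W) : W = ⊥ ∨ W = Y := by
  exact Cfsg.Agent.Helper58.N9.v4_invariant_sub Y hY φ hodd hinv hne W hWY hW

/-- **V2.** A normal four-group of a 2-group `X` on which an automorphism of `X` of odd order acts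
nontrivially is central.  (`W := Y ⊓ Z(X) ≠ ⊥` as `Y` is a nontrivial normal subgroup of a `p`-group;
`W` is `φ`-invariant (`Z(X)` is characteristic); by V1's argument `W = Y`.) -/
theorem v4_central {X : Type u} [Group X] [Finite X] (hX : IsPGroup 2 X) (Y : Subgroup X)
    (hYn : Y.Normal) (hY : IsV4 Y) (φ : MulAut X) (hodd : Odd (orderOf φ))
    (hinv : ∀ y ∈ Y, φ y ∈ Y) (hne : ∃ y ∈ Y, φ y ≠ y) : Y ≤ Subgroup.center X := by
  exact Cfsg.Agent.Helper58.N9.v4_central hX Y hYn hY φ hodd hinv hne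

/-- **E1.** A central four-group `Y` inside `R` with `NA8 R` is all of `R`.  (If `x ∈ R ∖ Y`, replace
`x` by a `2^m`-th power with `x ∉ Y`, `x² ∈ Y`; `Y ⊔ ⟨x⟩` is abelian of order 8 and not cyclic since
it contains the four-group `Y` -- a cyclic group has at most one involution.) -/
theorem eq_of_central_v4 {X : Type u} [Group X] [Finite X] (hX : IsPGroup 2 X) (Y : Subgroup X)
    (hYc : Y ≤ Subgroup.center X) (hY : IsV4 Y) (R : Subgroup X) (hYR : Y ≤ R) (hR : NA8 R) :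
    R = Y := by
  exact Cfsg.Agent.Helper58.N9.eq_of_central_v4 hX Y hYc hY R hYR hR


/-- **Q1.** `Y ≅ Q8` normal in the 2-group `X`, `φ ∈ Aut X` of odd order leaving `Y` invariant and
acting nontrivially on `Y`, `c ∈ X` with `c⁻¹ φ(c) ∈ Y`.  Then `c` induces an INNER automorphism of
`Y`, i.e. `c y` centralizes `Y` for some `y ∈ Y`.
Proof: `σ := conj by c` on `Y`.  On `Ȳ = Y/Z(Y)` (a four-group) `σ̄` commutes with `φ̄` (because
`φ(c t c⁻¹) = c y₀ φ(t) y₀⁻¹ c⁻¹` with `y₀ = c⁻¹φ(c) ∈ Y`, and inner automorphisms of `Y` are trivial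
on `Ȳ`).  `φ̄ ≠ 1` (an odd-order automorphism of `Y` trivial on `Y/Z(Y)` and on `Z(Y)` is trivial, see
T1).  The fixed points of the 2-element `σ̄` on `Ȳ` are a nontrivial `φ̄`-invariant subgroup, hence all
of `Ȳ` (V1).  So `σ` is trivial mod `Z(Y)`, hence inner
(`Cfsg.Agent.Helper20` `quat_inner_of_trivial` in `Lib/Helper20/LocalIdx.lean`):
`c t c⁻¹ = y₁ t y₁⁻¹` on `Y`, and `y := c⁻¹ y₁⁻¹ c ∈ Y` works. -/
theorem q8_inner_of_comm_mod {X : Type u} [Group X] [Finite X] (hX : IsPGroup 2 X) (Y : Subgroup X)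
    (hYn : Y.Normal) (hY : IsQ8 Y) (φ : MulAut X) (hodd : Odd (orderOf φ))
    (hinv : ∀ y ∈ Y, φ y ∈ Y) (hne : ∃ y ∈ Y, φ y ≠ y) (c : X) (hc : c⁻¹ * φ c ∈ Y) :
    ∃ y ∈ Y, ∀ t ∈ Y, (c * y) * t = t * (c * y) := by
  exact Cfsg.Agent.Helper64.N9.q8_inner_of_comm_mod hX Y hYn hY φ hodd hinv hne c hc

/-- **E2.** `Y ≅ Q8`, `c` centralizes `Y`, `NA8 (Y ⊔ ⟨c⟩)` ⇒ `c ∈ Y`.  (Else replace `c` by a
`2^m`-th power `d ∉ Y`, `d² ∈ Y ∩ C(Y) = Z(Y) = {1, z}`; with `i ∈ Y` of order 4, `⟨i, d⟩` is abelian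
of order 8 with two involutions: `z` and `d` (if `d² = 1`) or `i d` (if `d² = z`).) -/
theorem mem_of_q8_centralizing {X : Type u} [Group X] [Finite X] (hX : IsPGroup 2 X)
    (Y : Subgroup X) (hY : IsQ8 Y) (c : X) (hc : ∀ t ∈ Y, c * t = t * c)
    (hN : NA8 (Y ⊔ Subgroup.zpowers c)) : c ∈ Y := by
  exact Cfsg.Agent.Helper58.N9.mem_of_q8_centralizing hX Y hY c hc hN


/-- **L3a.** An automorphism of odd order of an abelian 2-group fixing all involutions is trivial.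
(Strong induction on `orderOf x`: `φ(x²) = x²` by induction, so `u := x⁻¹ φ x` has `u² = 1`, `φ u = u`,
`φ^k x = x u^k`, `k` odd ⇒ `u = 1`.) -/
theorem trivial_of_fix_involutions {X : Type u} [Group X] [Finite X] (hX : IsPGroup 2 X)
    (hab : ∀ a b : X, a * b = b * a) (φ : MulAut X) (hodd : Odd (orderOf φ))
    (hfix : ∀ x : X, x ^ 2 = 1 → φ x = x) : ∀ x : X, φ x = x := by
  exact Cfsg.Agent.Helper12.N9.trivial_of_fix_involutions hX hab φ hodd hfix

/-- **L3.** An abelian 2-group with `NA8` and a nontrivial automorphism of odd order is a four-group.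
(`Ω = {x | x² = 1}`; by L3a `φ` moves some `u ∈ Ω`, so `|Ω| ≥ 4`; `|Ω| ≥ 8` would give an elementary
abelian subgroup of order 8; so `Ω` is a (central) four-group and E1's argument gives `X = Ω`.) -/
theorem v4_of_abelian {X : Type u} [Group X] [Finite X] (hX : IsPGroup 2 X)
    (hab : ∀ a b : X, a * b = b * a) (hN : NA8 (⊤ : Subgroup X)) (φ : MulAut X)
    (hodd : Odd (orderOf φ)) (hne : ∃ x : X, φ x ≠ x) :
    Nat.card X = 4 ∧ ∀ x : X, x ^ 2 = 1 := by
  exact Cfsg.Agent.Helper12.N9.v4_of_abelian hX hab hN φ hodd hne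

/-- **L2a.** An extraspecial group of order 32 contains a noncyclic abelian subgroup of order 8.
(`Z = ⟨z⟩`; squares and commutators lie in `Z`.  `x ∉ Z`: `C_X(x)` has index ≤ 2 (kernel of
`y ↦ [x,y] ∈ Z`), `P = Z⟨x⟩` has order 4, `y ∈ C_X(x) ∖ P`, `B = P⟨y⟩` abelian of order 8; not cyclic
because every element has order ≤ 4.)  `spData_of_special` (Lib/Helper12/N5SpDataOfSpecial.lean) gives
squares/commutators central. -/
theorem not_na8_of_extraspecial_32 {X : Type u} [Group X] [Finite X]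
    (hX : Cfsg.IsExtraspecial 2 X) (hc : Nat.card X = 32) : ¬ NA8 (⊤ : Subgroup X) := by
  exact Cfsg.Agent.Helper70.N9.not_na8_of_extraspecial_32 hX hc

/-- **L2b.** A 2-group of order > 4 with exactly three involutions, all central, contains a noncyclic
abelian subgroup of order 8.  (The three involutions and 1 form a central four-group `V`; E1's
argument.) -/
theorem not_na8_of_three_central_involutions {X : Type u} [Group X] [Finite X] (hX : IsPGroup 2 X)
    (hc : 4 < Nat.card X) (h3 : Nat.card {x : X // orderOf x = 2} = 3)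
    (hcen : ∀ x : X, orderOf x = 2 → x ∈ Subgroup.center X) : ¬ NA8 (⊤ : Subgroup X) := by
  exact Cfsg.Agent.Helper99.N9.not_na8_of_three_central_involutions hX hc h3 hcen


/-- **I1.** `T ⊴ S` a 2-subgroup properly inside the Sylow 2-subgroup `X`.  With a Hall 2'-subgroup `H`
of the solvable group `S` (`Cfsg.Agent.Helper52.hall_exists_internal`, Lib/Helper52/CoprimeHall.lean),
`R = T ⊔ H = T·H` has order `|T||H|`, so index `|X|/|T| = 2^k ≠ 1`; apply `hmin R`. -/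
theorem na8_core {S : Type u} [Group S] [Finite S] [Group.IsSolvable S]
    (hmin : ∀ R : Subgroup S, R ≠ ⊤ → (∃ k : ℕ, R.index = 2 ^ k) →
      ¬ ∃ A : Subgroup S, A ≤ R ∧ IsMulCommutative ↥A ∧ ¬ IsCyclic ↥A ∧ Nat.card ↥A = 8)
    (X : Sylow 2 S) (T : Subgroup S) (hTn : T.Normal) (hTX : T ≤ (X : Subgroup S))
    (hne : T ≠ (X : Subgroup S)) : NA8 T := by
  exact Cfsg.Agent.Helper94.N9.na8_core hmin X T hTn hTX hne

/-- **I4.** 2-group `X` with a normal self-centralizing four-group `T` and a noncyclic abelian subgroup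
`B` of order 8 is abelian.  (`T ∩ Z(X) ∋ z ≠ 1`; `T = {1,z,a,az}`, the class of `a` lies in `{a, az}`,
so `|X : C_X(a)| ≤ 2` and `C_X(a) = C_X(T) = T`; `|X| ≤ 8`, so `B = ⊤`.) -/
theorem comm_of_v4_selfcentralizing {X : Type u} [Group X] [Finite X] (hX : IsPGroup 2 X)
    (T : Subgroup X) (hTn : T.Normal) (hT : IsV4 T)
    (hC : Subgroup.centralizer (T : Set X) ≤ T) (h8 : ¬ NA8 (⊤ : Subgroup X)) :
    ∀ a b : X, a * b = b * a := by
  exact Cfsg.Agent.Helper94.N9.comm_of_v4_selfcentralizing hX T hTn hT hC h8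

/-- **I5.** A 2-group `X` with a normal self-centralizing `T ≅ Q8` has `NA8`.
(a) `|X : T| ≤ 2`: `X` permutes the three cyclic subgroups of order 4 of `T`; an element fixing all
three acts on `T` as an inner automorphism, so lies in `T·C_X(T) = T`; a 2-subgroup of `Sym(3)` has
order ≤ 2.  (Or: `X/T` embeds in `Aut(T/Z(T)) ≅ S₃`, see `Cfsg.Agent.Helper20` `quat_ker_le`,
`card_mulAut_dvd_six`, `quat_card_quot_center` in Lib/Helper20/LocalIdx.lean.)
(b) If `B ≤ X` were abelian noncyclic of order 8: `B ≠ T`, so `|X| = 16`, `B ∩ T = ⟨i⟩` of order 4,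
`b ∈ B ∖ T` centralizes `i`, is not inner on `T` (else `b ∈ T C_X(T) = T`), so `j^b = j i^{±1}`;
then `b²` acts on `T` like `i`, `b² ∈ i Z(T)`, `b` has order 8 and `B = ⟨b⟩` is cyclic. -/
theorem na8_of_q8_selfcentralizing {X : Type u} [Group X] [Finite X] (hX : IsPGroup 2 X)
    (T : Subgroup X) (hTn : T.Normal) (hT : IsQ8 T)
    (hC : Subgroup.centralizer (T : Set X) ≤ T) : NA8 (⊤ : Subgroup X) := by
  exact Cfsg.Agent.Helper70.N9.na8_of_q8_selfcentralizing hX T hTn hT hC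

/-- **I6.** Transfer to the Sylow 2-subgroup `X` of a normal self-centralizing subgroup `T ≤ X` of `S`
(`T' := T.subgroupOf X`); the noncyclic abelian group of order 8 of `h8` has a conjugate inside `X`
(Sylow). -/
theorem sylow_transfer {S : Type u} [Group S] [Finite S] (X : Sylow 2 S)
    (h8 : ∃ A : Subgroup S, IsMulCommutative ↥A ∧ ¬ IsCyclic ↥A ∧ Nat.card ↥A = 8)
    (T : Subgroup S) (hTn : T.Normal) (hTX : T ≤ (X : Subgroup S))
    (hC : Subgroup.centralizer (T : Set S) ≤ T) :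
    ¬ NA8 (⊤ : Subgroup ↥(X : Subgroup S)) ∧
      ∃ T' : Subgroup ↥(X : Subgroup S), T'.Normal ∧
        Subgroup.centralizer (T' : Set ↥(X : Subgroup S)) ≤ T' ∧
        (IsV4 T → IsV4 T') ∧ (IsQ8 T → IsQ8 T') ∧
        ((∀ a b : ↥(X : Subgroup S), a * b = b * a) → (X : Subgroup S) ≤ T) := by
  exact Cfsg.Agent.Helper32.N9Own.sylow_transfer X h8 T hTn hTX hC


/-- **II4a.** Special nonabelian `X` whose centre has `NA8`, and which contains a noncyclic abelian
subgroup of order 8.  `Z(X)` is elementary abelian (`spData_of_special`, Lib/Helper12), nontrivial, so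
`|Z| ∈ {2, 4}` (order ≥ 8 gives an elementary abelian subgroup of order 8).  If `|Z| = 2`: `8 ∣ |X|`,
`|X| ≠ 8` (else `B = ⊤` is abelian), `|X| ≠ 16`
(`Cfsg.Agent.Helper47...card_ne_16_of_center_two`, Lib/Helper47/N5CardNe16.lean), so `|X| ≥ 32`. -/
theorem special_case {X : Type u} [Group X] [Finite X] (hS : Cfsg.IsSpecial 2 X)
    (hna : ¬ ∀ a b : X, a * b = b * a) (hZ : NA8 (Subgroup.center X))
    (h8 : ¬ NA8 (⊤ : Subgroup X)) :
    (Cfsg.IsExtraspecial 2 X ∧ 32 ≤ Nat.card X) ∨ Nat.card (Subgroup.center X) = 4 := by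
  exact Cfsg.Agent.Helper66.N9.special_case hS hna hZ h8

/-- **II4b.** `V` a central `A`-invariant four-group moved by some `φ ∈ A` of odd order, `X` nonabelian,
and every proper `A`-invariant subgroup has `NA8`.  Then `X` is special with `Z(X) = V`.
(By E1 every proper `A`-invariant `R ≥ V` equals `V`.  `Z(X)` is characteristic, proper, `≥ V`, so
`Z(X) = V`.  `Φ(X) ⊔ V` is `A`-invariant; `= ⊤` would give `V = ⊤` (Frattini = non-generators); so
`Φ(X) ≤ V`.  `1 ≠ X' ≤ Φ(X) ≤ V` is `φ`-invariant, so `X' = V` by V1.  Hence `X' = Φ(X) = Z(X) = V`.) -/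
theorem special_of_central_v4 {X : Type u} [Group X] [Finite X] (hX : IsPGroup 2 X)
    (A : Subgroup (MulAut X)) (hmin : MinH A) (V : Subgroup X) (hV : IsV4 V)
    (hVc : V ≤ Subgroup.center X) (hVinv : AInv A V) (φ : MulAut X) (hφ : φ ∈ A)
    (hodd : Odd (orderOf φ)) (hne : ∃ v ∈ V, φ v ≠ v) (hna : ¬ ∀ a b : X, a * b = b * a) :
    Cfsg.IsSpecial 2 X ∧ Nat.card (Subgroup.center X) = 4 := by
  exact Cfsg.Agent.Helper66.N9.special_of_central_v4 hX A hmin V hV hVc hVinv φ hφ hodd hne hna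


/-- **IIIa.** `X ⊴ S` Sylow 2-subgroup.  Schur–Zassenhaus (`Subgroup.exists_right_complement'_of_coprime`)
gives a complement `H` (odd order); `A :=` image of `H` in `MulAut ↥X` (`MulAut.conjNormal`), of odd
order.  The order-8 subgroup of `h8` is a 2-group, so lies in the normal Sylow `X`.  For a proper
`A`-invariant `R₁ ≤ ↥X`: `R := R₁.map X.subtype ⊔ H` has order `|R₁||H|`, index `|X|/|R₁| = 2^k ≠ 1`;
apply `hmin R`. -/
theorem core_hyps {S : Type u} [Group S] [Finite S]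
    (h8 : ∃ A : Subgroup S, IsMulCommutative ↥A ∧ ¬ IsCyclic ↥A ∧ Nat.card ↥A = 8)
    (hmin : ∀ R : Subgroup S, R ≠ ⊤ → (∃ k : ℕ, R.index = 2 ^ k) →
      ¬ ∃ A : Subgroup S, A ≤ R ∧ IsMulCommutative ↥A ∧ ¬ IsCyclic ↥A ∧ Nat.card ↥A = 8)
    (X : Sylow 2 S) (hXn : (X : Subgroup S).Normal) :
    ∃ A : Subgroup (MulAut ↥(X : Subgroup S)), Odd (Nat.card A) ∧
      ¬ NA8 (⊤ : Subgroup ↥(X : Subgroup S)) ∧ MinH A := by
  exact Cfsg.Agent.Helper94.N9.core_hyps h8 hmin X hXn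

/-- **IIIb.** Transfer of the type-level conclusion for `↥P` to the subgroup-level statement
(third alternative: `X₀ := X₀'.map P.subtype`, `k := 0`). -/
theorem concl_transfer {S : Type u} [Group S] (P : Subgroup S) (h : Concl ↥P) :
    IsMulCommutative ↥P ∨
      (Cfsg.IsExtraspecial 2 ↥P ∧ 32 ≤ Nat.card ↥P) ∨
      (∃ (X₀ : Subgroup S) (k : ℕ), X₀ ≤ P ∧ X₀.relIndex P = 2 ∧
        Nonempty (↥X₀ ≃* QuaternionGroup (2 ^ (k + 1))) ∧
        X₀ ⊔ (P ⊓ Subgroup.centralizer (X₀ : Set S)) = P) ∨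
      (Cfsg.IsSpecial 2 ↥P ∧ Nat.card ↥(Subgroup.center ↥P) = 4) := by
  exact Cfsg.Agent.Helper32.N9Own.concl_transfer P h

end Cfsg.Agent.Helper32.N9Sigs
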