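import Mathlib
import Cfsg.Agent.S1904
import Cfsg.Agent.S0119
import Cfsg.Agent.Lib.Helper54.Solv
import Cfsg.Agent.Lib.Helper32.N9Defs
import Cfsg.Agent.Lib.Helper32.N9Pieces

set_option autoImplicit false

/-!
# Assembly of helper32's lemma server "N9" (row S4409)
-/

namespace Cfsg.Agent.Helper32.N9Asm

open Cfsg
open Cfsg.Agent.Helper32.N9
open Cfsg.Agent.Helper32.N9Sigs
-- END OPENS

universe u

theorem not_isCyclic_of_sq {X : Type u} [Group X] (E : Subgroup X) (hE : ∀ a ∈ E, a ^ 2 = 1)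
    (hc : Nat.card E = 8) : ¬ IsCyclic ↥E := by
  intro hcyc
  have : Finite ↥E := Nat.finite_of_card_ne_zero (by omega)
  obtain ⟨g, hg⟩ := IsCyclic.exists_ofOrder_eq_natCard (α := ↥E)
  have h2 : g ^ 2 = 1 := Subtype.ext (by simpa using hE g g.2)
  have := orderOf_dvd_of_pow_eq_one h2
  rw [hg, hc] at this
  norm_num at this

/-- (L2) nonabelian, `[X, A] = X`, `NA8` ⇒ `Q8` (via S1904). -/
theorem q8_of_nonabelian_comgen {X : Type u} [Group X] [Finite X] (hX : IsPGroup 2 X)
    (hna : ¬ ∀ a b : X, a * b = b * a) (hN : NA8 (⊤ : Subgroup X)) (A : Subgroup (MulAut X))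
    (hA : Odd (Nat.card A)) (hXA : commSub A = ⊤) : Nonempty (X ≃* QuaternionGroup 2) := by
  have hna' : ¬ IsMulCommutative X := fun h => hna (fun a b => h.is_comm.comm a b)
  have hscn : ¬ ∃ A : Subgroup X, A.Normal ∧ Subgroup.centralizer (A : Set X) = A ∧
      ∃ E : Subgroup X, E ≤ A ∧ Cfsg.IsElementaryAbelian 2 E ∧ Nat.card E = 8 := by
    rintro ⟨B, -, -, E, -, ⟨hEc, hE2⟩, hE8⟩
    exact hN ⟨E, le_top, hEc, not_isCyclic_of_sq E hE2 hE8, hE8⟩
  rcases Cfsg.Agent.S1904.result hX hna' hscn A hA hXA with h | ⟨hs, hc, h3, hcen⟩ | ⟨he, hc, -⟩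
  · exact h
  · exact absurd hN (not_na8_of_three_central_involutions hX (by omega) h3 hcen)
  · exact absurd hN (not_na8_of_extraspecial_32 he hc)

theorem card_lt_of_ne_top {X : Type u} [Group X] [Finite X] (Y : Subgroup X) (h : Y ≠ ⊤) :
    Nat.card ↥Y < Nat.card X :=
  lt_of_le_of_ne (Subgroup.card_le_card_group Y) (fun e => h ((Subgroup.card_eq_iff_eq_top Y).mp e))

theorem exists_not_mem_of_ne_top {X : Type u} [Group X] (Y : Subgroup X) (h : Y ≠ ⊤) :
    ∃ x : X, x ∉ Y := by
  by_contra hcon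
  push Not at hcon
  exact h ((Subgroup.eq_top_iff' Y).mpr hcon)

/-- Lemma L, type level, by strong induction on the order. -/
theorem v4_or_q8_aux : ∀ (n : ℕ) (X : Type u) [Group X] [Finite X], Nat.card X = n → IsPGroup 2 X →
    NA8 (⊤ : Subgroup X) → ∀ φ : MulAut X, Odd (orderOf φ) → (∃ x : X, φ x ≠ x) →
    (Nat.card X = 4 ∧ ∀ x : X, x ^ 2 = 1) ∨ Nonempty (X ≃* QuaternionGroup 2) := by
  intro n
  induction n using Nat.strong_induction_on with
  | _ n ih =>
  intro X _ _ hn hX hN φ hodd hne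
  have hφA : φ ∈ Subgroup.zpowers φ := Subgroup.mem_zpowers φ
  have hAodd : Odd (Nat.card (Subgroup.zpowers φ)) := by rw [Nat.card_zpowers]; exact hodd
  obtain ⟨hYn, hYinv⟩ := commSub_normal_ainv (Subgroup.zpowers φ)
  by_cases hYtop : commSub (Subgroup.zpowers φ) = ⊤
  · by_cases hab : ∀ a b : X, a * b = b * a
    · exact Or.inl (v4_of_abelian hX hab hN φ hodd hne)
    · exact Or.inr (q8_of_nonabelian_comgen hX hab hN _ hAodd hYtop)
  · exfalso
    have hφY : ∀ y ∈ commSub (Subgroup.zpowers φ), φ y ∈ commSub (Subgroup.zpowers φ) :=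
      hYinv φ hφA
    have hneY : ∃ y ∈ commSub (Subgroup.zpowers φ), φ y ≠ y := by
      by_contra hcon
      push Not at hcon
      obtain ⟨x, hx⟩ := hne
      exact hx (trivial_of_trivial_on_comm hX φ hodd _ (fun x => mem_commSub _ hφA x) hcon x)
    obtain ⟨φ', hφ', hord⟩ := restrict_aut (commSub (Subgroup.zpowers φ)) φ hφY
    have hodd' : Odd (orderOf φ') := Odd.of_dvd_nat hodd hord
    have hlt : Nat.card ↥(commSub (Subgroup.zpowers φ)) < n := by
      rw [← hn]; exact card_lt_of_ne_top _ hYtop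
    have hNY : NA8 (⊤ : Subgroup ↥(commSub (Subgroup.zpowers φ))) :=
      (na8_top_iff _).mpr (hN.mono le_top)
    have hne' : ∃ y : ↥(commSub (Subgroup.zpowers φ)), φ' y ≠ y := by
      obtain ⟨y, hy, hy2⟩ := hneY
      refine ⟨⟨y, hy⟩, fun h => hy2 ?_⟩
      have := hφ' ⟨y, hy⟩
      rw [h] at this
      exact this.symm
    have hYstr : IsV4 (commSub (Subgroup.zpowers φ)) ∨ IsQ8 (commSub (Subgroup.zpowers φ)) := by
      rcases ih _ hlt _ rfl (hX.to_subgroup _) hNY φ' hodd' hne' with ⟨h4, h2⟩ | h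
      · left
        exact ⟨h4, fun t ht => by simpa using congrArg Subtype.val (h2 ⟨t, ht⟩)⟩
      · right; exact h
    obtain ⟨x, hx⟩ := exists_not_mem_of_ne_top _ hYtop
    rcases hYstr with hV | hQ
    · have hYc := v4_central hX _ hYn hV φ hodd hφY hneY
      have := eq_of_central_v4 hX _ hYc hV ⊤ le_top hN
      exact hYtop this.symm
    · obtain ⟨y, hy, hcent⟩ :=
        q8_inner_of_comm_mod hX _ hYn hQ φ hodd hφY hneY x (mem_commSub _ hφA x)
      have hc' : x * y ∉ commSub (Subgroup.zpowers φ) := by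
        intro h
        have h2 := Subgroup.mul_mem _ h (Subgroup.inv_mem _ hy)
        rw [mul_inv_cancel_right] at h2
        exact hx h2
      exact hc' (mem_of_q8_centralizing hX _ hQ (x * y) hcent (hN.mono le_top))

/-- Lemma L for an invariant subgroup. -/
theorem v4_or_q8_sub {G : Type u} [Group G] [Finite G] (T : Subgroup G) (hT : IsPGroup 2 T)
    (hN : NA8 T) (φ : MulAut G) (hodd : Odd (orderOf φ)) (hinv : ∀ t ∈ T, φ t ∈ T)
    (hne : ∃ t ∈ T, φ t ≠ t) : IsV4 T ∨ IsQ8 T := by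
  obtain ⟨φ', hφ', hord⟩ := restrict_aut T φ hinv
  have hodd' : Odd (orderOf φ') := Odd.of_dvd_nat hodd hord
  have hne' : ∃ y : ↥T, φ' y ≠ y := by
    obtain ⟨y, hy, hy2⟩ := hne
    refine ⟨⟨y, hy⟩, fun h => hy2 ?_⟩
    have := hφ' ⟨y, hy⟩
    rw [h] at this
    exact this.symm
  rcases v4_or_q8_aux _ ↥T rfl hT ((na8_top_iff T).mpr hN) φ' hodd' hne' with ⟨h4, h2⟩ | h
  · left
    exact ⟨h4, fun t ht => by simpa using congrArg Subtype.val (h2 ⟨t, ht⟩)⟩
  · right; exact h

/-! ## Part I -/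

theorem sylow_normal {S : Type u} [Group S] [Finite S] [Group.IsSolvable S]
    (hO : Cfsg.pPrimeCore 2 S = ⊥)
    (h8 : ∃ A : Subgroup S, IsMulCommutative ↥A ∧ ¬ IsCyclic ↥A ∧ Nat.card ↥A = 8)
    (hmin : ∀ R : Subgroup S, R ≠ ⊤ → (∃ k : ℕ, R.index = 2 ^ k) →
      ¬ ∃ A : Subgroup S, A ≤ R ∧ IsMulCommutative ↥A ∧ ¬ IsCyclic ↥A ∧ Nat.card ↥A = 8)
    (X : Sylow 2 S) : (X : Subgroup S).Normal := by
  have : Fact (Nat.Prime 2) := ⟨Nat.prime_two⟩
  have hT2 : IsPGroup 2 (Cfsg.pCore 2 S) := Cfsg.Agent.Helper54.isPGroup_pCore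
  have hTn : (Cfsg.pCore 2 S).Normal := by
    unfold Cfsg.pCore
    exact Subgroup.sSup_normal _ (fun N hN => hN.1)
  have hTX : Cfsg.pCore 2 S ≤ (X : Subgroup S) := Cfsg.Agent.Helper54.pCore_le_sylow X
  have hC : Subgroup.centralizer (Cfsg.pCore 2 S : Set S) ≤ Cfsg.pCore 2 S :=
    Cfsg.Agent.Helper54.centralizer_pCore_le 2 hO
  by_cases hTeq : Cfsg.pCore 2 S = (X : Subgroup S)
  · rw [← hTeq]; exact hTn
  exfalso
  have hNT : NA8 (Cfsg.pCore 2 S) := na8_core hmin X _ hTn hTX hTeq
  have hS2 : ¬ IsPGroup 2 S := by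
    intro h
    have h1 : (⊤ : Subgroup S) ≤ Cfsg.pCore 2 S :=
      Cfsg.Agent.Helper54.le_pCore inferInstance (h.to_subgroup ⊤)
    exact hTeq (le_antisymm hTX (le_top.trans h1))
  obtain ⟨s, hs1, hsodd⟩ := exists_odd_elt hS2
  have hsT : s ∉ Cfsg.pCore 2 S := by
    intro hs
    obtain ⟨k, hk⟩ := (IsPGroup.iff_orderOf.mp hT2) ⟨s, hs⟩
    rw [Subgroup.orderOf_mk] at hk
    rw [hk] at hsodd
    rcases Nat.eq_zero_or_pos k with h0 | hpos
    · subst h0
      rw [pow_zero, orderOf_eq_one_iff] at hk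
      exact hs1 hk
    · have : Even (2 ^ k) := (Nat.even_pow.mpr ⟨even_two, hpos.ne'⟩)
      exact (Nat.not_even_iff_odd.mpr hsodd) this
  have hsC : s ∉ Subgroup.centralizer (Cfsg.pCore 2 S : Set S) := fun h => hsT (hC h)
  have hmove : ∃ t ∈ Cfsg.pCore 2 S, MulAut.conj s t ≠ t := by
    by_contra hcon
    push Not at hcon
    apply hsC
    rw [Subgroup.mem_centralizer_iff]
    intro t ht
    have := hcon t ht
    rw [MulAut.conj_apply] at this
    calc t * s = (s * t * s⁻¹) * s := by rw [this]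
      _ = s * t := by group
  have hoddφ : Odd (orderOf (MulAut.conj s)) :=
    Odd.of_dvd_nat hsodd (orderOf_map_dvd MulAut.conj s)
  have hinv : ∀ t ∈ Cfsg.pCore 2 S, MulAut.conj s t ∈ Cfsg.pCore 2 S := fun t ht => by
    rw [MulAut.conj_apply]; exact hTn.conj_mem t ht s
  obtain ⟨h8X, T', hT'n, hC', hV', hQ', hab'⟩ := sylow_transfer X h8 _ hTn hTX hC
  have hX2 : IsPGroup 2 ↥(X : Subgroup S) := X.isPGroup'
  rcases v4_or_q8_sub _ hT2 hNT (MulAut.conj s) hoddφ hinv hmove with hV | hQ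
  · have := comm_of_v4_selfcentralizing hX2 T' hT'n (hV' hV) hC' h8X
    exact hTeq (le_antisymm hTX (hab' this))
  · exact h8X (na8_of_q8_selfcentralizing hX2 T' hT'n (hQ' hQ) hC')

/-! ## Part II -/

theorem ainv_of_char {X : Type u} [Group X] (A : Subgroup (MulAut X)) (H : Subgroup X)
    (hH : H.Characteristic) : AInv A H := by
  intro φ _ x hx
  exact Subgroup.characteristic_iff_map_le.mp hH φ (Subgroup.mem_map_of_mem _ hx)

theorem concl_core {X : Type u} [Group X] [Finite X] (hX : IsPGroup 2 X)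
    (A : Subgroup (MulAut X)) (hA : Odd (Nat.card A)) (h8 : ¬ NA8 (⊤ : Subgroup X))
    (hmin : MinH A) : Concl X := by
  have : Fact (Nat.Prime 2) := ⟨Nat.prime_two⟩
  obtain ⟨hYn, hYinv⟩ := commSub_normal_ainv A
  have hoddA : ∀ φ ∈ A, Odd (orderOf φ) := by
    intro φ hφ
    have h1 : orderOf φ ∣ Nat.card A := by
      have := orderOf_dvd_natCard (⟨φ, hφ⟩ : A)
      rwa [Subgroup.orderOf_mk] at this
    exact Odd.of_dvd_nat hA h1
  by_cases hab : ∀ a b : X, a * b = b * a
  · exact Or.inl ⟨⟨hab⟩⟩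
  by_cases hYtop : commSub A = ⊤
  · -- `[X, A] = X`
    have hcop : Nat.Coprime (Nat.card A) 2 := Nat.Coprime.symm (Nat.coprime_two_left.mpr hA)
    have hGA : Subgroup.closure {x : X | ∃ g : X, ∃ a ∈ A, x = g⁻¹ * a g} = ⊤ := by
      rw [← hYtop]
      unfold commSub
      congr 1
      ext x
      constructor
      · rintro ⟨g, a, ha, rfl⟩; exact ⟨a, ha, g, rfl⟩
      · rintro ⟨a, ha, g, rfl⟩; exact ⟨g, a, ha, rfl⟩
    by_cases hchar : ∀ H : Subgroup X, H.Characteristic → IsMulCommutative H →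
        ∀ a ∈ A, ∀ h ∈ H, a h = h
    · obtain ⟨hS, -⟩ := Cfsg.Agent.S0119.result hX A hcop hGA hchar
      have hZinv : AInv A (Subgroup.center X) := ainv_of_char A _ inferInstance
      have hZne : Subgroup.center X ≠ ⊤ := by
        intro h
        apply hab
        intro a b
        have hb : b ∈ Subgroup.center X := h ▸ Subgroup.mem_top b
        exact (Subgroup.mem_center_iff.mp hb a)
      rcases special_case hS hab (hmin _ hZne hZinv) h8 with h | h
      · exact Or.inr (Or.inl h)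
      · exact Or.inr (Or.inr (Or.inr ⟨hS, h⟩))
    · push Not at hchar
      obtain ⟨H, hHc, hHab, a, ha, h, hh, hne⟩ := hchar
      have hHinv : AInv A H := ainv_of_char A H hHc
      have hHtop : H ≠ ⊤ := by
        intro e
        apply hab
        intro x y
        have := hHab.is_comm.comm (⟨x, e ▸ Subgroup.mem_top x⟩ : H) ⟨y, e ▸ Subgroup.mem_top y⟩
        exact congrArg Subtype.val this
      have hNH : NA8 H := hmin H hHtop hHinv
      obtain ⟨a', ha', hord⟩ := restrict_aut H a (hHinv a ha)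
      have hodd' : Odd (orderOf a') := Odd.of_dvd_nat (hoddA a ha) hord
      have hne' : ∃ y : ↥H, a' y ≠ y := by
        refine ⟨⟨h, hh⟩, fun e => hne ?_⟩
        have := ha' ⟨h, hh⟩
        rw [e] at this
        exact this.symm
      obtain ⟨h4, h2⟩ := v4_of_abelian (hX.to_subgroup H) (fun x y => hHab.is_comm.comm x y)
        ((na8_top_iff H).mpr hNH) a' hodd' hne'
      have hV : IsV4 H :=
        ⟨h4, fun t ht => by simpa using congrArg Subtype.val (h2 ⟨t, ht⟩)⟩
      have hHn : H.Normal := inferInstance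
      have hHcen := v4_central hX H hHn hV a (hoddA a ha) (hHinv a ha) ⟨h, hh, hne⟩
      exact Or.inr (Or.inr (Or.inr (special_of_central_v4 hX A hmin H hV hHcen hHinv a ha
        (hoddA a ha) ⟨h, hh, hne⟩ hab)))
  · -- `[X, A]` proper
    have hNY : NA8 (commSub A) := hmin _ hYtop hYinv
    by_cases htriv : ∀ φ ∈ A, ∀ x : X, φ x = x
    · exfalso
      apply h8
      rintro ⟨B, -, hBc, hBn, hB8⟩
      have hBtop : B = ⊤ := by
        by_contra hB
        exact hmin B hB (fun φ hφ x hx => by rw [htriv φ hφ x]; exact hx)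
          ⟨B, le_rfl, hBc, hBn, hB8⟩
      apply hab
      intro x y
      have := hBc.is_comm.comm (⟨x, hBtop ▸ Subgroup.mem_top x⟩ : B)
        ⟨y, hBtop ▸ Subgroup.mem_top y⟩
      exact congrArg Subtype.val this
    · push Not at htriv
      obtain ⟨φ, hφ, x₀, hx₀⟩ := htriv
      have hodd := hoddA φ hφ
      have hφY : ∀ y ∈ commSub A, φ y ∈ commSub A := hYinv φ hφ
      have hneY : ∃ y ∈ commSub A, φ y ≠ y := by
        by_contra hcon
        push Not at hcon
        exact hx₀ (trivial_of_trivial_on_comm hX φ hodd _ (fun x => mem_commSub A hφ x) hcon x₀)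
      obtain ⟨x, hx⟩ := exists_not_mem_of_ne_top _ hYtop
      have hRinv : ∀ R : Subgroup X, commSub A ≤ R → R ≠ ⊤ → NA8 R := fun R hYR hR =>
        hmin R hR (ainv_of_commSub_le A hYR)
      rcases v4_or_q8_sub _ (hX.to_subgroup _) hNY φ hodd hφY hneY with hV | hQ
      · -- four-group: `X` abelian
        exfalso
        have hYc := v4_central hX _ hYn hV φ hodd hφY hneY
        have htop : commSub A ⊔ Subgroup.zpowers x = ⊤ := by
          by_contra hR
          have h1 := eq_of_central_v4 hX _ hYc hV _ le_sup_left (hRinv _ le_sup_left hR)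
          have h2 : x ∈ commSub A ⊔ Subgroup.zpowers x :=
            (le_sup_right : Subgroup.zpowers x ≤ _) (Subgroup.mem_zpowers x)
          rw [h1] at h2
          exact hx h2
        have hxc : x ∈ Subgroup.center X := by
          have hle : commSub A ⊔ Subgroup.zpowers x ≤ Subgroup.centralizer {x} := by
            apply sup_le
            · intro y hy
              rw [Subgroup.mem_centralizer_iff]
              intro g hg
              rw [Set.mem_singleton_iff] at hg
              subst hg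
              exact (Subgroup.mem_center_iff.mp (hYc hy) g)
            · rw [Subgroup.zpowers_le, Subgroup.mem_centralizer_iff]
              intro g hg
              rw [Set.mem_singleton_iff] at hg
              subst hg
              rfl
          rw [htop] at hle
          rw [Subgroup.mem_center_iff]
          intro g
          have := hle (Subgroup.mem_top g)
          rw [Subgroup.mem_centralizer_iff] at this
          exact (this x rfl).symm
        have hall : (⊤ : Subgroup X) ≤ Subgroup.center X := by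
          rw [← htop]
          exact sup_le hYc (by rw [Subgroup.zpowers_le]; exact hxc)
        apply hab
        intro a b
        exact (Subgroup.mem_center_iff.mp (hall (Subgroup.mem_top b)) a)
      · -- quaternion: third alternative
        obtain ⟨d, hd1, hd2⟩ : ∃ d : X, d ∉ commSub A ∧ d ^ 2 ∈ commSub A := by
          obtain ⟨m, h1, h2⟩ := exists_sq_mem_not_mem hX _ x hx
          exact ⟨_, h1, h2⟩
        obtain ⟨y, hy, hcent⟩ := q8_inner_of_comm_mod hX _ hYn hQ φ hodd hφY hneY d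
          (mem_commSub A hφ _)
        have hc1 : d * y ∉ commSub A := by
          intro h
          have h2 := Subgroup.mul_mem _ h (Subgroup.inv_mem _ hy)
          rw [mul_inv_cancel_right] at h2
          exact hd1 h2
        have hc2 : (d * y) ^ 2 ∈ commSub A := by
          have e : (d * y) ^ 2 = d ^ 2 * (d⁻¹ * y * d⁻¹⁻¹) * y := by
            rw [pow_two, pow_two, inv_inv]; group
          rw [e]
          exact Subgroup.mul_mem _ (Subgroup.mul_mem _ hd2 (hYn.conj_mem y hy _)) hy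
        have htop : commSub A ⊔ Subgroup.zpowers (d * y) = ⊤ := by
          by_contra hR
          exact hc1 (mem_of_q8_centralizing hX _ hQ _ hcent (hRinv _ le_sup_left hR))
        refine Or.inr (Or.inr (Or.inl ⟨commSub A,
          index_two_of_sup_zpowers _ hYn _ hc1 hc2 htop, hQ, ?_⟩))
        rw [eq_top_iff, ← htop]
        apply sup_le le_sup_left
        refine le_trans ?_ le_sup_right
        rw [Subgroup.zpowers_le, Subgroup.mem_centralizer_iff]
        intro t ht
        exact (hcent t ht).symm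

/-! ## Final -/

theorem main {S : Type u} [Group S] [Finite S] [Group.IsSolvable S]
    (hO : Cfsg.pPrimeCore 2 S = ⊥)
    (h8 : ∃ A : Subgroup S, IsMulCommutative ↥A ∧ ¬ IsCyclic ↥A ∧ Nat.card ↥A = 8)
    (hmin : ∀ R : Subgroup S, R ≠ ⊤ → (∃ k : ℕ, R.index = 2 ^ k) →
      ¬ ∃ A : Subgroup S, A ≤ R ∧ IsMulCommutative ↥A ∧ ¬ IsCyclic ↥A ∧ Nat.card ↥A = 8)
    (X : Sylow 2 S) :
    (X : Subgroup S).Normal ∧
      (IsMulCommutative ↥(X : Subgroup S) ∨
        (Cfsg.IsExtraspecial 2 ↥(X : Subgroup S) ∧ 32 ≤ Nat.card ↥(X : Subgroup S)) ∨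
        (∃ (X₀ : Subgroup S) (k : ℕ), X₀ ≤ (X : Subgroup S) ∧ X₀.relIndex (X : Subgroup S) = 2 ∧
          Nonempty (↥X₀ ≃* QuaternionGroup (2 ^ (k + 1))) ∧
          X₀ ⊔ ((X : Subgroup S) ⊓ Subgroup.centralizer (X₀ : Set S)) = (X : Subgroup S)) ∨
        (Cfsg.IsSpecial 2 ↥(X : Subgroup S) ∧
          Nat.card ↥(Subgroup.center ↥(X : Subgroup S)) = 4)) := by
  have hXn := sylow_normal hO h8 hmin X
  refine ⟨hXn, ?_⟩
  obtain ⟨A, hA, h8X, hminX⟩ := core_hyps h8 hmin X hXn
  exact concl_transfer (X : Subgroup S) (concl_core X.isPGroup' A hA h8X hminX)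

end Cfsg.Agent.Helper32.N9Asm
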