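import Mathlib
import Cfsg.Agent.Lib.Helper17.PrimeTIOrders
import Cfsg.Agent.Lib.Helper17.PrimeTIApp
import Cfsg.Agent.Lib.Helper79.Codegree

/-!
# No simple group of order `4960 = 2^5 * 5 * 31` (piece N4960 of helper17's server O6232, S0983)

`n_31 = 32` is forced, so a Sylow `31`-subgroup `P` is self-centralizing with `|N(P)| = 31 * 5`.
The degree equation for `p = 31`, `e = 5`, `t = 6` (helper17's `prime_degree_equation`) reads
`6 * ∑ a² + w² = 31`, `∑ a * deg + d * w = 0`. Every non-exceptional `ψ ≠ 1` has `a ψ = 0` or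
(`a ψ = 1` and `deg ψ = 32`): the residues of the divisors of `4960` modulo `31` exclude
`a = -1, -2`, and `a = 2` forces `deg ψ = 2 = ψ(k)`, i.e. `P ≤ ker ψ`. So with `A` the number of
characters of the second kind, `6 (1 + A) + w² = 31` and `1 + 32 A + d w = 0`: `A = 0` gives
`w = ± 5`, impossible, and `A = 4` gives `d = 129`, which does not divide `4960`.
-/

set_option autoImplicit false
set_option linter.style.haveILetI false
set_option linter.unusedSectionVars false
set_option linter.unusedVariables false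

namespace Cfsg.Agent.Helper32.O6232

open Cfsg

universe u

theorem h32_count4960_aux : ∀ n ∈ Nat.divisors 160, n % 31 = 1 → n ≠ 1 → n * 5 = 160 := by
  decide +kernel

theorem h32_deg4960_aux : ∀ x ∈ Nat.divisors 4960, 1 < x →
    (x % 31 = 1 → x = 32) ∧ (x % 31 = 30 → False) ∧ (x % 31 = 2 → x = 2) ∧
      (x % 31 = 29 → False) := by
  decide +kernel

theorem h32_not_129_dvd : ¬ (129 ∣ 4960) := by decide

/-- (N4960) No simple group has order `4960 = 2^5 * 5 * 31`. -/
theorem no_4960 {G : Type u} [Group G] [Finite G] [IsSimpleGroup G] : Nat.card G ≠ 4960 := by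
  classical
  intro hG
  have : Fact (Nat.Prime 31) := ⟨by norm_num⟩
  have := Fintype.ofFinite G
  obtain ⟨P⟩ : Nonempty (Sylow 31 G) := inferInstance
  obtain ⟨hP, hN, hC⟩ := Cfsg.Agent.Helper17.PrimeTI.forced_sylow 31 160 5 (by norm_num)
    (by rw [hG]) (by norm_num) (by norm_num)
    (fun n hn => h32_count4960_aux n (Nat.mem_divisors.2 ⟨hn, by norm_num⟩)) P
  have hperf : commutator G = ⊤ :=
    Cfsg.Agent.Helper17.PrimeTI.perfect_of_simple (by rw [hG]; norm_num)
  obtain ⟨w, d, E, a, hEcard, hEdeg, hEne, haE, haK, hcong, hnorm, hdegeq⟩ :=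
    Cfsg.Agent.Helper17.PrimeTI.prime_degree_equation (P : Subgroup G) 31 5 6 hP hC hN
      (by norm_num) (by norm_num) (by norm_num)
  set ψ1 : IrrCharacter G := ⟨fun _ => 1, Cfsg.Agent.Helper81.isIrrCharacter_one⟩ with hψ1
  have hψ1E : ψ1 ∉ E := fun h => hEne ψ1 h rfl
  obtain ⟨k, hk, hk1⟩ :=
    Cfsg.Agent.Helper17.PrimeTI.exists_ne_one_of_prime_card (P : Subgroup G) hP
  have ha1 : a ψ1 = 1 := by
    have h := haK ψ1 hψ1E k hk hk1
    have h' : ((1 : ℤ) : ℂ) = ((a ψ1 : ℤ) : ℂ) := by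
      rw [← h]; simp [hψ1]
    exact_mod_cast h'.symm
  have hdeg1 : charDegree (ψ1 : G → ℂ) = 1 := Cfsg.Agent.Helper17.PrimeTI.charDegree_one
  have hd : d ∣ Nat.card G := by
    obtain ⟨ψ, hψ⟩ := Finset.card_pos.1 (by omega : 0 < E.card)
    rw [← hEdeg ψ hψ]
    exact Cfsg.Agent.Helper79.irr_degree_dvd_card ψ
  have hsplit1 := Finset.add_sum_erase Finset.univ (fun ψ => (a ψ) ^ 2) (Finset.mem_univ ψ1)
  have hsplit2 := Finset.add_sum_erase Finset.univ
    (fun ψ => a ψ * (charDegree (ψ : G → ℂ) : ℤ)) (Finset.mem_univ ψ1)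
  simp only [ha1, hdeg1] at hsplit1 hsplit2
  have hrest : 0 ≤ ∑ ψ ∈ Finset.univ.erase ψ1, (a ψ) ^ 2 :=
    Finset.sum_nonneg (fun i _ => sq_nonneg _)
  rw [← hsplit1] at hnorm
  rw [← hsplit2] at hdegeq
  -- the key dichotomy
  have hkey : ∀ ψ ∈ Finset.univ.erase ψ1,
      a ψ = 0 ∨ (a ψ = 1 ∧ charDegree (ψ : G → ℂ) = 32) := by
    intro ψ hψ
    have hne : ψ ≠ ψ1 := (Finset.mem_erase.1 hψ).1
    by_cases hE : ψ ∈ E
    · left; exact haE ψ hE
    · have hle : (a ψ) ^ 2 ≤ ∑ χ ∈ Finset.univ.erase ψ1, (a χ) ^ 2 :=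
        Finset.single_le_sum (f := fun χ => (a χ) ^ 2) (fun i _ => sq_nonneg _) hψ
      have hb : (a ψ) ^ 2 ≤ 4 := by
        have hw0 := sq_nonneg w
        push_cast at hnorm
        nlinarith
      have hdvd := Cfsg.Agent.Helper79.irr_degree_dvd_card ψ
      have hpos := (Cfsg.Agent.Helper79.irr_one_eq ψ).2
      have hx1 : charDegree (ψ : G → ℂ) ≠ 1 := by
        intro h
        apply hne
        apply Subtype.ext
        exact Cfsg.Agent.Helper17.PrimeTI.linear_trivial_of_perfect hperf ψ h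
      have hc := hcong ψ hE
      rw [hG] at hdvd
      have hmem : charDegree (ψ : G → ℂ) ∈ Nat.divisors 4960 :=
        Nat.mem_divisors.2 ⟨hdvd, by norm_num⟩
      obtain ⟨h1, h2, h3, h4⟩ := h32_deg4960_aux _ hmem (by omega)
      have hlo : -2 ≤ a ψ := by nlinarith
      have hhi : a ψ ≤ 2 := by nlinarith
      have hcases : a ψ = -2 ∨ a ψ = -1 ∨ a ψ = 0 ∨ a ψ = 1 ∨ a ψ = 2 := by omega
      push_cast at hc
      rcases hcases with h | h | h | h | h
      · exfalso; rw [h] at hc; exact h4 (by omega)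
      · exfalso; rw [h] at hc; exact h2 (by omega)
      · left; exact h
      · right; rw [h] at hc; exact ⟨h, h1 (by omega)⟩
      · exfalso
        rw [h] at hc
        have hdeg2 : charDegree (ψ : G → ℂ) = 2 := h3 (by omega)
        -- `k` lies in the kernel of `ψ`
        have hkker : k ∈ Cfsg.Agent.Helper79.irrKer ψ := by
          rw [Cfsg.Agent.Helper79.mem_irrKer, (Cfsg.Agent.Helper79.irr_one_eq ψ).1, hdeg2,
            haK ψ hE k hk hk1, h]
          norm_num
        have hnorm' : (Cfsg.Agent.Helper79.irrKer ψ).Normal := inferInstance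
        rcases hnorm'.eq_bot_or_eq_top with hbot | htop
        · rw [hbot, Subgroup.mem_bot] at hkker
          exact hk1 hkker
        · have hidx := Cfsg.Agent.Helper79.degree_dvd_index_irrKer ψ
          rw [htop, Subgroup.index_top, hdeg2] at hidx
          omega
  -- rewrite the two sums
  have hS1 : ∑ ψ ∈ Finset.univ.erase ψ1, (a ψ) ^ 2 = ∑ ψ ∈ Finset.univ.erase ψ1, a ψ := by
    apply Finset.sum_congr rfl
    intro ψ hψ
    rcases hkey ψ hψ with h | ⟨h, _⟩ <;> rw [h] <;> norm_num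
  have hS2 : ∑ ψ ∈ Finset.univ.erase ψ1, a ψ * (charDegree (ψ : G → ℂ) : ℤ) =
      32 * ∑ ψ ∈ Finset.univ.erase ψ1, a ψ := by
    rw [Finset.mul_sum]
    apply Finset.sum_congr rfl
    intro ψ hψ
    rcases hkey ψ hψ with h | ⟨h, h'⟩
    · rw [h]; ring
    · rw [h, h']; norm_num
  rw [hS1] at hnorm hrest
  rw [hS2] at hdegeq
  set A : ℤ := ∑ ψ ∈ Finset.univ.erase ψ1, a ψ with hA
  push_cast at hnorm hdegeq
  have hd0 : (0 : ℤ) ≤ d := by positivity
  have hA4 : A ≤ 4 := by nlinarith [sq_nonneg w]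
  have hwlo : -5 ≤ w := by nlinarith
  have hwhi : w ≤ 5 := by nlinarith
  have hAc : A = 0 ∨ A = 1 ∨ A = 2 ∨ A = 3 ∨ A = 4 := by omega
  have hwc : w = -5 ∨ w = -4 ∨ w = -3 ∨ w = -2 ∨ w = -1 ∨ w = 0 ∨ w = 1 ∨ w = 2 ∨ w = 3 ∨
      w = 4 ∨ w = 5 := by omega
  rcases hAc with hA' | hA' | hA' | hA' | hA' <;> rw [hA'] at hnorm hdegeq <;>
    rcases hwc with hw | hw | hw | hw | hw | hw | hw | hw | hw | hw | hw <;>
    rw [hw] at hnorm hdegeq <;> norm_num at hnorm <;> try omega
  -- remaining: A = 4, w = -1, d = 129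
  all_goals
    have hd129 : d = 129 := by omega
    rw [hd129, hG] at hd
    exact h32_not_129_dvd hd

end Cfsg.Agent.Helper32.O6232
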