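import Mathlib
import Cfsg.Agent.Lib.Helper62.SLN0

/-!
# SLC project (sub-server of helper62's SLN server, piece TOP-C of S2332): definitions

`IsSig jn σ`: the automorphism `σ g = P (g⁻¹)ᵀ P⁻¹` of `SL (Unit ⊕ κ) F` (`P` the signed swap of
`e_1 = inl ()` and `e_jn`) on the elementary generators.  With `ρ' = ρ.comp σ` the weight spaces of
`U` for `ρ'` are the weight spaces for `ρ` of the column group `U* = {1 + y e_jnᵀ}`.
-/

set_option autoImplicit false

namespace Cfsg.Agent.Helper32.SLC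

open Matrix Cfsg.Agent.Helper93.U2 Cfsg.Agent.Helper62.SLN

variable {F : Type*} [Field F] {κ : Type} [Fintype κ] [DecidableEq κ]

/-- the values of the automorphism `σ` on elementary matrices:
`X_{1,jn}(s) ↦ X_{1,jn}(s)`, `X_{1,b}(s) ↦ X_{b,jn}(-s)`, `X_{i,jn}(s) ↦ X_{1,i}(s)`,
`X_{i,b}(s) ↦ X_{b,i}(-s)` (`i, b ∈ κ \ {jn}`). -/
structure IsSig (jn : κ)
    (σ : SpecialLinearGroup (Unit ⊕ κ) F ≃* SpecialLinearGroup (Unit ⊕ κ) F) : Prop where
  a : ∀ s : F, σ (uEl (s • Pi.single jn 1)) = uEl (s • Pi.single jn 1)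
  b : ∀ (b : κ) (s : F), b ≠ jn → σ (uEl (s • Pi.single b 1)) = qEl b ((-s) • Pi.single jn 1)
  c : ∀ (i : κ) (s : F), i ≠ jn → σ (qEl i (s • Pi.single jn 1)) = uEl (s • Pi.single i 1)
  d : ∀ (i b : κ) (s : F), i ≠ b → i ≠ jn → b ≠ jn →
    σ (qEl i (s • Pi.single b 1)) = qEl b ((-s) • Pi.single i 1)

/-- `R_2 = U_0 × Q` (as a set of generators) -/
def R2set (j : κ) : Set (SpecialLinearGroup (Unit ⊕ κ) F) := U0set (F := F) j ∪ Qset (F := F) j

end Cfsg.Agent.Helper32.SLC
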