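import Mathlib
import Cfsg.Agent.Lib.Helper98.SPE0

/-!
# SPE (S2333) piece K8: the double count, with the other pieces as hypotheses (core)
-/

set_option autoImplicit false

namespace Cfsg.Agent.Helper32.SPE

open Matrix Cfsg.Agent.Helper98.SPE

variable {F : Type*} [Field F] [Fintype F] {n : ℕ}

/-- Double count of `T = {(S', (x', y')) | S' ∈ O, qv S' x' = a, qv S' y' = c, bv S' x' y' = b}`:
`hlow` bounds every fibre over an independent pair from below, `hup` bounds every fibre over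
`S' ∈ O` from above. -/
theorem h32_orbit_bound_core (q : ℕ) (hq1 : 0 < q)
    (O : Set (Matrix (Fin n) (Fin n) F)) (a b c : F) (N R I : ℕ)
    (hlow : ∀ x' y' : Fin n → F, LinearIndependent F ![x', y'] →
      q ^ (2 * n) ≤ q ^ 4 *
        {S' ∈ O | qv S' x' = a ∧ qv S' y' = c ∧ bv S' x' y' = b}.ncard)
    (hup : ∀ S' ∈ O,
      {xy : (Fin n → F) × (Fin n → F) |
        qv S' xy.1 = a ∧ qv S' xy.2 = c ∧ bv S' xy.1 xy.2 = b}.ncard * q ^ 4
        ≤ R * N * q ^ (2 * n))
    (hI : {xy : (Fin n → F) × (Fin n → F) | LinearIndependent F ![xy.1, xy.2]}.ncard = I) :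
    I ≤ R * N * O.ncard := by
  classical
  -- the indicator of `T`
  set f : Matrix (Fin n) (Fin n) F → (Fin n → F) × (Fin n → F) → ℕ := fun S' xy =>
    if S' ∈ O ∧ qv S' xy.1 = a ∧ qv S' xy.2 = c ∧ bv S' xy.1 xy.2 = b then 1 else 0 with hf
  -- fibres over pairs
  have hfib1 : ∀ xy : (Fin n → F) × (Fin n → F),
      ∑ S', f S' xy =
        {S' ∈ O | qv S' xy.1 = a ∧ qv S' xy.2 = c ∧ bv S' xy.1 xy.2 = b}.ncard := by
    intro xy
    have hset : {S' ∈ O | qv S' xy.1 = a ∧ qv S' xy.2 = c ∧ bv S' xy.1 xy.2 = b} =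
        ↑(Finset.univ.filter (fun S' : Matrix (Fin n) (Fin n) F =>
          S' ∈ O ∧ qv S' xy.1 = a ∧ qv S' xy.2 = c ∧ bv S' xy.1 xy.2 = b)) := by
      ext S'
      simp
    rw [hset, Set.ncard_coe_finset, Finset.card_filter]
  -- fibres over matrices
  have hfib2 : ∀ S' : Matrix (Fin n) (Fin n) F,
      (∑ xy, f S' xy) * q ^ 4 ≤ if S' ∈ O then R * N * q ^ (2 * n) else 0 := by
    intro S'
    by_cases hS : S' ∈ O
    · rw [if_pos hS]
      have hset : {xy : (Fin n → F) × (Fin n → F) |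
          qv S' xy.1 = a ∧ qv S' xy.2 = c ∧ bv S' xy.1 xy.2 = b} =
          ↑(Finset.univ.filter (fun xy : (Fin n → F) × (Fin n → F) =>
            S' ∈ O ∧ qv S' xy.1 = a ∧ qv S' xy.2 = c ∧ bv S' xy.1 xy.2 = b)) := by
        ext xy
        simp [hS]
      have h := hup S' hS
      rw [hset, Set.ncard_coe_finset, Finset.card_filter] at h
      exact h
    · rw [if_neg hS]
      have : ∑ xy, f S' xy = 0 := by
        apply Finset.sum_eq_zero
        intro xy _
        simp [hf, hS]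
      rw [this, zero_mul]
  -- the set of independent pairs as a finset
  set Ind : Finset ((Fin n → F) × (Fin n → F)) :=
    Finset.univ.filter (fun xy => LinearIndependent F ![xy.1, xy.2]) with hInd
  have hIcard : Ind.card = I := by
    rw [← hI]
    have hset : {xy : (Fin n → F) × (Fin n → F) | LinearIndependent F ![xy.1, xy.2]} =
        ↑Ind := by
      ext xy
      simp [hInd]
    rw [hset, Set.ncard_coe_finset]
  -- the finset version of `O`
  have hOcard : (Finset.univ.filter (fun S' : Matrix (Fin n) (Fin n) F => S' ∈ O)).card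
      = O.ncard := by
    have hset : O = ↑(Finset.univ.filter (fun S' : Matrix (Fin n) (Fin n) F => S' ∈ O)) := by
      ext S'
      simp
    conv_rhs => rw [hset, Set.ncard_coe_finset]
  -- lower bound
  have hL : I * q ^ (2 * n) ≤ q ^ 4 * ∑ xy, ∑ S', f S' xy := by
    calc I * q ^ (2 * n) = ∑ _xy ∈ Ind, q ^ (2 * n) := by
          rw [Finset.sum_const, smul_eq_mul, hIcard]
      _ ≤ ∑ xy ∈ Ind, q ^ 4 * ∑ S', f S' xy := by
          apply Finset.sum_le_sum
          intro xy hxy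
          rw [hfib1]
          exact hlow xy.1 xy.2 (by simpa [hInd] using hxy)
      _ ≤ ∑ xy, q ^ 4 * ∑ S', f S' xy := by
          apply Finset.sum_le_sum_of_subset_of_nonneg (Finset.subset_univ _)
          intro _ _ _
          exact Nat.zero_le _
      _ = q ^ 4 * ∑ xy, ∑ S', f S' xy := by rw [Finset.mul_sum]
  -- upper bound
  have hU : (∑ S', ∑ xy, f S' xy) * q ^ 4 ≤ O.ncard * (R * N * q ^ (2 * n)) := by
    calc (∑ S', ∑ xy, f S' xy) * q ^ 4 = ∑ S', (∑ xy, f S' xy) * q ^ 4 := by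
          rw [Finset.sum_mul]
      _ ≤ ∑ S' : Matrix (Fin n) (Fin n) F, if S' ∈ O then R * N * q ^ (2 * n) else 0 :=
          Finset.sum_le_sum (fun S' _ => hfib2 S')
      _ = O.ncard * (R * N * q ^ (2 * n)) := by
          rw [← Finset.sum_filter, Finset.sum_const, smul_eq_mul, hOcard]
  rw [Finset.sum_comm] at hL
  -- combine and cancel
  have hpos : 0 < q ^ 4 * q ^ (2 * n) := by positivity
  have hfin : I * (q ^ 4 * q ^ (2 * n)) ≤ (R * N * O.ncard) * (q ^ 4 * q ^ (2 * n)) := by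
    calc I * (q ^ 4 * q ^ (2 * n)) = (I * q ^ (2 * n)) * q ^ 4 := by ring
      _ ≤ (q ^ 4 * ∑ S', ∑ xy, f S' xy) * q ^ 4 := Nat.mul_le_mul_right _ hL
      _ = q ^ 4 * ((∑ S', ∑ xy, f S' xy) * q ^ 4) := by ring
      _ ≤ q ^ 4 * (O.ncard * (R * N * q ^ (2 * n))) := Nat.mul_le_mul_left _ hU
      _ = (R * N * O.ncard) * (q ^ 4 * q ^ (2 * n)) := by ring
  exact Nat.le_of_mul_le_mul_right hfin hpos

end Cfsg.Agent.Helper32.SPE
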