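import Mathlib
import Cfsg.Agent.Lib.Helper98.SPE0
import Cfsg.Agent.Lib.Helper32.SPEK8Core

/-!
# SPE (S2333) piece K8: `orbit_bound_of` with the pieces K5, K6, K6b, K7, K8a, Q6, Q7 as hypotheses
-/

set_option autoImplicit false

namespace Cfsg.Agent.Helper32.SPE

open Matrix Cfsg.Agent.Helper98.SPE

variable {F : Type*} [Field F] [Fintype F] {q : ℕ} (hq : Fintype.card F = q) {n : ℕ}

include hq in
/-- K8 from the statements of K5, K6, K6b, K7, K8a, Q6, Q7 (all for the same `F`, `n`, `q`). -/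
theorem h32_orbit_bound_of_gen
    (Q6 : ∀ (g S : Matrix (Fin n) (Fin n) F) (x : Fin n → F), qv (congQ g S) x = qv S (g *ᵥ x))
    (Q7 : ∀ (g S : Matrix (Fin n) (Fin n) F) (x y : Fin n → F),
      bv (congQ g S) x y = bv S (g *ᵥ x) (g *ᵥ y))
    (K6b : ∀ (S : Matrix (Fin n) (Fin n) F) (x y : Fin n → F), bv S x y ≠ 0 →
      LinearIndependent F ![x, y])
    (K7 : ∀ (x y x₀ y₀ : Fin n → F), LinearIndependent F ![x, y] →
      LinearIndependent F ![x₀, y₀] →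
      ∃ g : GL (Fin n) F, (g : Matrix (Fin n) (Fin n) F) *ᵥ x = x₀ ∧
        (g : Matrix (Fin n) (Fin n) F) *ᵥ y = y₀)
    (K8a : {xy : (Fin n → F) × (Fin n → F) | LinearIndependent F ![xy.1, xy.2]}.ncard
      = (q ^ n - 1) * (q ^ n - q))
    (K5 : ∀ (S : Matrix (Fin n) (Fin n) F) (a b c : F), b ≠ 0 → ∀ (N R : ℕ),
      (∀ e : F, {st : F × F | a * st.1 ^ 2 + b * st.1 * st.2 + c * st.2 ^ 2 = e}.ncard ≤ N) →
      (∀ d : F, {s : F | a * s ^ 2 + b * s = d}.ncard ≤ R) →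
      {xy : (Fin n → F) × (Fin n → F) |
        qv S xy.1 = a ∧ qv S xy.2 = c ∧ bv S xy.1 xy.2 = b}.ncard * q ^ 4
        ≤ R * N * q ^ (2 * n))
    (K6 : ∀ (O : Set (Matrix (Fin n) (Fin n) F)),
      (∀ g : GL (Fin n) F, ∀ S ∈ O, congQ (g : Matrix (Fin n) (Fin n) F) S ∈ O) →
      ∀ (S₁ : Matrix (Fin n) (Fin n) F), S₁ ∈ O → ∀ (x y : Fin n → F), bv S₁ x y ≠ 0 →
      q ^ (2 * n) ≤ q ^ 4 * {S' ∈ O | qv S' x = qv S₁ x ∧ qv S' y = qv S₁ y ∧
        bv S' x y = bv S₁ x y}.ncard)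
    (O : Set (Matrix (Fin n) (Fin n) F))
    (hcl : ∀ g : GL (Fin n) F, ∀ S ∈ O, congQ (g : Matrix (Fin n) (Fin n) F) S ∈ O)
    (S₀ : Matrix (Fin n) (Fin n) F) (hS₀ : S₀ ∈ O) (x y : Fin n → F) (a b c : F)
    (hx : qv S₀ x = a) (hy : qv S₀ y = c) (hxy : bv S₀ x y = b) (hb : b ≠ 0) (N R : ℕ)
    (hN : ∀ e : F, {st : F × F | a * st.1 ^ 2 + b * st.1 * st.2 + c * st.2 ^ 2 = e}.ncard ≤ N)
    (hR : ∀ d : F, {s : F | a * s ^ 2 + b * s = d}.ncard ≤ R) :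
    (q ^ n - 1) * (q ^ n - q) ≤ R * N * O.ncard := by
  have hq1 : 0 < q := by
    rw [← hq]
    exact Fintype.card_pos
  have hindep : LinearIndependent F ![x, y] := K6b S₀ x y (by rw [hxy]; exact hb)
  refine h32_orbit_bound_core q hq1 O a b c N R _ ?_ ?_ K8a
  · intro x' y' hxy'
    obtain ⟨g, hgx, hgy⟩ := K7 x' y' x y hxy' hindep
    have hS₁ : congQ (g : Matrix (Fin n) (Fin n) F) S₀ ∈ O := hcl g S₀ hS₀
    have e1 : qv (congQ (g : Matrix (Fin n) (Fin n) F) S₀) x' = a := by rw [Q6, hgx, hx]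
    have e2 : qv (congQ (g : Matrix (Fin n) (Fin n) F) S₀) y' = c := by rw [Q6, hgy, hy]
    have e3 : bv (congQ (g : Matrix (Fin n) (Fin n) F) S₀) x' y' = b := by
      rw [Q7, hgx, hgy, hxy]
    have h := K6 O hcl _ hS₁ x' y' (by rw [e3]; exact hb)
    rw [e1, e2, e3] at h
    exact h
  · intro S' _
    exact K5 S' a b c hb N R hN hR

end Cfsg.Agent.Helper32.SPE
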