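import Mathlib
import Cfsg.Agent.Lib.Helper52.Hyperplane

/-!
# Thompson's dihedral lemma: the element-level core

`A` is an elementary abelian `2`-subgroup of a finite group `G` normalizing the odd-order solvable
subgroup `L`; `B ≤ A` acts faithfully on `L`.  We produce elements `b i ∈ B`, `ℓ i ∈ L`
(`i < m`, `|B| = 2 ^ m`) of a "dihedral frame".
-/

namespace Cfsg.Agent.Helper32.TD

open Subgroup
open scoped commutatorElement

variable {G : Type*} [Group G]

/-- `ℓ` is an eigenvector of `A`: every `a ∈ A` centralizes or inverts `ℓ`. -/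
def EV (A : Subgroup G) (l : G) : Prop := ∀ a ∈ A, a * l * a⁻¹ = l ∨ a * l * a⁻¹ = l⁻¹

theorem inv_eq_self_of_sq {a : G} (h : a ^ 2 = 1) : a⁻¹ = a := by
  rw [inv_eq_iff_mul_eq_one, ← sq, h]

theorem conj_conj_of_sq {b : G} (hb : b ^ 2 = 1) (x : G) : b * (b * x * b⁻¹) * b⁻¹ = x := by
  have h1 : b * b = 1 := by rw [← sq, hb]
  have h2 : b⁻¹ * b⁻¹ = 1 := by rw [← mul_inv_rev, h1, inv_one]
  calc b * (b * x * b⁻¹) * b⁻¹ = (b * b) * x * (b⁻¹ * b⁻¹) := by group
    _ = x := by rw [h1, h2, one_mul, mul_one]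

theorem comm_iff_conj {b x : G} : b * x = x * b ↔ b * x * b⁻¹ = x := by
  rw [mul_inv_eq_iff_eq_mul]

theorem eq_one_of_sq_of_mem [Finite G] {L : Subgroup G} (hL : Odd (Nat.card L)) {y : G}
    (hy : y ∈ L) (h : y ^ 2 = 1) : y = 1 := by
  have h1 : orderOf y ∣ 2 := orderOf_dvd_of_pow_eq_one h
  have h2 : orderOf y ∣ Nat.card L := Subgroup.orderOf_dvd_natCard L hy
  have h3 : orderOf y ∣ Nat.gcd 2 (Nat.card L) := Nat.dvd_gcd h1 h2
  have h4 : Nat.gcd 2 (Nat.card L) = 1 := Nat.coprime_two_left.mpr hL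
  rw [h4, Nat.dvd_one, orderOf_eq_one_iff] at h3
  exact h3

/-- An element of `L` that is both centralized and inverted is trivial. -/
theorem eq_one_of_inv_eq_self [Finite G] {L : Subgroup G} (hL : Odd (Nat.card L)) {y : G}
    (hy : y ∈ L) (h : y = y⁻¹) : y = 1 := by
  apply eq_one_of_sq_of_mem hL hy
  rw [sq]
  nth_rewrite 1 [h]
  exact inv_mul_cancel y

/-- If the involution `b` commutes with `x⁻¹ * x^b` then it commutes with `x`. -/
theorem comm_of_comm_commutator [Finite G] {L : Subgroup G} (hL : Odd (Nat.card L)) {b x : G}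
    (hb : b ^ 2 = 1) (hx : x ∈ L) (hbx : b * x * b⁻¹ ∈ L)
    (h : b * (x⁻¹ * (b * x * b⁻¹)) = x⁻¹ * (b * x * b⁻¹) * b) : b * x = x * b := by
  have hyL : x⁻¹ * (b * x * b⁻¹) ∈ L := L.mul_mem (L.inv_mem hx) hbx
  have h1 : b * (x⁻¹ * (b * x * b⁻¹)) * b⁻¹ = (x⁻¹ * (b * x * b⁻¹))⁻¹ := by
    rw [← conj_mul, conj_conj_of_sq hb, mul_inv_rev, inv_inv, conj_inv]
  have h2 : b * (x⁻¹ * (b * x * b⁻¹)) * b⁻¹ = x⁻¹ * (b * x * b⁻¹) := comm_iff_conj.mp h
  have h3 : x⁻¹ * (b * x * b⁻¹) = 1 := eq_one_of_inv_eq_self hL hyL (h2.symm.trans h1)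
  rw [comm_iff_conj]
  have := congrArg (fun t => x * t) h3
  simpa using this

/-- If `b` fixes `y` and `x * y * x⁻¹`, then `x⁻¹ * x^b` commutes with `y`. -/
theorem commutator_comm_of_fix {b x y : G} (h1 : b * y = y * b)
    (h2 : b * (x * y * x⁻¹) = x * y * x⁻¹ * b) :
    x⁻¹ * (b * x * b⁻¹) * y = y * (x⁻¹ * (b * x * b⁻¹)) := by
  have h1' : b * y * b⁻¹ = y := comm_iff_conj.mp h1
  have h2' : b * (x * y * x⁻¹) * b⁻¹ = x * y * x⁻¹ := comm_iff_conj.mp h2
  have h3 : (b * x * b⁻¹) * y * (b * x * b⁻¹)⁻¹ = x * y * x⁻¹ := by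
    rw [← h2']
    nth_rewrite 1 [← h1']
    group
  have h4 : (b * x * b⁻¹) * y = x * y * x⁻¹ * (b * x * b⁻¹) := by
    rw [← h3]; group
  calc x⁻¹ * (b * x * b⁻¹) * y = x⁻¹ * ((b * x * b⁻¹) * y) := by group
    _ = x⁻¹ * (x * y * x⁻¹ * (b * x * b⁻¹)) := by rw [h4]
    _ = y * (x⁻¹ * (b * x * b⁻¹)) := by group

theorem EV_pow {A : Subgroup G} {l : G} (h : EV A l) (k : ℕ) : EV A (l ^ k) := by
  intro a ha
  rcases h a ha with h1 | h1
  · left; rw [← conj_pow, h1]
  · right; rw [← conj_pow, h1, inv_pow]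

theorem le_normalizer_of_forall {A H : Subgroup G} (h : ∀ a ∈ A, ∀ x ∈ H, a * x * a⁻¹ ∈ H) :
    A ≤ normalizer (H : Set G) := by
  intro a ha
  rw [mem_normalizer_iff]
  intro x
  constructor
  · exact h a ha x
  · intro hx
    have := h a⁻¹ (A.inv_mem ha) _ hx
    simpa [mul_assoc] using this

theorem conj_mem_of_le_normalizer {A L : Subgroup G} (hAL : A ≤ normalizer (L : Set G)) {a x : G}
    (ha : a ∈ A) (hx : x ∈ L) : a * x * a⁻¹ ∈ L :=
  (mem_normalizer_iff.mp (hAL ha) x).mp hx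

/-- **Eigenvector existence.** If `b ∈ A` does not centralize `L`, some `A`-eigenvector of prime
order in `L` is inverted by `b`. -/
theorem exists_eigenvector [Finite G] {A L : Subgroup G}
    (hAc : ∀ x ∈ A, ∀ y ∈ A, x * y = y * x) (hA2 : ∀ x ∈ A, x ^ 2 = 1)
    (hAL : A ≤ normalizer (L : Set G)) (hL : Odd (Nat.card L)) {b : G} (hb : b ∈ A)
    (hbL : ¬ ∀ x ∈ L, b * x = x * b) :
    ∃ l ∈ L, (orderOf l).Prime ∧ EV A l ∧ b * l * b⁻¹ = l⁻¹ := by
  have hMK : ¬ L ≤ centralizer ({b} : Set G) := by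
    intro h
    apply hbL
    intro x hx
    have := mem_centralizer_iff.mp (h hx) b rfl
    exact this
  obtain ⟨H, hHA, hidx, hH⟩ :=
    Cfsg.Agent.Helper52.exists_hyperplane_centralizer_not_le (p := 2) A L (centralizer ({b} : Set G))
      hAc hA2 hAL (Nat.coprime_two_right.mpr hL) hMK
  obtain ⟨x, hx, hxb⟩ := SetLike.not_le_iff_exists.mp hH
  obtain ⟨hxL, hxH⟩ := mem_inf.mp hx
  have hxb' : ¬ b * x = x * b := by
    intro h
    apply hxb
    rw [mem_centralizer_iff]
    intro c hc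
    rw [Set.mem_singleton_iff] at hc
    rw [hc]; exact h
  have hbH : b ∉ H := by
    intro h
    apply hxb'
    exact mem_centralizer_iff.mp hxH b h
  -- every element of `A` lies in `H` or in `H * b`
  have hcos : ∀ c ∈ A, c ∈ H ∨ c * b ∈ H := by
    have h2 : H.relIndex A = 2 := by
      have h0 : H.relIndex A ≠ 0 := by
        intro h
        have := relIndex_dvd_card H A
        rw [h, zero_dvd_iff] at this
        exact Nat.card_pos.ne' this
      have h1 : H.relIndex A ≠ 1 := by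
        intro h
        exact hbH (relIndex_eq_one.mp h hb)
      omega
    obtain ⟨a₀, ha₀A, ha₀H, hall⟩ := relIndex_eq_two_iff_exists_notMem_and.mp h2
    have hb0 : b * a₀ ∈ H := (hall b hb).resolve_right hbH
    intro c hc
    rcases hall c hc with h | h
    · right
      have : c * b = (c * a₀) * (b * a₀)⁻¹ := by
        rw [mul_inv_rev, inv_eq_self_of_sq (hA2 b hb)]; group
      rw [this]
      exact H.mul_mem h (H.inv_mem hb0)
    · left; exact h
  have hb2 := hA2 b hb
  have hbxL : b * x * b⁻¹ ∈ L := conj_mem_of_le_normalizer hAL hb hxL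
  -- the eigenvector
  have hl0L : x⁻¹ * (b * x * b⁻¹) ∈ L := L.mul_mem (L.inv_mem hxL) hbxL
  have hl0ne : x⁻¹ * (b * x * b⁻¹) ≠ 1 := by
    intro h
    apply hxb'
    rw [comm_iff_conj]
    have := congrArg (fun t => x * t) h
    simpa using this
  have hl0inv : b * (x⁻¹ * (b * x * b⁻¹)) * b⁻¹ = (x⁻¹ * (b * x * b⁻¹))⁻¹ := by
    rw [← conj_mul, conj_conj_of_sq hb2, mul_inv_rev, inv_inv, conj_inv]
  have hl0H : ∀ h ∈ H, h * (x⁻¹ * (b * x * b⁻¹)) * h⁻¹ = x⁻¹ * (b * x * b⁻¹) := by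
    intro h hh
    have e1 : h * x * h⁻¹ = x := comm_iff_conj.mp (mem_centralizer_iff.mp hxH h hh)
    have e2 : h * b * h⁻¹ = b := comm_iff_conj.mp (hAc h (hHA hh) b hb)
    have e3 : h * b⁻¹ * h⁻¹ = b⁻¹ := by rw [← conj_inv, e2]
    rw [← conj_mul, ← conj_mul, ← conj_mul, ← conj_inv, e1, e2, e3]
  generalize x⁻¹ * (b * x * b⁻¹) = l0 at hl0L hl0ne hl0inv hl0H
  have hEV0 : EV A l0 := by
    intro c hc
    rcases hcos c hc with h | h
    · left; exact hl0H c h
    · right
      have e := hl0H (c * b) h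
      have e2 : c * l0 * c⁻¹ = (c * b) * (b * l0 * b⁻¹) * (c * b)⁻¹ := by
        have : (c * b) * (b * l0 * b⁻¹) * (c * b)⁻¹ = c * (b * (b * l0 * b⁻¹) * b⁻¹) * c⁻¹ := by
          group
        rw [this, conj_conj_of_sq hb2]
      rw [e2, hl0inv, ← conj_inv, e]
  -- pass to a power of prime order
  have hord : orderOf l0 ≠ 1 := by
    rw [Ne, orderOf_eq_one_iff]; exact hl0ne
  obtain ⟨p, hp, hpd⟩ := Nat.exists_prime_and_dvd hord
  have hpos : 0 < orderOf l0 := orderOf_pos l0
  refine ⟨l0 ^ (orderOf l0 / p), L.pow_mem hl0L _, ?_, EV_pow hEV0 _, ?_⟩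
  · rw [orderOf_pow_orderOf_div hpos.ne' hpd]; exact hp
  · rw [← conj_pow, hl0inv, inv_pow]

theorem exists_ne_one_of_ne_bot {B : Subgroup G} (h : B ≠ ⊥) : ∃ b ∈ B, b ≠ 1 := by
  by_contra hcon
  push Not at hcon
  exact h ((Subgroup.eq_bot_iff_forall B).mpr hcon)

theorem eq_one_of_centralizes {B L : Subgroup G} (hfaith : B ⊓ centralizer (L : Set G) = ⊥) {b : G}
    (hb : b ∈ B) (h : ∀ x ∈ L, b * x = x * b) : b = 1 := by
  have : b ∈ B ⊓ centralizer (L : Set G) :=
    mem_inf.mpr ⟨hb, mem_centralizer_iff.mpr (fun x hx => (h x hx).symm)⟩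
  rw [hfaith] at this
  exact mem_bot.mp this

theorem conj_mem_commutator_self {L : Subgroup G} {z y : G} (hz : z ∈ L) (hy : y ∈ ⁅L, L⁆) :
    z * y * z⁻¹ ∈ ⁅L, L⁆ := by
  have h1 : ⁅z, y⁆ ∈ ⁅L, L⁆ := Subgroup.commutator_mem_commutator hz (Subgroup.commutator_le_self L hy)
  have h2 : z * y * z⁻¹ = ⁅z, y⁆ * y := by rw [commutatorElement_def]; group
  rw [h2]
  exact Subgroup.mul_mem _ h1 hy

/-- **Crux.** If `B ≠ ⊥` acts faithfully on `L`, there is an `A`-eigenvector `l ∈ L` of prime order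
inverted by some element of `B`, such that `C_B(l)` is faithful on `C_L(l)`. -/
theorem crux [Finite G] {A : Subgroup G}
    (hAc : ∀ x ∈ A, ∀ y ∈ A, x * y = y * x) (hA2 : ∀ x ∈ A, x ^ 2 = 1) :
    ∀ (n : ℕ) (L B : Subgroup G), Nat.card L = n → Group.IsSolvable L → Odd (Nat.card L) →
      A ≤ normalizer (L : Set G) → B ≤ A → B ≠ ⊥ → B ⊓ centralizer (L : Set G) = ⊥ →
      ∃ l ∈ L, (orderOf l).Prime ∧ EV A l ∧ (∃ b ∈ B, b * l * b⁻¹ = l⁻¹) ∧
        ∀ b ∈ B, b * l = l * b → (∀ x ∈ L, x * l = l * x → b * x = x * b) → b = 1 := by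
  intro n
  induction n using Nat.strong_induction_on with
  | _ n ih =>
  intro L B hn hLs hLodd hAL hBA hB1 hfaith
  have hL'L : ⁅L, L⁆ ≤ L := Subgroup.commutator_le_self L
  by_cases hcase : L ≤ centralizer ((⁅L, L⁆ : Subgroup G) : Set G)
  · obtain ⟨b, hbB, hb1⟩ := exists_ne_one_of_ne_bot hB1
    have hbL : ¬ ∀ x ∈ L, b * x = x * b := fun h => hb1 (eq_one_of_centralizes hfaith hbB h)
    obtain ⟨l, hlL, hprime, hEV, hinv⟩ := exists_eigenvector hAc hA2 hAL hLodd (hBA hbB) hbL
    refine ⟨l, hlL, hprime, hEV, ⟨b, hbB, hinv⟩, ?_⟩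
    intro b' hb'B hb'l hb'C
    apply eq_one_of_centralizes hfaith hb'B
    intro x hx
    have hb'A := hBA hb'B
    have hcx : b' * x * b'⁻¹ ∈ L := conj_mem_of_le_normalizer hAL hb'A hx
    apply comm_of_comm_commutator hLodd (hA2 b' hb'A) hx hcx
    apply hb'C _ (L.mul_mem (L.inv_mem hx) hcx)
    apply commutator_comm_of_fix hb'l
    have hc : ⁅x, l⁆ ∈ ⁅L, L⁆ := Subgroup.commutator_mem_commutator hx hlL
    have hcl : ⁅x, l⁆ * l = l * ⁅x, l⁆ := mem_centralizer_iff.mp (hcase hlL) _ hc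
    have hbc : b' * ⁅x, l⁆ = ⁅x, l⁆ * b' := hb'C _ (hL'L hc) hcl
    have hxl : x * l * x⁻¹ = ⁅x, l⁆ * l := by rw [commutatorElement_def]; group
    rw [hxl, ← mul_assoc, hbc, mul_assoc, hb'l, mul_assoc]
  · have hLne : L ≠ ⊥ := by
      intro h
      apply hcase
      rw [h]; exact bot_le
    have hL'ne : ⁅L, L⁆ ≠ L := by
      intro h
      have : Nontrivial L := (Subgroup.nontrivial_iff_ne_bot L).mpr hLne
      have h1 : commutator L < ⊤ := Group.IsSolvable.commutator_lt_top_of_nontrivial L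
      apply h1.ne
      apply Subgroup.map_injective L.subtype_injective
      rw [Subgroup.map_subtype_commutator, h, ← MonoidHom.range_eq_map, Subgroup.range_subtype]
    have hL'lt : Nat.card (⁅L, L⁆ : Subgroup G) < n :=
      hn ▸ Cfsg.Agent.Helper48.card_lt_of_le_of_ne hL'L hL'ne
    have hAL' : A ≤ normalizer ((⁅L, L⁆ : Subgroup G) : Set G) := by
      apply le_normalizer_of_forall
      intro a ha z hz
      have hle : (⁅L, L⁆).map (MulAut.conj a).toMonoidHom ≤ ⁅L, L⁆ := by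
        rw [Subgroup.map_commutator]
        apply Subgroup.commutator_mono <;>
          (rintro _ ⟨y, hy, rfl⟩; exact conj_mem_of_le_normalizer hAL ha hy)
      exact hle ⟨z, hz, rfl⟩
    have hL's : Group.IsSolvable (⁅L, L⁆ : Subgroup G) :=
      Group.isSolvable_of_isSolvable_injective (Subgroup.inclusion_injective hL'L)
    have hL'odd : Odd (Nat.card (⁅L, L⁆ : Subgroup G)) :=
      Odd.of_dvd_nat hLodd (Subgroup.card_dvd_of_le hL'L)
    by_cases hB0 : B ⊓ centralizer ((⁅L, L⁆ : Subgroup G) : Set G) = ⊥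
    · obtain ⟨l, hlL', hprime, hEV, hinv, hF⟩ :=
        ih _ hL'lt ⁅L, L⁆ B rfl hL's hL'odd hAL' hBA hB1 hB0
      refine ⟨l, hL'L hlL', hprime, hEV, hinv, ?_⟩
      intro b hb hbl hbC
      exact hF b hb hbl (fun x hx hxl => hbC x (hL'L hx) hxl)
    · have hKL : L ⊓ centralizer ((⁅L, L⁆ : Subgroup G) : Set G) ≤ L := inf_le_left
      have hKne : L ⊓ centralizer ((⁅L, L⁆ : Subgroup G) : Set G) ≠ L := by
        intro h
        apply hcase
        exact h.ge.trans inf_le_right
      have hKlt : Nat.card (L ⊓ centralizer ((⁅L, L⁆ : Subgroup G) : Set G) : Subgroup G) < n :=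
        hn ▸ Cfsg.Agent.Helper48.card_lt_of_le_of_ne hKL hKne
      have hAK : A ≤ normalizer ((L ⊓ centralizer ((⁅L, L⁆ : Subgroup G) : Set G) : Subgroup G) : Set G) := by
        apply le_normalizer_of_forall
        intro a ha x hx
        obtain ⟨hxL, hxC⟩ := mem_inf.mp hx
        refine mem_inf.mpr ⟨conj_mem_of_le_normalizer hAL ha hxL, ?_⟩
        rw [mem_centralizer_iff]
        intro y hy
        have hy' := conj_mem_of_le_normalizer hAL' (A.inv_mem ha) hy
        have hcomm := mem_centralizer_iff.mp hxC _ hy'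
        calc y * (a * x * a⁻¹) = a * ((a⁻¹ * y * a⁻¹⁻¹) * x) * a⁻¹ := by group
          _ = a * (x * (a⁻¹ * y * a⁻¹⁻¹)) * a⁻¹ := by rw [hcomm]
          _ = a * x * a⁻¹ * y := by group
      have hKs : Group.IsSolvable (L ⊓ centralizer ((⁅L, L⁆ : Subgroup G) : Set G) : Subgroup G) :=
        Group.isSolvable_of_isSolvable_injective (Subgroup.inclusion_injective hKL)
      have hKodd : Odd (Nat.card (L ⊓ centralizer ((⁅L, L⁆ : Subgroup G) : Set G) : Subgroup G)) :=
        Odd.of_dvd_nat hLodd (Subgroup.card_dvd_of_le hKL)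
      have hB0A : B ⊓ centralizer ((⁅L, L⁆ : Subgroup G) : Set G) ≤ A := inf_le_left.trans hBA
      have hB0faith : (B ⊓ centralizer ((⁅L, L⁆ : Subgroup G) : Set G)) ⊓
          centralizer ((L ⊓ centralizer ((⁅L, L⁆ : Subgroup G) : Set G) : Subgroup G) : Set G) = ⊥ := by
        rw [Subgroup.eq_bot_iff_forall]
        intro x hx
        obtain ⟨hx0, hxK⟩ := mem_inf.mp hx
        obtain ⟨hxB, hxL'⟩ := mem_inf.mp hx0
        apply eq_one_of_centralizes hfaith hxB
        intro z hz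
        have hxA := hBA hxB
        have hcz : x * z * x⁻¹ ∈ L := conj_mem_of_le_normalizer hAL hxA hz
        apply comm_of_comm_commutator hLodd (hA2 x hxA) hz hcz
        have hwK : z⁻¹ * (x * z * x⁻¹) ∈ L ⊓ centralizer ((⁅L, L⁆ : Subgroup G) : Set G) := by
          refine mem_inf.mpr ⟨L.mul_mem (L.inv_mem hz) hcz, ?_⟩
          rw [mem_centralizer_iff]
          intro y hy
          have h1 : x * y = y * x := (mem_centralizer_iff.mp hxL' y hy).symm
          have h2 : x * (z * y * z⁻¹) = z * y * z⁻¹ * x :=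
            (mem_centralizer_iff.mp hxL' _ (conj_mem_commutator_self hz hy)).symm
          exact (commutator_comm_of_fix h1 h2).symm
        exact (mem_centralizer_iff.mp hxK _ hwK).symm
      obtain ⟨l, hlK, hprime, hEV, ⟨b, hbB0, hinv⟩, hF⟩ :=
        ih _ hKlt _ _ rfl hKs hKodd hAK hB0A hB0 hB0faith
      obtain ⟨hlL, hlC⟩ := mem_inf.mp hlK
      refine ⟨l, hlL, hprime, hEV, ⟨b, (mem_inf.mp hbB0).1, hinv⟩, ?_⟩
      intro b' hb'B hb'l hb'C
      have hb'B0 : b' ∈ B ⊓ centralizer ((⁅L, L⁆ : Subgroup G) : Set G) :=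
        mem_inf.mpr ⟨hb'B, mem_centralizer_iff.mpr (fun y hy =>
          (hb'C y (hL'L hy) (mem_centralizer_iff.mp hlC y hy)).symm)⟩
      exact hF b' hb'B0 hb'l (fun x hx hxl => hb'C x (mem_inf.mp hx).1 hxl)

theorem conj_mul_eq (c b l : G) : (c * b) * l * (c * b)⁻¹ = c * (b * l * b⁻¹) * c⁻¹ := by group

/-- **Dihedral frame.** `B ≤ A` of order `2 ^ m` faithful on `L`: there are `b i ∈ B` and
`A`-eigenvectors `l i ∈ L` of prime order (`i < m`) with `b i` inverting `l i`, centralizing `l j`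
(`j ≠ i`), the `l i` commuting pairwise, the `b i` generating `B`, and `B` faithful on the `l i`. -/
theorem exists_frame [Finite G] {A : Subgroup G}
    (hAc : ∀ x ∈ A, ∀ y ∈ A, x * y = y * x) (hA2 : ∀ x ∈ A, x ^ 2 = 1) :
    ∀ (m : ℕ) (L B : Subgroup G), Group.IsSolvable L → Odd (Nat.card L) →
      A ≤ normalizer (L : Set G) → B ≤ A → Nat.card B = 2 ^ m → B ⊓ centralizer (L : Set G) = ⊥ →
      ∃ b l : ℕ → G,
        (∀ i < m, b i ∈ B ∧ l i ∈ L ∧ (orderOf (l i)).Prime ∧ EV A (l i) ∧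
          b i * l i * (b i)⁻¹ = (l i)⁻¹) ∧
        (∀ i < m, ∀ j < m, i ≠ j → b i * l j = l j * b i ∧ l i * l j = l j * l i) ∧
        (∀ x ∈ B, x ∈ closure (b '' Set.Iio m)) ∧
        (∀ x ∈ B, (∀ i < m, x * l i = l i * x) → x = 1) := by
  intro m
  induction m with
  | zero =>
    intro L B _ _ _ _ hcard _
    have hB : B = ⊥ := by
      rw [pow_zero] at hcard
      exact Subgroup.card_eq_one.mp hcard
    refine ⟨fun _ => 1, fun _ => 1, ?_, ?_, ?_, ?_⟩
    · intro i hi; omega
    · intro i hi; omega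
    · intro x hx; rw [hB, mem_bot] at hx; rw [hx]; exact one_mem _
    · intro x hx _; rw [hB, mem_bot] at hx; exact hx
  | succ m ih =>
    intro L B hLs hLodd hAL hBA hcard hfaith
    have hB1 : B ≠ ⊥ := by
      intro h
      rw [h, Subgroup.card_bot] at hcard
      have : 2 ≤ 2 ^ (m + 1) := by
        calc 2 = 2 ^ 1 := by norm_num
          _ ≤ 2 ^ (m + 1) := Nat.pow_le_pow_right (by norm_num) (by omega)
      omega
    obtain ⟨l1, hl1L, hprime, hEV, ⟨b0, hb0B, hb0inv⟩, hF⟩ :=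
      crux hAc hA2 _ L B rfl hLs hLodd hAL hBA hB1 hfaith
    have hl1ne : l1 ≠ 1 := by
      intro h
      rw [h, orderOf_one] at hprime
      exact Nat.not_prime_one hprime
    have hnotboth : ∀ c, c * l1 * c⁻¹ = l1⁻¹ → ¬ (c * l1 = l1 * c) := by
      intro c h1 h2
      rw [comm_iff_conj] at h2
      exact hl1ne (eq_one_of_inv_eq_self hLodd hl1L (h2.symm.trans h1))
    have hL1L : L ⊓ centralizer ({l1} : Set G) ≤ L := inf_le_left
    have hB1B : B ⊓ centralizer ({l1} : Set G) ≤ B := inf_le_left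
    -- products of two inverting elements centralize
    have hprod : ∀ c d, c * l1 * c⁻¹ = l1⁻¹ → d * l1 * d⁻¹ = l1⁻¹ → (c * d) * l1 = l1 * (c * d) := by
      intro c d hc hd
      rw [comm_iff_conj, conj_mul_eq, hd, ← conj_inv, hc, inv_inv]
    have hidx : (B ⊓ centralizer ({l1} : Set G)).relIndex B = 2 := by
      rw [relIndex_eq_two_iff_exists_notMem_and]
      refine ⟨b0, hb0B, ?_, ?_⟩
      · intro h
        exact hnotboth b0 hb0inv (mem_centralizer_singleton_iff.mp (mem_inf.mp h).2)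
      · intro c hc
        rcases hEV c (hBA hc) with h | h
        · right
          exact mem_inf.mpr ⟨hc, mem_centralizer_singleton_iff.mpr (comm_iff_conj.mpr h)⟩
        · left
          exact mem_inf.mpr ⟨B.mul_mem hc hb0B,
            mem_centralizer_singleton_iff.mpr (hprod c b0 h hb0inv)⟩
    have hB1card : Nat.card (B ⊓ centralizer ({l1} : Set G) : Subgroup G) = 2 ^ m := by
      have h := relIndex_mul_relIndex ⊥ (B ⊓ centralizer ({l1} : Set G)) B bot_le hB1B
      rw [relIndex_bot_left, relIndex_bot_left, hidx, hcard, pow_succ] at h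
      exact Nat.eq_of_mul_eq_mul_right (by norm_num) h
    have hL1s : Group.IsSolvable (L ⊓ centralizer ({l1} : Set G) : Subgroup G) :=
      Group.isSolvable_of_isSolvable_injective (Subgroup.inclusion_injective hL1L)
    have hL1odd : Odd (Nat.card (L ⊓ centralizer ({l1} : Set G) : Subgroup G)) :=
      Odd.of_dvd_nat hLodd (Subgroup.card_dvd_of_le hL1L)
    have hAL1 : A ≤ normalizer ((L ⊓ centralizer ({l1} : Set G) : Subgroup G) : Set G) := by
      apply le_normalizer_of_forall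
      intro a ha x hx
      obtain ⟨hxL, hxC⟩ := mem_inf.mp hx
      refine mem_inf.mpr ⟨conj_mem_of_le_normalizer hAL ha hxL, ?_⟩
      rw [mem_centralizer_singleton_iff] at hxC ⊢
      -- a⁻¹ acts on l1 by ±1
      have hxC' : x * l1⁻¹ = l1⁻¹ * x := (Commute.inv_right (show Commute x l1 from hxC)).eq
      rcases hEV a⁻¹ (A.inv_mem ha) with h | h
      · rw [inv_inv] at h
        calc a * x * a⁻¹ * l1 = a * (x * (a⁻¹ * l1 * a)) * a⁻¹ := by group
          _ = a * ((a⁻¹ * l1 * a) * x) * a⁻¹ := by rw [h, hxC]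
          _ = l1 * (a * x * a⁻¹) := by group
      · rw [inv_inv] at h
        calc a * x * a⁻¹ * l1 = a * (x * (a⁻¹ * l1 * a)) * a⁻¹ := by group
          _ = a * ((a⁻¹ * l1 * a) * x) * a⁻¹ := by rw [h, hxC']
          _ = l1 * (a * x * a⁻¹) := by group
    have hB1A : B ⊓ centralizer ({l1} : Set G) ≤ A := hB1B.trans hBA
    have hB1faith : (B ⊓ centralizer ({l1} : Set G)) ⊓
        centralizer ((L ⊓ centralizer ({l1} : Set G) : Subgroup G) : Set G) = ⊥ := by
      rw [Subgroup.eq_bot_iff_forall]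
      intro x hx
      obtain ⟨hx1, hx2⟩ := mem_inf.mp hx
      obtain ⟨hxB, hxl⟩ := mem_inf.mp hx1
      apply hF x hxB (mem_centralizer_singleton_iff.mp hxl)
      intro y hy hyl
      exact (mem_centralizer_iff.mp hx2 y
        (mem_inf.mpr ⟨hy, mem_centralizer_singleton_iff.mpr hyl⟩)).symm
    obtain ⟨b, l, hP1, hP2, hP3, hP4⟩ := ih _ _ hL1s hL1odd hAL1 hB1A hB1card hB1faith
    have hadj : ∀ k ≤ m, ∃ c ∈ B, c * l1 * c⁻¹ = l1⁻¹ ∧ ∀ i < k, c * l i = l i * c := by
      intro k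
      induction k with
      | zero => intro _; exact ⟨b0, hb0B, hb0inv, fun i hi => absurd hi (Nat.not_lt_zero i)⟩
      | succ k ihk =>
        intro hk
        obtain ⟨c, hcB, hcinv, hcc⟩ := ihk (by omega)
        have hkm : k < m := by omega
        obtain ⟨hbkB1, hlkL1, hlkprime, hlkEV, hbkinv⟩ := hP1 k hkm
        rcases hlkEV c (hBA hcB) with h | h
        · refine ⟨c, hcB, hcinv, ?_⟩
          intro i hi
          rcases Nat.lt_succ_iff_lt_or_eq.mp hi with h' | h'
          · exact hcc i h'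
          · rw [h']; exact comm_iff_conj.mpr h
        · refine ⟨c * b k, B.mul_mem hcB (hB1B hbkB1), ?_, ?_⟩
          · have hbk1 : b k * l1 * (b k)⁻¹ = l1 :=
              comm_iff_conj.mp (mem_centralizer_singleton_iff.mp (mem_inf.mp hbkB1).2)
            rw [conj_mul_eq, hbk1, hcinv]
          · intro i hi
            rcases Nat.lt_succ_iff_lt_or_eq.mp hi with h' | h'
            · have h1 := hcc i h'
              have h2 := (hP2 k hkm i (by omega) (by omega)).1
              rw [mul_assoc, h2, ← mul_assoc, h1, mul_assoc]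
            · rw [h', comm_iff_conj, conj_mul_eq, hbkinv, ← conj_inv, h, inv_inv]
    obtain ⟨bn, hbnB, hbninv, hbnc⟩ := hadj m le_rfl
    refine ⟨fun i => if i = m then bn else b i, fun i => if i = m then l1 else l i, ?_, ?_, ?_, ?_⟩
    · intro i hi
      by_cases him : i = m
      · simp only [if_pos him]
        exact ⟨hbnB, hl1L, hprime, hEV, hbninv⟩
      · have him' : i < m := by omega
        simp only [if_neg him]
        obtain ⟨h1, h2, h3, h4, h5⟩ := hP1 i him'
        exact ⟨hB1B h1, (mem_inf.mp h2).1, h3, h4, h5⟩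
    · intro i hi j hj hij
      by_cases him : i = m
      · have hjm : j ≠ m := by omega
        have hjm' : j < m := by omega
        simp only [if_pos him, if_neg hjm]
        refine ⟨hbnc j hjm', ?_⟩
        exact (mem_centralizer_singleton_iff.mp (mem_inf.mp (hP1 j hjm').2.1).2).symm
      · have him' : i < m := by omega
        by_cases hjm : j = m
        · simp only [if_neg him, if_pos hjm]
          exact ⟨mem_centralizer_singleton_iff.mp (mem_inf.mp (hP1 i him').1).2,
            mem_centralizer_singleton_iff.mp (mem_inf.mp (hP1 i him').2.1).2⟩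
        · simp only [if_neg him, if_neg hjm]
          exact hP2 i him' j (by omega) hij
    · intro x hx
      have hsub : closure (b '' Set.Iio m) ≤
          closure ((fun i => if i = m then bn else b i) '' Set.Iio (m + 1)) := by
        apply Subgroup.closure_mono
        rintro _ ⟨i, hi, rfl⟩
        have hi' : i < m := hi
        refine ⟨i, Nat.lt_succ_of_lt hi', ?_⟩
        have : i ≠ m := ne_of_lt hi'
        simp only [if_neg this]
      have hbn : bn ∈ closure ((fun i => if i = m then bn else b i) '' Set.Iio (m + 1)) := by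
        apply Subgroup.subset_closure
        exact ⟨m, Nat.lt_succ_self m, by simp⟩
      rcases hEV x (hBA hx) with h | h
      · apply hsub
        apply hP3
        exact mem_inf.mpr ⟨hx, mem_centralizer_singleton_iff.mpr (comm_iff_conj.mpr h)⟩
      · have hxb : x * bn ∈ B ⊓ centralizer ({l1} : Set G) :=
          mem_inf.mpr ⟨B.mul_mem hx hbnB, mem_centralizer_singleton_iff.mpr (hprod x bn h hbninv)⟩
        have : x = (x * bn) * bn⁻¹ := by group
        rw [this]
        exact mul_mem (hsub (hP3 _ hxb)) (inv_mem hbn)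
    · intro x hx hall
      have h1 : x * l1 = l1 * x := by
        have := hall m (Nat.lt_succ_self m)
        simpa using this
      apply hP4 x (mem_inf.mpr ⟨hx, mem_centralizer_singleton_iff.mpr h1⟩)
      intro i hi
      have := hall i (Nat.lt_succ_of_lt hi)
      have hne : i ≠ m := ne_of_lt hi
      simpa [if_neg hne] using this

end Cfsg.Agent.Helper32.TD
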