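import Mathlib

set_option autoImplicit false

namespace Cfsg.Agent.Helper32

open Subgroup

section

variable {L : Type*} [Group L] {M : Type*} [CommGroup M] [MulDistribMulAction L M]

/-- the subgroup of `M` fixed elementwise by the subgroup `T` of `L`. -/
def fixedSub (T : Subgroup L) : Subgroup M where
  carrier := {c | ∀ t ∈ T, t • c = c}
  mul_mem' := by
    intro a b ha hb t ht
    rw [smul_mul', ha t ht, hb t ht]
  one_mem' := by
    intro t _
    exact smul_one t
  inv_mem' := by
    intro a ha t ht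
    rw [smul_inv', ha t ht]

theorem mem_fixedSub (T : Subgroup L) (c : M) : c ∈ fixedSub (M := M) T ↔ ∀ t ∈ T, t • c = c := Iff.rfl

/-- **Trace splitting.** `L` finite acting on the finite abelian `p`-group `M`, `T` a Sylow `p`-subgroup of `L`:
`C_M(L)` is a direct factor of `C_M(T)`. -/
theorem exists_complement_fixedSub [Finite L] [Finite M] {p : ℕ} [Fact p.Prime] (hM : IsPGroup p M)
    (T : Sylow p L) :
    ∃ K : Subgroup M, K ≤ fixedSub (M := M) (T : Subgroup L) ∧
      fixedSub (M := M) (⊤ : Subgroup L) ⊓ K = ⊥ ∧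
      fixedSub (M := M) (⊤ : Subgroup L) ⊔ K = fixedSub (M := M) (T : Subgroup L) := by
  classical
  letI : Fintype (L ⧸ (T : Subgroup L)) := Fintype.ofFinite _
  set k := Nat.card (L ⧸ (T : Subgroup L)) with hk
  have hkidx : k = (T : Subgroup L).index := rfl
  have hkp : ¬ p ∣ k := by
    rw [hkidx]; exact T.not_dvd_index
  obtain ⟨e, he⟩ := IsPGroup.iff_card.mp hM
  have hcopk : (p ^ e).Coprime k := by
    apply Nat.Coprime.pow_left
    exact (Nat.Prime.coprime_iff_not_dvd (Fact.out)).mpr hkp
  have hcop : (Nat.card M).Coprime k := by rw [he]; exact hcopk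
  set CT := fixedSub (M := M) (T : Subgroup L) with hCT
  set CL := fixedSub (M := M) (⊤ : Subgroup L) with hCL
  have hCLT : CL ≤ CT := fun c hc t _ => hc t (mem_top t)
  -- the trace map
  let τ : M →* M :=
    { toFun := fun m => ∏ q : L ⧸ (T : Subgroup L), (q.out • m)
      map_one' := by simp
      map_mul' := by
        intro a b
        simp only [smul_mul']
        exact Finset.prod_mul_distrib }
  have hτ : ∀ m : M, τ m = ∏ q : L ⧸ (T : Subgroup L), (q.out • m) := fun m => rfl
  have hτCL : ∀ c ∈ CL, τ c = c ^ k := by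
    intro c hc
    rw [hτ]
    have : ∀ q : L ⧸ (T : Subgroup L), q.out • c = c := fun q => hc _ (mem_top _)
    simp_rw [this]
    rw [Finset.prod_const, Finset.card_univ, hk, Nat.card_eq_fintype_card]
  have hτCT : ∀ c ∈ CT, τ c ∈ CL := by
    intro c₀ hc₀ l _
    have hF : ∀ x : L, ((QuotientGroup.mk x : L ⧸ (T : Subgroup L)).out) • c₀ = x • c₀ := by
      intro x
      obtain ⟨t, ht⟩ := QuotientGroup.mk_out_eq_mul (T : Subgroup L) x
      rw [ht, mul_smul, hc₀ t t.2]
    rw [hτ]
    have e1 : l • (∏ q : L ⧸ (T : Subgroup L), (q.out • c₀)) = ∏ q : L ⧸ (T : Subgroup L), l • (q.out • c₀) :=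
      map_prod (MulDistribMulAction.toMonoidHom M l) _ _
    rw [e1]
    have e2 : ∀ q : L ⧸ (T : Subgroup L), l • (q.out • c₀) = ((l • q).out) • c₀ := by
      intro q
      have : l • q = QuotientGroup.mk (l * q.out) := by
        conv_lhs => rw [← QuotientGroup.out_eq' q]
        rfl
      rw [this, hF, mul_smul]
    simp_rw [e2]
    exact Equiv.prod_comp (MulAction.toPerm l : Equiv.Perm (L ⧸ (T : Subgroup L))) (fun q => q.out • c₀)
  refine ⟨CT ⊓ τ.ker, inf_le_left, ?_, ?_⟩
  · rw [eq_bot_iff]
    intro c hc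
    rw [mem_bot]
    obtain ⟨hc1, -, hc3⟩ := hc
    have hc1' : c ∈ CL := hc1
    have hc3' : τ c = 1 := MonoidHom.mem_ker.mp hc3
    rw [hτCL c hc1'] at hc3'
    have hc3 := hc3'
    apply (Nat.Coprime.pow_left_bijective hcop).1
    simp only [one_pow]
    exact hc3
  · apply le_antisymm
    · exact sup_le hCLT inf_le_left
    · intro c hc
      have h1 : τ c ∈ CL := hτCT c hc
      have hcopCL : (Nat.card CL).Coprime k :=
        Nat.Coprime.coprime_dvd_left (Subgroup.card_subgroup_dvd_card CL) hcop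
      obtain ⟨w, hw⟩ := (Nat.Coprime.pow_left_bijective hcopCL).2 (⟨τ c, h1⟩ : CL)
      have hw' : (w : M) ^ k = τ c := by
        have := congrArg Subtype.val hw
        simpa using this
      have h2 : c = (w : M) * (c * (w : M)⁻¹) := by
        rw [mul_comm c, ← mul_assoc, mul_inv_cancel, one_mul]
      rw [h2]
      apply Subgroup.mul_mem_sup w.2
      refine ⟨CT.mul_mem hc (CT.inv_mem (hCLT w.2)), ?_⟩
      show c * (w : M)⁻¹ ∈ τ.ker
      rw [MonoidHom.mem_ker, map_mul, map_inv, hτCL _ w.2, hw', mul_inv_cancel]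

end

end Cfsg.Agent.Helper32
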